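import Groth.Agent.HypercovLib.Cone
import Mathlib

/-! # The free complex of a hypercovering resolves the constant sheaf -/

set_option autoImplicit false
universe u

open CategoryTheory CategoryTheory.Limits Opposite SimplexCategory Simplicial AlgebraicTopology

noncomputable section

namespace HypercovLib

variable {C : Type u} [SmallCategory C] (K : SimplicialObject (FormalCoproduct.{u} C))

/-- The free abelian presheaves on the simplices. -/
abbrev freeSObj : SimplicialObject (Cᵒᵖ ⥤ AddCommGrpCat.{u}) :=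
  (K ⋙ FormalCoproduct.yoneda) ⋙ (Functor.whiskeringRight _ _ _).obj AddCommGrpCat.free.{u}

/-- The free chain complex of presheaves. -/
abbrev freeCx : ChainComplex (Cᵒᵖ ⥤ AddCommGrpCat.{u}) ℕ :=
  (alternatingFaceMapComplex _).obj (freeSObj K)

/-- The chains over an object. -/
abbrev chains (n : ℕ) (U : C) : Type u := FreeAbelianGroup ((Y K n).obj (op U))

/-- The differential on chains. -/
def dd (n : ℕ) (U : C) : chains K (n + 1) U →+ chains K n U :=
  ∑ i : Fin (n + 2), ((-1 : ℤ) ^ (i : ℕ)) • FreeAbelianGroup.map (face K i)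

theorem sum_hom_apply {ι : Type*} (s : Finset ι) {A B : AddCommGrpCat.{u}} (f : ι → (A ⟶ B)) (x : A) :
    (∑ i ∈ s, f i) x = ∑ i ∈ s, f i x := by
  classical
  induction s using Finset.induction with
  | empty => simp
  | insert a s ha ih => rw [Finset.sum_insert ha, Finset.sum_insert ha, ← ih]; rfl

theorem freeCx_d_apply (n : ℕ) (U : C) (c : chains K (n + 1) U) :
    ((freeCx K).d (n + 1) n).app (op U) c = dd K n U c := by
  rw [alternatingFaceMapComplex_obj_d]
  simp only [AlternatingFaceMapComplex.objD, NatTrans.app_sum, NatTrans.app_zsmul]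
  refine (sum_hom_apply (A := ((freeCx K).X (n + 1)).obj (op U)) (B := ((freeCx K).X n).obj (op U)) Finset.univ _ c).trans ?_
  simp only [dd, AddMonoidHom.finset_sum_apply]
  refine Finset.sum_congr rfl fun i _ => ?_
  rfl

theorem dd_of (n : ℕ) {U : C} (y : (Y K (n + 1)).obj (op U)) :
    dd K n U (FreeAbelianGroup.of y) = ∑ i : Fin (n + 2), ((-1 : ℤ) ^ (i : ℕ)) • FreeAbelianGroup.of (face K i y) := by
  simp only [dd, AddMonoidHom.finset_sum_apply, AddMonoidHom.smul_apply, FreeAbelianGroup.map_of_apply]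

/-- Restriction of chains. -/
abbrev resC {n : ℕ} {U V : C} (f : V ⟶ U) (c : chains K n U) : chains K n V :=
  FreeAbelianGroup.map (res K f) c

/-- Every chain is a combination of finitely many simplices. -/
theorem exists_finite {X : Type u} (c : FreeAbelianGroup X) :
    ∃ s : Finset X, c ∈ AddSubgroup.closure (FreeAbelianGroup.of '' (s : Set X)) := by
  classical
  induction c using FreeAbelianGroup.induction_on with
  | zero => exact ⟨∅, zero_mem _⟩
  | of x => exact ⟨{x}, AddSubgroup.subset_closure ⟨x, by simp, rfl⟩⟩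
  | neg x ih => obtain ⟨s, hs⟩ := ih; exact ⟨s, neg_mem hs⟩
  | add x y hx hy =>
    obtain ⟨s, hs⟩ := hx
    obtain ⟨t, ht⟩ := hy
    exact ⟨s ∪ t, add_mem (AddSubgroup.closure_mono (Set.image_mono (by simp)) hs)
      (AddSubgroup.closure_mono (Set.image_mono (by simp)) ht)⟩

/-- The simplices obtained from finitely many by the simplicial operators. -/
def closureSet {U : C} {N : ℕ} (s : Finset ((Y K N).obj (op U))) (l : ℕ) : Set ((Y K l).obj (op U)) :=
  Set.range fun p : (⦋l⦌ ⟶ ⦋N⦌) × (s : Set ((Y K N).obj (op U))) =>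
    (FormalCoproduct.yoneda.map (K.map p.1.op)).app (op U) p.2.1

theorem closureSet_finite {U : C} {N : ℕ} (s : Finset ((Y K N).obj (op U))) (l : ℕ) : (closureSet K s l).Finite := by
  haveI : Finite (⦋l⦌ ⟶ ⦋N⦌) := Finite.of_injective (fun θ : ⦋l⦌ ⟶ ⦋N⦌ => (θ.toOrderHom : Fin (l + 1) → Fin (N + 1))) fun a b h =>
      SimplexCategory.Hom.ext _ _ (OrderHom.ext _ _ h)
  exact Set.finite_range _

theorem subset_closureSet {U : C} {N : ℕ} (s : Finset ((Y K N).obj (op U))) : (s : Set _) ⊆ closureSet K s N :=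
  fun y hy => ⟨(𝟙 _, ⟨y, hy⟩), by
    show (FormalCoproduct.yoneda.map (K.map (𝟙 (op ⦋N⦌)))).app (op U) y = y
    rw [K.map_id, CategoryTheory.Functor.map_id]
    rfl⟩

theorem face_mem_closureSet {U : C} {N : ℕ} (s : Finset ((Y K N).obj (op U))) (l : ℕ)
    (y : (Y K (l + 1)).obj (op U)) (hy : y ∈ closureSet K s (l + 1)) (i : Fin (l + 2)) :
    face K i y ∈ closureSet K s l := by
  obtain ⟨⟨θ, w⟩, rfl⟩ := hy
  refine ⟨(SimplexCategory.δ i ≫ θ, w), ?_⟩
  simp only [face, op_comp, Functor.map_comp, NatTrans.comp_app_apply]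
  rfl

variable (J : GrothendieckTopology C)
  [∀ (n : ℕ) (F : (SimplexCategory.Truncated n)ᵒᵖ ⥤ Limits.FormalCoproduct.{u} C),
    (SimplexCategory.Truncated.inclusion n).op.HasRightKanExtension F]

/-- Locally there is a vertex. -/
theorem exists_vertex (hK : Hyper.IsHypercoveringSite J K) (U : C) :
    ∃ R ∈ J U, ∀ ⦃V : C⦄ (f : V ⟶ U), R f → Nonempty ((Y K 0).obj (op V)) := by
  obtain ⟨hK0, -, -⟩ := hK
  let p := yonedaEquiv (terminal.from (yoneda.obj U) : yoneda.obj U ⟶ ⊤_ (Cᵒᵖ ⥤ Type u))
  exact ⟨_, Presheaf.imageSieve_mem J (terminal.from (Y K 0)) p, fun V f hf => ⟨hf.choose⟩⟩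

/-- A positive degree cycle is locally a boundary. -/
theorem exists_boundary (hK : Hyper.IsHypercoveringSite J K) {n : ℕ} {U : C} (c : chains K (n + 1) U)
    (hc : dd K n U c = 0) :
    ∃ R ∈ J U, ∀ ⦃V : C⦄ (f : V ⟶ U), R f → ∃ b : chains K (n + 2) V, dd K (n + 1) V b = resC K f c := by
  obtain ⟨R₀, hR₀, hv⟩ := exists_vertex K J hK U
  have step : ∀ ⦃V : C⦄ (f : V ⟶ U), R₀ f → ∃ S ∈ J V, ∀ ⦃W : C⦄ (g : W ⟶ V), S g →
      ∃ b : chains K (n + 2) W, dd K (n + 1) W b = resC K (g ≫ f) c := by
    intro V f hf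
    obtain ⟨v⟩ := hv f hf
    obtain ⟨s, hs⟩ := exists_finite (resC K f c)
    obtain ⟨S, hS, hcone⟩ := exists_cone K J hK v (closureSet K s) (closureSet_finite K s)
      (fun l y hy i => face_mem_closureSet K s l y hy i) (n + 2)
    refine ⟨S, hS, fun W g hg => ?_⟩
    obtain ⟨h, H⟩ := hcone g hg
    refine ⟨FreeAbelianGroup.map (h (n + 1)) (resC K f c), ?_⟩
    have key : ∀ z ∈ AddSubgroup.closure (FreeAbelianGroup.of '' (s : Set ((Y K (n + 1)).obj (op V)))),
        dd K (n + 1) W (FreeAbelianGroup.map (h (n + 1)) z) =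
          resC K g z - FreeAbelianGroup.map (h n) (dd K n V z) := by
      intro z hz
      induction hz using AddSubgroup.closure_induction with
      | mem x hx =>
        obtain ⟨y, hy, rfl⟩ := hx
        have hy' := subset_closureSet K s hy
        simp only [resC, FreeAbelianGroup.map_of_apply]
        rw [dd_of, Fin.sum_univ_succ, Fin.val_zero, pow_zero, one_zsmul, H.1 (n + 1) (Nat.lt_succ_self _) y hy',
          sub_eq_add_neg, dd_of, map_sum, ← Finset.sum_neg_distrib]
        refine congrArg₂ (· + ·) rfl (Finset.sum_congr rfl fun i _ => ?_)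
        rw [H.2.2 n (Nat.lt_succ_self _) y hy' i, map_zsmul, FreeAbelianGroup.map_of_apply, Fin.val_succ, pow_succ,
          mul_neg_one, neg_smul]
      | zero => simp
      | add a b _ _ ha hb => simp only [map_add] at ha hb ⊢; rw [ha, hb]; abel
      | neg a _ ha => simp only [map_neg] at ha ⊢; rw [ha]; abel
    have h0 : dd K n V (resC K f c) = 0 := by
      have hnat : ∀ x : chains K (n + 1) U, dd K n V (resC K f x) = resC K f (dd K n U x) := fun x => by
        induction x using FreeAbelianGroup.induction_on with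
        | zero => simp
        | of y =>
          simp only [resC, FreeAbelianGroup.map_of_apply, dd_of, map_sum, map_zsmul, face_res]
        | neg x ih => simp only [resC, map_neg] at ih ⊢; rw [ih]
        | add x y hx hy => simp only [resC, map_add] at hx hy ⊢; rw [hx, hy]
      rw [hnat, hc]
      exact map_zero _
    rw [key _ hs, h0, map_zero, sub_zero, resC, resC, resC, ← FreeAbelianGroup.map_comp_apply]
    exact congrArg (fun φ => FreeAbelianGroup.map φ c) (funext fun y => res_res K f g y)
  choose! S hS hb using step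
  exact ⟨Sieve.bind R₀.arrows fun _ f hf => S f, J.bind_covering hR₀ fun _ f hf => hS f hf, by
    rintro W _ ⟨V, g, f, hf, hg, rfl⟩
    exact hb f hf g hg⟩

/-- A degree zero chain is locally homologous to a multiple of a vertex. -/
theorem exists_boundary_zero (hK : Hyper.IsHypercoveringSite J K) {U : C} (c : chains K 0 U)
    (hc : FreeAbelianGroup.map (fun _ => (PUnit.unit : PUnit.{u + 1})) c = 0) :
    ∃ R ∈ J U, ∀ ⦃V : C⦄ (f : V ⟶ U), R f → ∃ b : chains K 1 V, dd K 0 V b = resC K f c := by
  obtain ⟨R₀, hR₀, hv⟩ := exists_vertex K J hK U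
  have step : ∀ ⦃V : C⦄ (f : V ⟶ U), R₀ f → ∃ S ∈ J V, ∀ ⦃W : C⦄ (g : W ⟶ V), S g →
      ∃ b : chains K 1 W, dd K 0 W b = resC K (g ≫ f) c := by
    intro V f hf
    obtain ⟨v⟩ := hv f hf
    obtain ⟨s, hs⟩ := exists_finite (resC K f c)
    obtain ⟨S, hS, hcone⟩ := exists_cone K J hK v (closureSet K s) (closureSet_finite K s)
      (fun l y hy i => face_mem_closureSet K s l y hy i) 1
    refine ⟨S, hS, fun W g hg => ?_⟩
    obtain ⟨h, H⟩ := hcone g hg
    refine ⟨FreeAbelianGroup.map (h 0) (resC K f c), ?_⟩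
    have key : ∀ z ∈ AddSubgroup.closure (FreeAbelianGroup.of '' (s : Set ((Y K 0).obj (op V)))),
        dd K 0 W (FreeAbelianGroup.map (h 0) z) = resC K g z -
          FreeAbelianGroup.map (fun _ : PUnit.{u + 1} => res K g v) (FreeAbelianGroup.map (fun _ => PUnit.unit) z) := by
      intro z hz
      induction hz using AddSubgroup.closure_induction with
      | mem x hx =>
        obtain ⟨y, hy, rfl⟩ := hx
        have hy' := subset_closureSet K s hy
        simp only [resC, FreeAbelianGroup.map_of_apply]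
        rw [dd_of, Fin.sum_univ_two, Fin.val_zero, Fin.val_one, pow_zero, pow_one, one_zsmul, neg_one_zsmul,
          H.1 0 Nat.one_pos y hy', H.2.1 Nat.one_pos y hy', sub_eq_add_neg]
      | zero => simp
      | add a b _ _ ha hb => simp only [map_add] at ha hb ⊢; rw [ha, hb]; abel
      | neg a _ ha => simp only [map_neg] at ha ⊢; rw [ha]; abel
    have h0 : FreeAbelianGroup.map (fun _ => (PUnit.unit : PUnit.{u + 1})) (resC K f c) = 0 := by
      rw [resC, ← FreeAbelianGroup.map_comp_apply]
      exact hc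
    rw [key _ hs, h0, map_zero, sub_zero, resC, resC, resC, ← FreeAbelianGroup.map_comp_apply]
    exact congrArg (fun φ => FreeAbelianGroup.map φ c) (funext fun y => res_res K f g y)
  choose! S hS hb using step
  exact ⟨Sieve.bind R₀.arrows fun _ f hf => S f, J.bind_covering hR₀ fun _ f hf => hS f hf, by
    rintro W _ ⟨V, g, f, hf, hg, rfl⟩
    exact hb f hf g hg⟩

/-- Homology presheaves in positive degrees sheafify to zero. -/
theorem isZero_sheafify_homology (hK : Hyper.IsHypercoveringSite J K) (n : ℕ) :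
    IsZero ((presheafToSheaf J AddCommGrpCat.{u}).obj ((freeCx K).homology (n + 1))) := by
  let P := freeCx K
  let H := P.homology (n + 1)
  have hloc : ∀ {U : C} (x : H.obj (op U)), ∃ R ∈ J U, ∀ ⦃V : C⦄ (f : V ⟶ U), R f → H.map f.op x = 0 := by
    intro U x
    haveI : Epi ((P.homologyπ (n + 1)).app (op U)) :=
      (NatTrans.epi_iff_epi_app _).1 inferInstance (op U)
    obtain ⟨z, rfl⟩ := (AddCommGrpCat.epi_iff_surjective ((P.homologyπ (n + 1)).app (op U))).1 inferInstance x
    let c : chains K (n + 1) U := (P.iCycles (n + 1)).app (op U) z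
    have hc : dd K n U c = 0 := by
      rw [← freeCx_d_apply]
      exact congr($(NatTrans.congr_app (P.iCycles_d (n + 1) n) (op U)) z)
    obtain ⟨R, hR, hb⟩ := exists_boundary K J hK c hc
    refine ⟨R, hR, fun V f hf => ?_⟩
    obtain ⟨b, hbc⟩ := hb f hf
    haveI : Mono ((P.iCycles (n + 1)).app (op V)) := (NatTrans.mono_iff_mono_app _).1 inferInstance (op V)
    have hz : (P.cycles (n + 1)).map f.op z = (P.toCycles (n + 2) (n + 1)).app (op V) b := by
      refine (AddCommGrpCat.mono_iff_injective ((P.iCycles (n + 1)).app (op V))).1 inferInstance ?_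
      rw [NatTrans.naturality_apply, ← NatTrans.comp_app_apply, HomologicalComplex.toCycles_i]
      exact hbc.symm.trans (freeCx_d_apply K (n + 1) V b).symm
    rw [← NatTrans.naturality_apply, hz, ← NatTrans.comp_app_apply, HomologicalComplex.toCycles_comp_homologyπ]
    rfl
  let Z : Cᵒᵖ ⥤ AddCommGrpCat.{u} := (Functor.const _).obj (AddCommGrpCat.of PUnit.{u + 1})
  let φ : H ⟶ Z := 0
  haveI : Presheaf.IsLocallyInjective J φ := ⟨fun {X} x y _ => by
    obtain ⟨R, hR, h0⟩ := hloc (x - y)
    refine J.superset_covering (fun V f hf => ?_) hR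
    show H.map f.op x = H.map f.op y
    rw [← sub_eq_zero, ← map_sub]
    exact h0 f hf⟩
  haveI : Presheaf.IsLocallySurjective J φ := ⟨fun {U} t => by
    refine J.superset_covering (fun V f _ => ?_) (J.top_mem U)
    exact ⟨0, Subsingleton.elim (α := PUnit.{u + 1}) _ _⟩⟩
  haveI : IsIso ((presheafToSheaf J AddCommGrpCat.{u}).map φ) :=
    (J.W_iff φ).1 (J.W_of_isLocallyBijective φ)
  have hZ : IsZero Z := Functor.isZero _ fun X => AddCommGrpCat.isZero_of_subsingleton (AddCommGrpCat.of PUnit.{u + 1})
  exact IsZero.of_iso ((presheafToSheaf J AddCommGrpCat.{u}).map_isZero hZ)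
    (asIso ((presheafToSheaf J AddCommGrpCat.{u}).map φ))

/-- The constant presheaf of integers. -/
abbrev constFree : Cᵒᵖ ⥤ AddCommGrpCat.{u} :=
  (Functor.const _).obj (AddCommGrpCat.free.{u}.obj PUnit.{u + 1})

/-- The augmentation. -/
def aug : (freeCx K).X 0 ⟶ constFree (C := C) where
  app U := AddCommGrpCat.free.map (TypeCat.ofHom fun _ => PUnit.unit)
  naturality U V f := by
    refine AddCommGrpCat.hom_ext (AddMonoidHom.ext fun c => ?_)
    show FreeAbelianGroup.map _ (FreeAbelianGroup.map _ c) = FreeAbelianGroup.map _ c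
    rw [← FreeAbelianGroup.map_comp_apply]
    rfl

theorem d_aug : (freeCx K).d 1 0 ≫ aug K = 0 := by
  refine NatTrans.ext (funext fun U => AddCommGrpCat.hom_ext (AddMonoidHom.ext fun c => ?_))
  show FreeAbelianGroup.map (fun _ => (PUnit.unit : PUnit.{u + 1})) (((freeCx K).d (0 + 1) 0).app (op U.unop) c) = 0
  rw [freeCx_d_apply]
  induction (show chains K 1 U.unop from c) using FreeAbelianGroup.induction_on with
  | zero => simp
  | of y =>
    rw [dd_of, Fin.sum_univ_two, map_add, map_zsmul, map_zsmul, FreeAbelianGroup.map_of_apply,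
      FreeAbelianGroup.map_of_apply, Fin.val_zero, Fin.val_one, pow_zero, pow_one, one_zsmul, neg_one_zsmul, add_neg_cancel]
  | neg x ih => rw [map_neg, map_neg, ih, neg_zero]
  | add x y hx hy => rw [map_add, map_add, hx, hy, zero_add]

/-- The degree zero homology sheafifies to the constant sheaf. -/
theorem nonempty_sheafify_homology_zero (hK : Hyper.IsHypercoveringSite J K) :
    Nonempty ((presheafToSheaf J AddCommGrpCat.{u}).obj ((freeCx K).homology 0) ≅
      (presheafToSheaf J AddCommGrpCat.{u}).obj (constFree (C := C))) := by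
  let P := freeCx K
  let ψ := P.descOpcycles (aug K) 1 (by simp) (d_aug K)
  have hψ : P.pOpcycles 0 ≫ ψ = aug K := P.p_descOpcycles _ _ _ _
  haveI : Presheaf.IsLocallyInjective J ψ := ⟨fun {X} x y hxy => by
    haveI : Epi ((P.pOpcycles 0).app X) := (NatTrans.epi_iff_epi_app _).1 inferInstance X
    obtain ⟨c, hc⟩ := (AddCommGrpCat.epi_iff_surjective ((P.pOpcycles 0).app X)).1 inferInstance (x - y)
    have hc0 : FreeAbelianGroup.map (fun _ => (PUnit.unit : PUnit.{u + 1})) (show chains K 0 X.unop from c) = 0 := by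
      show (aug K).app X c = 0
      rw [← hψ, NatTrans.comp_app_apply, hc, map_sub, hxy, sub_self]
    obtain ⟨R, hR, hb⟩ := exists_boundary_zero K J hK _ hc0
    refine J.superset_covering (fun V f hf => ?_) hR
    obtain ⟨b, hbc⟩ := hb f hf
    show (P.opcycles 0).map f.op x = (P.opcycles 0).map f.op y
    rw [← sub_eq_zero, ← map_sub, ← hc, ← NatTrans.naturality_apply]
    have e : (P.X 0).map f.op c = (P.d (0 + 1) 0).app (op V) b := hbc.symm.trans (freeCx_d_apply K 0 V b).symm
    rw [e, ← NatTrans.comp_app_apply, HomologicalComplex.d_pOpcycles]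
    rfl⟩
  haveI : Presheaf.IsLocallySurjective J ψ := ⟨fun {U} t => by
    obtain ⟨R, hR, hv⟩ := exists_vertex K J hK U
    refine J.superset_covering (fun V f hf => ?_) hR
    obtain ⟨v⟩ := hv f hf
    refine ⟨(P.pOpcycles 0).app (op V) (FreeAbelianGroup.map (fun _ : PUnit.{u + 1} => v)
      (show FreeAbelianGroup PUnit.{u + 1} from t)), ?_⟩
    rw [← NatTrans.comp_app_apply, hψ]
    show FreeAbelianGroup.map _ (FreeAbelianGroup.map _ (show FreeAbelianGroup PUnit.{u + 1} from t)) = t
    rw [← FreeAbelianGroup.map_comp_apply]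
    exact FreeAbelianGroup.map_id_apply _⟩
  haveI : IsIso ((presheafToSheaf J AddCommGrpCat.{u}).map ψ) := (J.W_iff ψ).1 (J.W_of_isLocallyBijective ψ)
  exact ⟨(presheafToSheaf J AddCommGrpCat.{u}).mapIso P.isoHomologyι₀ ≪≫
    asIso ((presheafToSheaf J AddCommGrpCat.{u}).map ψ)⟩

instance : (presheafToSheaf J AddCommGrpCat.{u}).Additive := Functor.additive_of_preserves_binary_products _

/-- Homology commutes with sheafification. -/
theorem nonempty_homology_iso (n : ℕ) :
    Nonempty ((Hyper.freeChainCx J K).homology n ≅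
      (presheafToSheaf J AddCommGrpCat.{u}).obj ((freeCx K).homology n)) := by
  let a := presheafToSheaf J AddCommGrpCat.{u}
  haveI : a.Additive := inferInstance
  haveI : PreservesFiniteColimits a := inferInstance
  haveI : a.PreservesHomology := inferInstance
  have e := Functor.congr_obj (map_alternatingFaceMapComplex a) (freeSObj K)
  exact ⟨(HomologicalComplex.homologyFunctor _ _ n).mapIso (eqToIso e.symm) ≪≫
    ((freeCx K).sc n).mapHomologyIso a⟩

/-- **The free complex of a hypercovering is a resolution of the constant sheaf.** -/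
theorem freeChainCx_resolution (hK : Hyper.IsHypercoveringSite J K) :
    (∀ n : ℕ, IsZero ((Hyper.freeChainCx J K).homology (n + 1))) ∧
      Nonempty ((Hyper.freeChainCx J K).homology 0 ≅
        (presheafToSheaf J AddCommGrpCat.{u}).obj (constFree (C := C))) :=
  ⟨fun n => (isZero_sheafify_homology K J hK n).of_iso (nonempty_homology_iso K J (n + 1)).some,
    ⟨(nonempty_homology_iso K J 0).some ≪≫ (nonempty_sheafify_homology_zero K J hK).some⟩⟩

end HypercovLib
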