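import Groth.Agent.HypercovLib.Fill
import Mathlib

/-! # Compatible spheres as sections of the coskeleton -/

set_option autoImplicit false
universe u

open CategoryTheory CategoryTheory.Limits Opposite SimplexCategory Simplicial

namespace HypercovLib

variable {D : Type u} [SmallCategory D]

/-- Copies of an object indexed by the simplices of a standard simplex. -/
noncomputable def simp' (W : D) (N : ℕ) : SimplicialObject (FormalCoproduct.{u} D) where
  obj n := ⟨ULift.{u} (n.unop ⟶ ⦋N⦌), fun _ => W⟩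
  map θ := { f := fun p => ⟨θ.unop ≫ p.down⟩, φ := fun _ => 𝟙 W }
  map_id n := FormalCoproduct.hom_ext (funext fun p => ULift.ext _ _ (Category.id_comp _))
    (fun _ => by simp)
  map_comp θ θ' := FormalCoproduct.hom_ext (funext fun p => ULift.ext _ _ (Category.assoc _ _ _))
    (fun _ => by simp)

/-- A simplex as a morphism to the copies. -/
noncomputable def simpι (W : D) {N : ℕ} (n : SimplexCategoryᵒᵖ) (p : n.unop ⟶ ⦋N⦌) :
    (FormalCoproduct.incl D).obj W ⟶ (simp' W N).obj n :=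
  { f := fun _ => ⟨p⟩, φ := fun _ => 𝟙 W }

theorem simpι_map (W : D) {N : ℕ} {n n' : SimplexCategoryᵒᵖ} (p : n.unop ⟶ ⦋N⦌) (θ : n ⟶ n') :
    simpι W n p ≫ (simp' W N).map θ = simpι W n' (θ.unop ≫ p) :=
  FormalCoproduct.hom_ext rfl (fun _ => by simp [simp', simpι])

theorem exists_missed {A : SimplexCategory} {m : ℕ} (hA : A.len ≤ m + 1) (θ : A ⟶ ⦋m + 2⦌) :
    ∃ j : Fin (m + 3), ∀ k, θ.toOrderHom k ≠ j := by
  by_contra h
  push Not at h
  have := Fintype.card_le_of_surjective θ.toOrderHom h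
  simp at this
  omega

variable (K : SimplicialObject (FormalCoproduct.{u} D)) {W : D} {m : ℕ}
  (z : Fin (m + 3) → ((FormalCoproduct.incl D).obj W ⟶ K.obj (op ⦋m + 1⦌)))

/-- The candidate value of a compatible sphere on a small simplex. -/
noncomputable def bdry (A : SimplexCategory) (hA : A.len ≤ m + 1) (θ : A ⟶ ⦋m + 2⦌) :
    (FormalCoproduct.incl D).obj W ⟶ K.obj (op A) :=
  z (exists_missed hA θ).choose ≫ K.map (θ ≫ SimplexCategory.σ (Fin.predAbove 0 (exists_missed hA θ).choose)).op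

variable (hz : ∀ i j : Fin (m + 2), i ≤ j → z j.succ ≫ K.δ i = z i.castSucc ≫ K.δ j)

include hz in
theorem bdry_eq_aux {A : SimplexCategory} {i j : Fin (m + 3)} (hij : i < j) (p : A ⟶ ⦋m + 1⦌)
    (q : A ⟶ ⦋m + 1⦌) (hpq : p ≫ SimplexCategory.δ j = q ≫ SimplexCategory.δ i) :
    z j ≫ K.map p.op = z i ≫ K.map q.op := by
  obtain ⟨j₀, rfl⟩ := Fin.exists_succ_eq.2 (show j ≠ 0 from fun h => by rw [h] at hij; exact (Nat.not_lt_zero _ hij))
  obtain ⟨i₀, rfl⟩ := Fin.exists_castSucc_eq.2 (show i ≠ Fin.last (m + 2) from fun h => by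
    rw [h] at hij; exact not_le_of_gt hij (Fin.le_last _))
  have hle : i₀ ≤ j₀ := Fin.castSucc_lt_succ_iff.1 hij
  have hmiss : ∀ k, p.toOrderHom k ≠ i₀ := fun k hk => by
    have h1 : (p ≫ SimplexCategory.δ j₀.succ).toOrderHom k = i₀.castSucc := by
      show (Fin.succAbove j₀.succ) (p.toOrderHom k) = _
      rw [hk]
      exact Fin.succAbove_of_castSucc_lt _ _ hij
    rw [hpq] at h1
    exact Fin.succAbove_ne i₀.castSucc (q.toOrderHom k) h1
  have hp := SimplexCategory.factor_δ_spec p i₀ hmiss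
  have hq : q = SimplexCategory.factor_δ p i₀ ≫ SimplexCategory.δ j₀ := by
    rw [← cancel_mono (SimplexCategory.δ i₀.castSucc), ← hpq, Category.assoc, ← SimplexCategory.δ_comp_δ hle,
      ← Category.assoc, hp]
  let ρ := SimplexCategory.factor_δ p i₀
  calc z j₀.succ ≫ K.map p.op = z j₀.succ ≫ K.map (ρ ≫ SimplexCategory.δ i₀).op := by rw [hp]
    _ = (z j₀.succ ≫ K.δ i₀) ≫ K.map ρ.op := by rw [op_comp, K.map_comp, ← Category.assoc]; rfl
    _ = (z i₀.castSucc ≫ K.δ j₀) ≫ K.map ρ.op := by rw [hz i₀ j₀ hle]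
    _ = _ := by rw [hq, op_comp, K.map_comp, Category.assoc]; rfl

include hz in
theorem bdry_eq (A : SimplexCategory) (hA : A.len ≤ m + 1) (θ : A ⟶ ⦋m + 2⦌) (j : Fin (m + 3))
    (p : A ⟶ ⦋m + 1⦌) (hp : p ≫ SimplexCategory.δ j = θ) :
    bdry K z A hA θ = z j ≫ K.map p.op := by
  have hc := SimplexCategory.factor_δ_spec (m := A.len) θ _ (exists_missed hA θ).choose_spec
  rcases lt_trichotomy (exists_missed hA θ).choose j with h | h | h
  · exact (bdry_eq_aux K z hz h p _ (hp.trans hc.symm)).symm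
  · subst h
    exact congrArg (fun t : A ⟶ ⦋m + 1⦌ => z _ ≫ K.map t.op) ((cancel_mono _).1 (hc.trans hp.symm))
  · exact bdry_eq_aux K z hz h _ p (hc.trans hp.symm)

include hz in
theorem bdry_map {A B : SimplexCategory} (hA : A.len ≤ m + 1) (hB : B.len ≤ m + 1) (θ : B ⟶ A) (p : A ⟶ ⦋m + 2⦌) :
    bdry K z A hA p ≫ K.map θ.op = bdry K z B hB (θ ≫ p) := by
  obtain ⟨j, hj⟩ := exists_missed hA p
  have hp := SimplexCategory.factor_δ_spec (m := A.len) p j hj
  rw [bdry_eq K z hz A hA p j _ hp, bdry_eq K z hz B hB (θ ≫ p) j _ ((Category.assoc _ _ _).trans (congrArg (θ ≫ ·) hp)),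
    Category.assoc, ← K.map_comp, ← op_comp]

/-- The map from the truncated simplex given by a compatible sphere. -/
noncomputable def bdryTrunc :
    (SimplicialObject.truncation (m + 1)).obj (simp' W (m + 2)) ⟶ (SimplicialObject.truncation (m + 1)).obj K where
  app A := { f := fun p => (bdry K z A.unop.obj A.unop.property p.down).f PUnit.unit,
             φ := fun p => (bdry K z A.unop.obj A.unop.property p.down).φ PUnit.unit }
  naturality A B θ := by
    refine (FormalCoproduct.hom_ext_iff' _ _).2 fun p => ?_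
    have h := bdry_map K z hz (A := A.unop.obj) (B := B.unop.obj) A.unop.property B.unop.property θ.unop.hom p.down
    obtain ⟨h1, h2⟩ := (FormalCoproduct.hom_ext_iff' _ _).1 h PUnit.unit
    refine ⟨h1.symm, ?_⟩
    have h2' : ((bdry K z A.unop.obj A.unop.property p.down) ≫ K.map θ.unop.hom.op).φ PUnit.unit =
        (bdry K z B.unop.obj B.unop.property (θ.unop.hom ≫ p.down)).φ PUnit.unit ≫ eqToHom (by rw [h1]) := by
      rw [← h2, Category.assoc, eqToHom_trans, eqToHom_refl, Category.comp_id]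
    show (𝟙 W ≫ (bdry K z B.unop.obj B.unop.property (θ.unop.hom ≫ p.down)).φ PUnit.unit) ≫ _ = _
    rw [Category.id_comp]
    exact h2'.symm

variable [∀ (F : (SimplexCategory.Truncated (m + 1))ᵒᵖ ⥤ FormalCoproduct.{u} D),
  (SimplexCategory.Truncated.inclusion (m + 1)).op.HasRightKanExtension F]

include hz in
/-- A compatible sphere is a section of the coskeleton, and lifts along the unit are fillings. -/
theorem exists_sphere :
    ∃ c : (FormalCoproduct.incl D).obj W ⟶
        ((SimplicialObject.truncation (m + 1) ⋙ SimplicialObject.Truncated.cosk (m + 1)).obj K).obj (op ⦋m + 2⦌),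
      ∀ {V : D} (h : V ⟶ W) (e : (FormalCoproduct.incl D).obj V ⟶ K.obj (op ⦋m + 2⦌)),
        e ≫ ((SimplicialObject.coskAdj (m + 1)).unit.app K).app (op ⦋m + 2⦌) = (FormalCoproduct.incl D).map h ≫ c →
        ∀ k : Fin (m + 3), e ≫ K.δ k = (FormalCoproduct.incl D).map h ≫ z k := by
  let η := (SimplicialObject.coskAdj (m + 1)).unit.app K
  let ε := (SimplicialObject.coskAdj (m + 1)).counit.app ((SimplicialObject.truncation (m + 1)).obj K)
  let τ := bdryTrunc K z hz
  let g := (SimplicialObject.coskAdj (m + 1)).homEquiv _ _ τ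
  have hg : (SimplicialObject.truncation (m + 1)).map g ≫ ε = τ := by
    refine Eq.trans ?_ (((SimplicialObject.coskAdj (m + 1)).homEquiv _ _).symm_apply_apply τ)
    exact (Adjunction.homEquiv_counit _ _ _ _).symm
  have htri : (SimplicialObject.truncation (m + 1)).map η ≫ ε = 𝟙 _ :=
    (SimplicialObject.coskAdj (m + 1)).left_triangle_components K
  let A₀ : (SimplexCategory.Truncated (m + 1))ᵒᵖ := op ⟨⦋m + 1⦌, le_rfl⟩
  refine ⟨simpι W (op ⦋m + 2⦌) (𝟙 ⦋m + 2⦌) ≫ g.app (op ⦋m + 2⦌), fun {V} h e he k => ?_⟩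
  have e1 : η.app (op ⦋m + 1⦌) ≫ ε.app A₀ = 𝟙 _ := NatTrans.congr_app htri A₀
  have e2 : g.app (op ⦋m + 1⦌) ≫ ε.app A₀ = τ.app A₀ := NatTrans.congr_app hg A₀
  have n1 := η.naturality (SimplexCategory.δ k).op
  have n2 := g.naturality (SimplexCategory.δ k).op
  calc e ≫ K.δ k = e ≫ K.map (SimplexCategory.δ k).op ≫ η.app (op ⦋m + 1⦌) ≫ ε.app A₀ := by
        erw [e1]; erw [Category.comp_id]; rfl
    _ = (e ≫ η.app (op ⦋m + 2⦌)) ≫ _ ≫ ε.app A₀ := by
        erw [reassoc_of% n1]; rw [Category.assoc]; rfl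
    _ = (FormalCoproduct.incl D).map h ≫ simpι W (op ⦋m + 2⦌) (𝟙 ⦋m + 2⦌) ≫
          (simp' W (m + 2)).map (SimplexCategory.δ k).op ≫ τ.app A₀ := by
        erw [he]
        rw [← e2]
        simp only [Category.assoc]
        erw [reassoc_of% n2]
        rfl
    _ = _ := by
        congr 1
        rw [← Category.assoc, simpι_map]
        erw [Category.comp_id (SimplexCategory.δ k)]
        have hb : bdry K z ⦋m + 1⦌ le_rfl (SimplexCategory.δ k) = z k := by
          rw [bdry_eq K z hz ⦋m + 1⦌ le_rfl _ k (𝟙 _) (Category.id_comp _), op_id, K.map_id, Category.comp_id]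
        refine Eq.trans ?_ hb
        refine FormalCoproduct.hom_ext rfl fun _ => ?_
        show (𝟙 W ≫ _) ≫ _ = _
        erw [Category.id_comp, Category.comp_id]
        rfl

end HypercovLib
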