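import Groth.Agent.HypercovLib.Glue
import Mathlib

/-! # Dimension shifting for Čech complexes of hypercoverings -/

set_option autoImplicit false
universe u

open CategoryTheory CategoryTheory.Limits Opposite SimplexCategory Simplicial

noncomputable section

namespace HypercovLib

variable {C : Type u} [SmallCategory C] (K : SimplicialObject (FormalCoproduct.{u} C))
  {F G H : Cᵒᵖ ⥤ AddCommGrpCat.{u}}

/-- The map of Čech complexes induced by a map of coefficients. -/
abbrev cxMap (α : F ⟶ G) : Hyper.cechCxSite K F ⟶ Hyper.cechCxSite K G :=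
  (FormalCoproduct.cochainComplexFunctor K).map α

theorem comp_cxMap (α : F ⟶ G) {n : ℕ} (x : (Hyper.cechCxSite K F).X n) (i : (K.obj (op ⦋n⦌)).I) :
    comp K G ((cxMap K α).f n x) i = α.app _ (comp K F x i) := by
  show (Limits.Pi.map (fun j : (K.obj (op ⦋n⦌)).I => α.app (op ((K.obj (op ⦋n⦌)).obj j))) ≫ Pi.π _ i) x = _
  rw [Limits.Pi.map_π]
  rfl

theorem ext_comp {n : ℕ} {x y : (Hyper.cechCxSite K F).X n} (h : ∀ i, comp K F x i = comp K F y i) : x = y :=
  Concrete.limit_ext _ _ _ fun ⟨i⟩ => h i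

theorem exists_comp {n : ℕ} (v : ∀ i : (K.obj (op ⦋n⦌)).I, F.obj (op ((K.obj (op ⦋n⦌)).obj i))) :
    ∃ x : (Hyper.cechCxSite K F).X n, ∀ i, comp K F x i = v i :=
  ⟨(Pi.lift fun i => AddCommGrpCat.ofHom ((zmultiplesHom _ (v i)).comp (AddEquiv.ulift (α := ℤ)).toAddMonoidHom) :
      AddCommGrpCat.of (ULift.{u} ℤ) ⟶ ∏ᶜ fun i : (K.obj (op ⦋n⦌)).I => F.obj (op ((K.obj (op ⦋n⦌)).obj i)))
      (ULift.up 1), fun i => by
    show (Pi.lift (fun i => AddCommGrpCat.ofHom ((zmultiplesHom _ (v i)).comp (AddEquiv.ulift (α := ℤ)).toAddMonoidHom)) ≫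
      Pi.π _ i) (ULift.up (1 : ℤ)) = _
    rw [Pi.lift_π]
    exact one_zsmul _⟩

theorem cxMap_injective (α : F ⟶ G) (h : ∀ U, Function.Injective (α.app U)) (n : ℕ) :
    Function.Injective ((cxMap K α).f n) := fun x y e => ext_comp K fun i => h _ (by
  rw [← comp_cxMap, ← comp_cxMap, e])

theorem cxMap_surjective (α : F ⟶ G) (h : ∀ U, Function.Surjective (α.app U)) (n : ℕ) :
    Function.Surjective ((cxMap K α).f n) := fun y => by
  choose v hv using fun i => h _ (comp K G y i)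
  obtain ⟨x, hx⟩ := exists_comp (F := F) K v
  exact ⟨x, ext_comp K fun i => by rw [comp_cxMap, hx, hv]⟩

theorem cxMap_exact (α : F ⟶ G) (β : G ⟶ H) (h : ∀ U a, β.app U a = 0 → ∃ b, α.app U b = a) {n : ℕ}
    (y : (Hyper.cechCxSite K G).X n) (hy : (cxMap K β).f n y = 0) : ∃ x, (cxMap K α).f n x = y := by
  choose v hv using fun i => h _ (comp K G y i) (by rw [← comp_cxMap, hy]; exact map_zero _)
  obtain ⟨x, hx⟩ := exists_comp (F := F) K v
  exact ⟨x, ext_comp K fun i => by rw [comp_cxMap, hx, hv]⟩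

theorem cxMap_d (α : F ⟶ G) {n m : ℕ} (x : (Hyper.cechCxSite K F).X n) :
    (cxMap K α).f m ((Hyper.cechCxSite K F).d n m x) = (Hyper.cechCxSite K G).d n m ((cxMap K α).f n x) :=
  (ConcreteCategory.congr_hom ((cxMap K α).comm n m) x).symm

/-- The dimension shift: a cocycle of the subpresheaf which bounds in the middle is a coboundary, provided the
image of the bounding cochain lifts to a cocycle. -/
theorem exists_boundary_shift (α : F ⟶ G) (β : G ⟶ H) (hα : ∀ U, Function.Injective (α.app U))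
    (h : ∀ U a, β.app U a = 0 → ∃ b, α.app U b = a) {p : ℕ}
    (x : (Hyper.cechCxSite K F).X (p + 1)) (z z₀ : (Hyper.cechCxSite K G).X p)
    (hz : (Hyper.cechCxSite K G).d p (p + 1) z = (cxMap K α).f (p + 1) x)
    (hz₀ : (Hyper.cechCxSite K G).d p (p + 1) z₀ = 0) (hzz : (cxMap K β).f p z₀ = (cxMap K β).f p z) :
    ∃ y, (Hyper.cechCxSite K F).d p (p + 1) y = x := by
  obtain ⟨y, hy⟩ := cxMap_exact K α β h (z - z₀) (by rw [map_sub, hzz, sub_self])
  exact ⟨y, cxMap_injective K α hα _ (by rw [cxMap_d, hy, map_sub, hz, hz₀, sub_zero])⟩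

end HypercovLib
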