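import Groth.Agent.HypercovLib.InjAcyclic
import Groth.Agent.HypercovLib.Shift
import Groth.Agent.CosimpLimLib.LimDelta
import Groth.Agent.CohLib.CohPresheaf
import Groth.Agent.SpSeqLib.Grothendieck
import Mathlib

/-! # The spectral sequence of a hypercovering of the final object -/

set_option autoImplicit false
universe u

open CategoryTheory CategoryTheory.Limits Opposite Simplicial CategoryTheory.Abelian

noncomputable section

namespace HypercovLib

variable {C : Type u} [SmallCategory C] (K : SimplicialObject (FormalCoproduct.{u} C))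

/-- Evaluation of presheaves on a simplicial semi-representable object. -/
abbrev evalS : (Cᵒᵖ ⥤ AddCommGrpCat.{u}) ⥤ (SimplexCategory ⥤ AddCommGrpCat.{u}) :=
  FormalCoproduct.cosimplicialObjectFunctor K

instance evalS_additive : (evalS K).Additive where
  map_add {P Q f g} := by
    refine NatTrans.ext (funext fun n => Pi.hom_ext _ _ fun i => ?_)
    show Limits.Pi.map (fun j : (K.obj (op n)).I => (f + g).app (op ((K.obj (op n)).obj j))) ≫ Pi.π _ i =
      (Limits.Pi.map (fun j : (K.obj (op n)).I => f.app (op ((K.obj (op n)).obj j))) +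
        Limits.Pi.map (fun j : (K.obj (op n)).I => g.app (op ((K.obj (op n)).obj j)))) ≫ Pi.π _ i
    rw [Limits.Pi.map_π, Preadditive.add_comp, Limits.Pi.map_π, Limits.Pi.map_π, NatTrans.app_add,
      Preadditive.comp_add]

theorem shortExact_evalS {S : ShortComplex (Cᵒᵖ ⥤ AddCommGrpCat.{u})} (hS : S.ShortExact) :
    (S.map (evalS K)).ShortExact := by
  have hev : ∀ U : Cᵒᵖ, (S.map ((evaluation Cᵒᵖ AddCommGrpCat.{u}).obj U)).ShortExact := fun U =>
    hS.map_of_exact _
  have hf : ∀ U, Function.Injective (S.f.app U) := fun U =>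
    (AddCommGrpCat.mono_iff_injective _).1 (hev U).mono_f
  have hg : ∀ U, Function.Surjective (S.g.app U) := fun U =>
    (AddCommGrpCat.epi_iff_surjective _).1 (hev U).epi_g
  have hk : ∀ U a, S.g.app U a = 0 → ∃ b, S.f.app U b = a := fun U =>
    (ShortComplex.ab_exact_iff _).1 (hev U).exact
  have hn : ∀ n : SimplexCategory, ((S.map (evalS K)).map
      ((evaluation SimplexCategory AddCommGrpCat.{u}).obj n)).ShortExact := by
    intro n
    induction n using SimplexCategory.rec with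
    | _ n =>
    refine { exact := (ShortComplex.ab_exact_iff _).2 fun y hy => cxMap_exact K S.f S.g hk y hy,
             mono_f := (AddCommGrpCat.mono_iff_injective _).2 (cxMap_injective K S.f hf n),
             epi_g := (AddCommGrpCat.epi_iff_surjective _).2 (cxMap_surjective K S.g hg n) }
  haveI : Mono (S.map (evalS K)).f := (NatTrans.mono_iff_mono_app _).2 fun n => (hn n).mono_f
  haveI : Epi (S.map (evalS K)).g := (NatTrans.epi_iff_epi_app _).2 fun n => (hn n).epi_g
  exact { exact := by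
            rw [ShortComplex.exact_iff_isZero_homology]
            refine Functor.isZero _ fun n => ?_
            exact IsZero.of_iso ((ShortComplex.exact_iff_isZero_homology _).1 (hn n).exact)
              ((S.map (evalS K)).mapHomologyIso ((evaluation SimplexCategory AddCommGrpCat.{u}).obj n)).symm }

instance evalS_preservesHomology : (evalS K).PreservesHomology :=
  ((Functor.exact_tfae (evalS K)).out 0 2).1 fun _ hS => shortExact_evalS K hS

variable (J : GrothendieckTopology C)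

/-- Evaluation of sheaves on a simplicial semi-representable object. -/
abbrev evalSh : Sheaf J AddCommGrpCat.{u} ⥤ (SimplexCategory ⥤ AddCommGrpCat.{u}) :=
  sheafToPresheaf J AddCommGrpCat.{u} ⋙ evalS K

/-- The integers. -/
abbrev ZJ : Sheaf J AddCommGrpCat.{u} :=
  (constantSheaf J AddCommGrpCat.{u}).obj (AddCommGrpCat.of (ULift.{u} ℤ))

variable [∀ (n : ℕ) (F : (SimplexCategory.Truncated n)ᵒᵖ ⥤ Limits.FormalCoproduct.{u} C),
  (SimplexCategory.Truncated.inclusion n).op.HasRightKanExtension F]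

/-- Zeroth cohomology of cochains is the group of maps out of the integers, naturally. -/
theorem nonempty_zero_natIso (hK : Hyper.IsHypercoveringSite J K) :
    Nonempty (preadditiveCoyoneda.obj (op (ZJ J)) ≅
      evalSh K J ⋙ (Groth.Agent.CosimpLimLib.delta AddCommGrpCat.{u}).F 0) := by
  let a := presheafToSheaf J AddCommGrpCat.{u}
  let adj := sheafificationAdjunction J AddCommGrpCat.{u}
  let P := (a.mapHomologicalComplex _).obj (freeCx K)
  obtain ⟨i₀⟩ := (freeChainCx_resolution K J hK).2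
  have e := Functor.congr_obj (AlgebraicTopology.map_alternatingFaceMapComplex a) (freeSObj K)
  let iZ : AddCommGrpCat.of (ULift.{u} ℤ) ≅ AddCommGrpCat.free.{u}.obj PUnit.{u + 1} :=
    ((AddEquiv.ulift (α := ℤ)).trans (FreeAbelianGroup.uniqueEquiv PUnit.{u + 1}).symm).toAddCommGrpIso
  let i : P.homology 0 ≅ ZJ J :=
    (HomologicalComplex.homologyFunctor _ _ 0).mapIso (eqToIso e) ≪≫ i₀ ≪≫
      a.mapIso ((Functor.const Cᵒᵖ).mapIso iZ.symm)
  let π : a.obj ((freeCx K).X 0) ⟶ ZJ J := P.pOpcycles 0 ≫ (ChainComplex.isoHomologyι₀ P).inv ≫ i.hom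
  have hπ : a.map ((freeCx K).d 1 0) ≫ π = 0 := by
    show P.d 1 0 ≫ P.pOpcycles 0 ≫ _ = 0
    rw [HomologicalComplex.d_pOpcycles_assoc, zero_comp]
  haveI : Epi π := by
    show Epi (P.pOpcycles 0 ≫ (((ChainComplex.isoHomologyι₀ P).symm ≪≫ i)).hom)
    exact epi_comp _ _
  let hC : IsColimit (CokernelCofork.ofπ π hπ) :=
    IsColimit.ofIsoColimit (P.opcyclesIsCokernel 1 0 (by simp))
      (Cofork.ext ((ChainComplex.isoHomologyι₀ P).symm ≪≫ i) rfl)
  let ψ : ∀ (F : Sheaf J AddCommGrpCat.{u}), (ZJ J ⟶ F) → ((freeCx K).X 0 ⟶ F.obj) := fun F θ =>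
    adj.homEquiv _ _ (π ≫ θ)
  have ψ_add : ∀ (F : Sheaf J AddCommGrpCat.{u}) (θ θ' : ZJ J ⟶ F), ψ F (θ + θ') = ψ F θ + ψ F θ' := fun F θ θ' => by
    show adj.homEquiv _ _ (π ≫ (θ + θ')) = _
    rw [Preadditive.comp_add]
    exact map_add (adj.homAddEquiv _ _) _ _
  have ψ_nat : ∀ {F G : Sheaf J AddCommGrpCat.{u}} (φ : F ⟶ G) (θ : ZJ J ⟶ F), ψ G (θ ≫ φ) = ψ F θ ≫ φ.hom :=
    fun {F G} φ θ => by
      show adj.homEquiv _ _ (π ≫ θ ≫ φ) = adj.homEquiv _ _ (π ≫ θ) ≫ φ.hom
      rw [← Category.assoc, adj.homEquiv_naturality_right]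
      rfl
  have ψ_d : ∀ (F : Sheaf J AddCommGrpCat.{u}) (θ : ZJ J ⟶ F), (freeCx K).d 1 0 ≫ ψ F θ = 0 := fun F θ => by
    show (freeCx K).d 1 0 ≫ adj.homEquiv _ _ (π ≫ θ) = 0
    rw [← adj.homEquiv_naturality_left, ← Category.assoc, hπ, zero_comp]
    exact map_zero (adj.homAddEquiv _ _)
  let K₀ := K.obj (op ⦋0⦌)
  let val : ∀ (F : Sheaf J AddCommGrpCat.{u}) (j : K₀.I), AddCommGrpCat.of (ZJ J ⟶ F) ⟶ F.obj.obj (op (K₀.obj j)) :=
    fun F j => AddCommGrpCat.ofHom (AddMonoidHom.mk'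
      (fun θ => (ψ F θ).app (op (K₀.obj j)) (FreeAbelianGroup.of (el K₀ j (𝟙 _)))) fun θ θ' => by
        rw [ψ_add]
        rfl)
  let x₀ : ∀ F : Sheaf J AddCommGrpCat.{u}, AddCommGrpCat.of (ZJ J ⟶ F) ⟶ (Hyper.cechCxSite K F.obj).X 0 :=
    fun F => Pi.lift (val F)
  have hx₀ : ∀ (F : Sheaf J AddCommGrpCat.{u}) (θ : ZJ J ⟶ F) (j : K₀.I), comp K F.obj (x₀ F θ) j = val F j θ :=
    fun F θ j => by
      show (Pi.lift (val F) ≫ Pi.π _ j) θ = _
      rw [Pi.lift_π]
  have hlift : ∀ (F : Sheaf J AddCommGrpCat.{u}) (θ : ZJ J ⟶ F), toLift K F.obj (x₀ F θ) = ψ F θ := fun F θ => by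
    refine NatTrans.ext (funext fun U => AddCommGrpCat.hom_ext (FreeAbelianGroup.lift_ext _ _ fun y => ?_))
    obtain ⟨j, g, rfl⟩ := exists_el K₀ (U := U.unop) y
    show FreeAbelianGroup.lift _ (FreeAbelianGroup.of _) = _
    rw [FreeAbelianGroup.lift_apply_of]
    refine (toNat_el K F.obj (x₀ F θ) j g).trans ?_
    rw [hx₀]
    show F.obj.map g.op ((ψ F θ).app _ (FreeAbelianGroup.of (el K₀ j (𝟙 _)))) = _
    rw [← NatTrans.naturality_apply]
    show (ψ F θ).app _ (FreeAbelianGroup.map _ (FreeAbelianGroup.of (el K₀ j (𝟙 _)))) = _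
    rw [FreeAbelianGroup.map_of_apply]
    refine congrArg (fun y => (ψ F θ).app _ (FreeAbelianGroup.of y)) ?_
    exact (restrict_el K₀ g j (𝟙 _)).trans (by rw [Category.comp_id])
  have hd : ∀ F : Sheaf J AddCommGrpCat.{u}, x₀ F ≫ (Hyper.cechCxSite K F.obj).d 0 1 = 0 := fun F => by
    ext θ
    refine ext_comp K fun j => ?_
    have h := d_toLift_of K F.obj 0 (x₀ F θ) j (𝟙 _)
    rw [hlift, ψ_d, op_id, F.obj.map_id] at h
    exact h.symm.trans (map_zero _).symm
  let L := fun F : Sheaf J AddCommGrpCat.{u} => (Hyper.cechCxSite K F.obj).liftCycles (x₀ F) 1 (by simp) (hd F)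
  haveI hL : ∀ F, IsIso (L F) := fun F => by
    rw [ConcreteCategory.isIso_iff_bijective]
    have hi : ∀ θ, (Hyper.cechCxSite K F.obj).iCycles 0 (L F θ) = x₀ F θ := fun θ => by
      show (L F ≫ (Hyper.cechCxSite K F.obj).iCycles 0) θ = _
      rw [HomologicalComplex.liftCycles_i]
    refine ⟨fun θ θ' h => ?_, fun z => ?_⟩
    · have e1 : ψ F θ = ψ F θ' := by
        rw [← hlift, ← hlift, ← hi, ← hi, h]
      exact (cancel_epi π).1 ((adj.homEquiv _ _).injective e1)
    · let x := (Hyper.cechCxSite K F.obj).iCycles 0 z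
      have hdx : (Hyper.cechCxSite K F.obj).d 0 1 x = 0 := by
        show ((Hyper.cechCxSite K F.obj).iCycles 0 ≫ (Hyper.cechCxSite K F.obj).d 0 1) z = 0
        rw [HomologicalComplex.iCycles_d]
        rfl
      have hφ : (freeCx K).d 1 0 ≫ toLift K F.obj x = 0 := by
        refine NatTrans.ext (funext fun U => AddCommGrpCat.hom_ext (FreeAbelianGroup.lift_ext _ _ fun y => ?_))
        obtain ⟨j, g, rfl⟩ := exists_el (K.obj (op ⦋1⦌)) (U := U.unop) y
        refine (d_toLift_of K F.obj 0 x j g).trans ?_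
        rw [show comp K F.obj ((Hyper.cechCxSite K F.obj).d 0 1 x) j = 0 from by rw [hdx]; exact map_zero _, map_zero]
        rfl
      let φ := (adj.homEquiv _ _).symm (toLift K F.obj x)
      have hφ' : a.map ((freeCx K).d 1 0) ≫ φ = 0 := by
        rw [← adj.homEquiv_naturality_left_symm, hφ]
        exact map_zero (adj.homAddEquiv _ _).symm
      obtain ⟨θ, hθ⟩ := CokernelCofork.IsColimit.desc' hC φ hφ'
      refine ⟨θ, (AddCommGrpCat.mono_iff_injective ((Hyper.cechCxSite K F.obj).iCycles 0)).1 inferInstance ?_⟩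
      rw [hi]
      refine ext_comp K fun j => ?_
      rw [hx₀]
      show (adj.homEquiv _ _ (π ≫ θ)).app _ _ = comp K F.obj x j
      rw [show π ≫ θ = φ from hθ, Equiv.apply_symm_apply]
      show FreeAbelianGroup.lift _ (FreeAbelianGroup.of _) = _
      rw [FreeAbelianGroup.lift_apply_of]
      refine (toNat_el K F.obj x j (𝟙 _)).trans ?_
      rw [op_id, F.obj.map_id]
      rfl
  refine ⟨NatIso.ofComponents (fun F => @asIso _ _ _ _ (L F) (hL F) ≪≫ @asIso _ _ _ _ ((Hyper.cechCxSite K F.obj).homologyπ 0) (CochainComplex.isIso_homologyπ₀ _)) fun {F G} φ => ?_⟩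
  show (preadditiveCoyoneda.obj (op (ZJ J))).map φ ≫ L G ≫ (Hyper.cechCxSite K G.obj).homologyπ 0 =
    (L F ≫ (Hyper.cechCxSite K F.obj).homologyπ 0) ≫ HomologicalComplex.homologyMap (cxMap K φ.hom) 0
  rw [Category.assoc, HomologicalComplex.homologyπ_naturality, ← Category.assoc, ← Category.assoc]
  congr 1
  rw [← cancel_mono ((Hyper.cechCxSite K G.obj).iCycles 0)]
  erw [Category.assoc, Category.assoc, HomologicalComplex.cyclesMap_i, HomologicalComplex.liftCycles_i,
    HomologicalComplex.liftCycles_i_assoc]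
  ext θ
  refine ext_comp K fun j => ?_
  show comp K G.obj (x₀ G (θ ≫ φ)) j = comp K G.obj ((cxMap K φ.hom).f 0 (x₀ F θ)) j
  rw [comp_cxMap, hx₀, hx₀]
  show (ψ G (θ ≫ φ)).app _ _ = φ.hom.app _ ((ψ F θ).app _ _)
  rw [ψ_nat]
  rfl

/-- **The spectral sequence of a hypercovering.** -/
theorem exists_cech_spectralSequence (hK : Hyper.IsHypercoveringSite J K) (F : Sheaf J AddCommGrpCat.{u}) :
    ∃ (E : E₂CohomologicalSpectralSequence AddCommGrpCat.{u})
      (a : SpSeq.Abutment E (fun n : ℤ => if 0 ≤ n then AddCommGrpCat.of (Sheaf.H F n.toNat) else AddCommGrpCat.of PUnit.{u + 1})),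
      (∀ n, a.IsFinite n) ∧ SpSeq.IsBounded E ∧
      ∀ p q : ℤ, Nonempty ((E.page 2 le_rfl).X (p, q) ≅
        (if 0 ≤ p ∧ 0 ≤ q then (Hyper.cechCxSite K (Sheaf.cohomologyPresheaf F q.toNat)).homology p.toNat
         else AddCommGrpCat.of PUnit.{u + 1})) := by
  haveI : HasColimitsOfSize.{0, 0} AddCommGrpCat.{u} := hasColimitsOfSizeShrink.{0, 0, u, u} _
  haveI : EnoughInjectives (SimplexCategory ⥤ AddCommGrpCat.{u}) := by
    let e : SimplexCategory ≌ ((AsSmall.{u} SimplexCategory)ᵒᵖ)ᵒᵖ := AsSmall.equiv.trans (opOpEquivalence _).symm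
    exact EnoughInjectives.of_equivalence (e.congrLeft.trans (sheafBotEquivalence AddCommGrpCat.{u}).symm).functor
  haveI : (Functor.const SimplexCategory : AddCommGrpCat.{u} ⥤ _).Additive := ⟨fun {_ _ _ _} => by ext; rfl⟩
  haveI : (lim : (SimplexCategory ⥤ AddCommGrpCat.{u}) ⥤ AddCommGrpCat.{u}).Additive :=
    constLimAdj.right_adjoint_additive
  haveI : PreservesLimitsOfSize.{0, 0} (lim : (SimplexCategory ⥤ AddCommGrpCat.{u}) ⥤ AddCommGrpCat.{u}) :=
    constLimAdj.rightAdjoint_preservesLimits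
  haveI : PreservesFiniteLimits (lim : (SimplexCategory ⥤ AddCommGrpCat.{u}) ⥤ AddCommGrpCat.{u}) :=
    PreservesLimitsOfSize.preservesFiniteLimits _
  letI := HasDerivedCategory.standard (SimplexCategory ⥤ AddCommGrpCat.{u})
  have hderΦ : ∀ q : ℕ, Nonempty (((evalSh K J).rightDerived q).obj F ≅ (evalS K).obj (F.cohomologyPresheaf q)) := by
    intro q
    let R : InjectiveResolution F := injectiveResolution F
    obtain ⟨i⟩ := CohLib.nonempty_secCx_homology_iso R q
    exact ⟨R.isoRightDerivedObj (evalSh K J) q ≪≫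
      (((CohLib.secCx R).sc q).mapHomologyIso (evalS K)) ≪≫ (evalS K).mapIso i⟩
  let d := Groth.Agent.CosimpLimLib.delta AddCommGrpCat.{u}
  obtain ⟨z⟩ := nonempty_zero_natIso K J hK
  let Γ := preadditiveCoyoneda.obj (op (ZJ J))
  let γ : Γ ≅ evalSh K J ⋙ lim := z ≪≫ Functor.isoWhiskerLeft (evalSh K J) (Groth.Agent.CosimpLimLib.zeroIso AddCommGrpCat.{u})
  let H : ℤ → AddCommGrpCat.{u} := fun n =>
    if 0 ≤ n then AddCommGrpCat.of (Sheaf.H F n.toNat) else AddCommGrpCat.of PUnit.{u + 1}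
  have hPU : IsZero (AddCommGrpCat.of PUnit.{u + 1}) := AddCommGrpCat.isZero_of_subsingleton _
  have hH : ∀ n : ℕ, Nonempty (H n ≅ ((evalSh K J ⋙ lim).rightDerived n).obj F) := by
    intro n
    obtain ⟨e₁⟩ := CohLib.nonempty_rightDerived_coyoneda_iso_ext (ZJ J) F n
    let R : InjectiveResolution F := injectiveResolution F
    exact ⟨eqToIso (if_pos (Int.natCast_nonneg n)) ≪≫ e₁.symm ≪≫ R.isoRightDerivedObj Γ n ≪≫
      (HomologicalComplex.homologyFunctor _ _ n).mapIso
        ((NatIso.mapHomologicalComplex γ (ComplexShape.up ℕ)).app R.cocomplex) ≪≫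
      (R.isoRightDerivedObj (evalSh K J ⋙ lim) n).symm⟩
  obtain ⟨E, a, h₁, h₂, h₃, h₄⟩ := SpSeqLib.exists_grothendieck_spectralSequence
    (lim : (SimplexCategory ⥤ AddCommGrpCat.{u}) ⥤ AddCommGrpCat.{u}) (evalSh K J)
    (fun Q hQ q hq => by
      haveI := hQ
      obtain ⟨q, rfl⟩ := Nat.exists_eq_succ_of_ne_zero hq.ne'
      obtain ⟨e⟩ := Groth.Agent.CosimpLimLib.nonempty_rightDerived_lim_iso ((evalSh K J).obj Q) (q + 1)
      exact (isZero_cech_injective K J hK Q q).of_iso e)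
    F H hH (fun n hn => hPU.of_iso (eqToIso (if_neg (by lia))))
  refine ⟨E, a, h₁, h₂, fun p q => ?_⟩
  by_cases hpq : 0 ≤ p ∧ 0 ≤ q
  · obtain ⟨p, rfl⟩ := Int.eq_ofNat_of_zero_le hpq.1
    obtain ⟨q, rfl⟩ := Int.eq_ofNat_of_zero_le hpq.2
    obtain ⟨e₁⟩ := h₃ p q
    obtain ⟨e₂⟩ := hderΦ q
    obtain ⟨e₃⟩ := Groth.Agent.CosimpLimLib.nonempty_rightDerived_lim_iso ((evalS K).obj (F.cohomologyPresheaf q)) p
    exact ⟨e₁ ≪≫ ((lim : (SimplexCategory ⥤ AddCommGrpCat.{u}) ⥤ AddCommGrpCat.{u}).rightDerived p).mapIso e₂ ≪≫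
      e₃ ≪≫ eqToIso (if_pos hpq).symm⟩
  · exact ⟨(h₄ p q (by lia)).iso hPU ≪≫ eqToIso (if_neg hpq).symm⟩

end HypercovLib
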