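import Groth.Prelude.Def_Hyper
import Mathlib

/-! # Sections of the presheaf of a formal coproduct and local surjectivity of coverings -/

set_option autoImplicit false
universe u

open CategoryTheory CategoryTheory.Limits Opposite

namespace HypercovLib

variable {D : Type u} [SmallCategory D]

/-- The section of the presheaf of a formal coproduct given by a morphism into one component. -/
noncomputable def el (A : FormalCoproduct.{u} D) {U : D} (i : A.I) (g : U ⟶ A.obj i) :
    (FormalCoproduct.yoneda.obj A).obj (op U) :=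
  (Sigma.ι (fun i => yoneda.obj (A.obj i)) i).app (op U) g

theorem exists_el (A : FormalCoproduct.{u} D) {U : D} (y : (FormalCoproduct.yoneda.obj A).obj (op U)) :
    ∃ (i : A.I) (g : U ⟶ A.obj i), el A i g = y := by
  obtain ⟨⟨i⟩, g, hg⟩ := Types.jointly_surjective_of_isColimit
    (isColimitOfPreserves ((evaluation Dᵒᵖ (Type u)).obj (op U))
      (colimit.isColimit (Discrete.functor fun i => yoneda.obj (A.obj i)))) y
  exact ⟨i, g, hg⟩

theorem map_el {A B : FormalCoproduct.{u} D} (m : A ⟶ B) {U : D} (i : A.I) (g : U ⟶ A.obj i) :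
    (FormalCoproduct.yoneda.map m).app (op U) (el A i g) = el B (m.f i) (g ≫ m.φ i) := by
  show (Sigma.ι (fun i => yoneda.obj (A.obj i)) i ≫ Sigma.desc _).app (op U) g = _
  rw [Sigma.ι_desc]
  rfl

theorem el_congr (A : FormalCoproduct.{u} D) {U : D} {i j : A.I} (h : i = j) (g : U ⟶ A.obj i) :
    el A i g = el A j (g ≫ eqToHom (congrArg A.obj h)) := by
  subst h
  rw [eqToHom_refl, Category.comp_id]

theorem restrict_el (A : FormalCoproduct.{u} D) {U V : D} (h : V ⟶ U) (i : A.I) (g : U ⟶ A.obj i) :
    (FormalCoproduct.yoneda.obj A).map h.op (el A i g) = el A i (h ≫ g) :=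
  (NatTrans.naturality_apply (Sigma.ι (fun i => yoneda.obj (A.obj i)) i) h.op g).symm

/-- A covering of formal coproducts is locally surjective on presheaves. -/
theorem isLocallySurjective (J : GrothendieckTopology D) {A B : FormalCoproduct.{u} D} (m : A ⟶ B)
    (hm : Hyper.IsSRCovering J m) : Presheaf.IsLocallySurjective J (FormalCoproduct.yoneda.map m) := by
  refine ⟨fun {U} s => ?_⟩
  obtain ⟨j, g, rfl⟩ := exists_el B s
  refine J.superset_covering ?_ (J.pullback_stable g (hm j))
  intro V h hh
  obtain ⟨_, γ, _, ⟨i⟩, hγ⟩ := hh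
  refine ⟨el A i.1 γ, ?_⟩
  rw [map_el, restrict_el, el_congr B i.2, Category.assoc, hγ]

/-- Sections of a binary product of presheaves are determined by their projections. -/
theorem prod_ext {P Q : Dᵒᵖ ⥤ Type u} {U : D} {p p' : (P ⨯ Q).obj (op U)}
    (h₁ : (prod.fst : P ⨯ Q ⟶ P).app (op U) p = (prod.fst : P ⨯ Q ⟶ P).app (op U) p')
    (h₂ : (prod.snd : P ⨯ Q ⟶ Q).app (op U) p = (prod.snd : P ⨯ Q ⟶ Q).app (op U) p') : p = p' := by
  apply yonedaEquiv.symm.injective
  refine prod.hom_ext (yonedaEquiv.injective ?_) (yonedaEquiv.injective ?_)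
  · rw [yonedaEquiv_comp, yonedaEquiv_comp, Equiv.apply_symm_apply, Equiv.apply_symm_apply]
    exact h₁
  · rw [yonedaEquiv_comp, yonedaEquiv_comp, Equiv.apply_symm_apply, Equiv.apply_symm_apply]
    exact h₂

end HypercovLib
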