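import Groth.Agent.HypercovLib.Boundary
import Groth.Agent.HypercovLib.Elem
import Mathlib

/-! # Local cones in the simplicial presheaf of a hypercovering -/

set_option autoImplicit false
universe u

open CategoryTheory CategoryTheory.Limits Opposite SimplexCategory Simplicial

namespace HypercovLib

variable {C : Type u} [SmallCategory C]

/-- The section given by a morphism from a single object. -/
noncomputable def ofHom (A : FormalCoproduct.{u} C) {U : C} (m : (FormalCoproduct.incl C).obj U ⟶ A) :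
    (FormalCoproduct.yoneda.obj A).obj (op U) :=
  el A (m.f PUnit.unit) (m.φ PUnit.unit)

theorem ofHom_map {A B : FormalCoproduct.{u} C} {U : C} (m : (FormalCoproduct.incl C).obj U ⟶ A) (g : A ⟶ B) :
    (FormalCoproduct.yoneda.map g).app (op U) (ofHom A m) = ofHom B (m ≫ g) :=
  map_el g _ _

theorem ofHom_restrict (A : FormalCoproduct.{u} C) {U V : C} (h : V ⟶ U)
    (m : (FormalCoproduct.incl C).obj U ⟶ A) :
    (FormalCoproduct.yoneda.obj A).map h.op (ofHom A m) = ofHom A ((FormalCoproduct.incl C).map h ≫ m) :=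
  restrict_el A h _ _

/-- The presheaf of morphisms into a formal coproduct. -/
noncomputable def toPts (A : FormalCoproduct.{u} C) :
    FormalCoproduct.yoneda.obj A ⟶ (FormalCoproduct.incl C).op ⋙ yoneda.obj A :=
  Sigma.desc fun i => yonedaEquiv.symm
    (show ((FormalCoproduct.incl C).op ⋙ yoneda.obj A).obj (op (A.obj i)) from
      ({ f := fun _ => i, φ := fun _ => 𝟙 _ } : (FormalCoproduct.incl C).obj (A.obj i) ⟶ A))

theorem toPts_ofHom (A : FormalCoproduct.{u} C) {U : C} (m : (FormalCoproduct.incl C).obj U ⟶ A) :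
    (toPts A).app (op U) (ofHom A m) =
      (show ((FormalCoproduct.incl C).op ⋙ yoneda.obj A).obj (op U) from m) := by
  have h : (Sigma.ι (fun i => yoneda.obj (A.obj i)) (m.f PUnit.unit) ≫ toPts A).app (op U) (m.φ PUnit.unit) =
      (show ((FormalCoproduct.incl C).op ⋙ yoneda.obj A).obj (op U) from m) := by
    rw [toPts, Sigma.ι_desc]
    exact FormalCoproduct.hom_ext (funext fun _ => rfl) fun _ => by
      show (m.φ PUnit.unit ≫ 𝟙 _) ≫ _ = _
      rw [Category.comp_id]
      exact Category.comp_id _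
  exact h

theorem ofHom_injective (A : FormalCoproduct.{u} C) (U : C) :
    Function.Injective (ofHom A : ((FormalCoproduct.incl C).obj U ⟶ A) → _) := fun a b h => by
  rw [← toPts_ofHom A a, h, toPts_ofHom]

theorem ofHom_surjective (A : FormalCoproduct.{u} C) (U : C) :
    Function.Surjective (ofHom A : ((FormalCoproduct.incl C).obj U ⟶ A) → _) := fun y => by
  obtain ⟨i, g, rfl⟩ := exists_el A y
  exact ⟨{ f := fun _ => i, φ := fun _ => g }, rfl⟩

variable (K : SimplicialObject (FormalCoproduct.{u} C))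

/-- The presheaf of `n`-simplices. -/
noncomputable abbrev Y (n : ℕ) : Cᵒᵖ ⥤ Type u := FormalCoproduct.yoneda.obj (K.obj (op ⦋n⦌))

/-- Restriction of simplices. -/
noncomputable abbrev res {n : ℕ} {U V : C} (h : V ⟶ U) (y : (Y K n).obj (op U)) : (Y K n).obj (op V) :=
  (Y K n).map h.op y

/-- The faces of a simplex. -/
noncomputable abbrev face {n : ℕ} (i : Fin (n + 2)) {U : C} (y : (Y K (n + 1)).obj (op U)) : (Y K n).obj (op U) :=
  (FormalCoproduct.yoneda.map (K.δ i)).app (op U) y

theorem face_res {n : ℕ} (i : Fin (n + 2)) {U V : C} (h : V ⟶ U) (y : (Y K (n + 1)).obj (op U)) :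
    face K i (res K h y) = res K h (face K i y) :=
  NatTrans.naturality_apply (FormalCoproduct.yoneda.map (K.δ i)) h.op y

theorem res_res {n : ℕ} {U V W : C} (h : V ⟶ U) (g : W ⟶ V) (y : (Y K n).obj (op U)) :
    res K g (res K h y) = res K (g ≫ h) y := by
  simp only [res, op_comp, Functor.map_comp, ConcreteCategory.comp_apply]

theorem res_id {n : ℕ} {U : C} (y : (Y K n).obj (op U)) : res K (𝟙 U) y = y := by
  exact congr($((Y K n).map_id (op U)) y)

theorem face_face {n : ℕ} {i j : Fin (n + 2)} (H : i ≤ j) {U : C} (y : (Y K (n + 2)).obj (op U)) :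
    face K i (face K j.succ y) = face K j (face K i.castSucc y) := by
  obtain ⟨m, rfl⟩ := ofHom_surjective _ _ y
  simp only [face, ofHom_map, Category.assoc]
  rw [K.δ_comp_δ H]

theorem nonempty_of_vertex {U : C} (v : (Y K 0).obj (op U)) (n : ℕ) : Nonempty ((Y K n).obj (op U)) := by
  obtain ⟨m, -⟩ := ofHom_surjective _ _ v
  exact ⟨ofHom _ (m ≫ K.map (toPt ⦋n⦌).op)⟩

variable (J : GrothendieckTopology C)
  [∀ (n : ℕ) (F : (SimplexCategory.Truncated n)ᵒᵖ ⥤ Limits.FormalCoproduct.{u} C),
    (SimplexCategory.Truncated.inclusion n).op.HasRightKanExtension F]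

/-- Two vertices are locally joined by an edge. -/
theorem lift_edge (hK : Hyper.IsHypercoveringSite J K) {U : C} (y v : (Y K 0).obj (op U)) :
    ∃ R ∈ J U, ∀ ⦃V : C⦄ (h : V ⟶ U), R h →
      ∃ w : (Y K 1).obj (op V), face K 0 w = res K h y ∧ face K 1 w = res K h v := by
  obtain ⟨-, hK1, -⟩ := hK
  let Φ := prod.lift (yonedaEquiv.symm v) (yonedaEquiv.symm y)
  let p := yonedaEquiv Φ
  have hp1 : (prod.fst : Y K 0 ⨯ Y K 0 ⟶ Y K 0).app (op U) p = v := by
    show (Φ ≫ prod.fst).app (op U) (𝟙 U) = v
    rw [prod.lift_fst]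
    exact yonedaEquiv.apply_symm_apply v
  have hp2 : (prod.snd : Y K 0 ⨯ Y K 0 ⟶ Y K 0).app (op U) p = y := by
    show (Φ ≫ prod.snd).app (op U) (𝟙 U) = y
    rw [prod.lift_snd]
    exact yonedaEquiv.apply_symm_apply y
  let Ψ := prod.lift (FormalCoproduct.yoneda.map (K.δ (1 : Fin 2))) (FormalCoproduct.yoneda.map (K.δ (0 : Fin 2)))
  refine ⟨_, Presheaf.imageSieve_mem J Ψ p, fun V h hh => ?_⟩
  obtain ⟨w, hw⟩ := hh
  refine ⟨w, ?_, ?_⟩
  · rw [face, show FormalCoproduct.yoneda.map (K.δ (0 : Fin 2)) = Ψ ≫ prod.snd from (prod.lift_snd _ _).symm,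
      NatTrans.comp_app_apply, hw, NatTrans.naturality_apply, hp2]
  · rw [face, show FormalCoproduct.yoneda.map (K.δ (1 : Fin 2)) = Ψ ≫ prod.fst from (prod.lift_fst _ _).symm,
      NatTrans.comp_app_apply, hw, NatTrans.naturality_apply, hp1]

/-- A compatible sphere is locally filled. -/
theorem lift_sphere (hK : Hyper.IsHypercoveringSite J K) {U : C} {m : ℕ}
    (z : Fin (m + 3) → (Y K (m + 1)).obj (op U))
    (hz : ∀ i j : Fin (m + 2), i ≤ j → face K i (z j.succ) = face K j (z i.castSucc)) :
    ∃ R ∈ J U, ∀ ⦃V : C⦄ (h : V ⟶ U), R h →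
      ∃ w : (Y K (m + 2)).obj (op V), ∀ k, face K k w = res K h (z k) := by
  obtain ⟨-, -, hK2⟩ := hK
  choose a ha using fun k => ofHom_surjective _ _ (z k)
  obtain ⟨c, hc⟩ := exists_sphere K a (fun i j hij => ofHom_injective _ _ (by
    rw [← ofHom_map, ← ofHom_map, ha, ha]
    exact hz i j hij))
  haveI := hK2 (m + 1) (Nat.succ_le_succ (Nat.zero_le m))
  refine ⟨_, Presheaf.imageSieve_mem J
    (FormalCoproduct.yoneda.map (((SimplicialObject.coskAdj (m + 1)).unit.app K).app (op ⦋m + 2⦌))) (ofHom _ c),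
    fun V h hh => ?_⟩
  obtain ⟨w, hw⟩ := hh
  obtain ⟨e, rfl⟩ := ofHom_surjective _ _ w
  refine ⟨ofHom _ e, fun k => ?_⟩
  have he := hc h e (ofHom_injective _ _ ((ofHom_map _ _).symm.trans (hw.trans (ofHom_restrict _ h c)))) k
  rw [face, ofHom_map, he, res, ← ha k, ofHom_restrict]

/-- The conditions on a cone over the simplices in `F`, in degree at most `k`. -/
def IsCone {U V : C} (v : (Y K 0).obj (op U)) (F : ∀ l, Set ((Y K l).obj (op U))) (f : V ⟶ U)
    (h : ∀ l, (Y K l).obj (op U) → (Y K (l + 1)).obj (op V)) (k : ℕ) : Prop :=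
  (∀ l, l < k → ∀ y ∈ F l, face K 0 (h l y) = res K f y) ∧
    (0 < k → ∀ y ∈ F 0, face K 1 (h 0 y) = res K f v) ∧
    ∀ l, l + 1 < k → ∀ y ∈ F (l + 1), ∀ i : Fin (l + 2), face K i.succ (h (l + 1) y) = h l (face K i y)

variable {K J} in
theorem IsCone.restrict {U V W : C} {v : (Y K 0).obj (op U)} {F : ∀ l, Set ((Y K l).obj (op U))} {f : V ⟶ U}
    {h : ∀ l, (Y K l).obj (op U) → (Y K (l + 1)).obj (op V)} {k : ℕ} (H : IsCone K v F f h k) (g : W ⟶ V) :
    IsCone K v F (g ≫ f) (fun l y => res K g (h l y)) k := by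
  refine ⟨fun l hl y hy => ?_, fun hk y hy => ?_, fun l hl y hy i => ?_⟩
  · rw [face_res, H.1 l hl y hy, res_res]
  · rw [face_res, H.2.1 hk y hy, res_res]
  · rw [face_res, H.2.2 l hl y hy i]

/-- Locally there is a cone over finitely many simplices. -/
theorem exists_cone (hK : Hyper.IsHypercoveringSite J K) {U : C} (v : (Y K 0).obj (op U))
    (F : ∀ l, Set ((Y K l).obj (op U))) (hF : ∀ l, (F l).Finite)
    (hface : ∀ l, ∀ y ∈ F (l + 1), ∀ i, face K i y ∈ F l) (k : ℕ) :
    ∃ R ∈ J U, ∀ ⦃V : C⦄ (f : V ⟶ U), R f → ∃ h, IsCone K v F f h k := by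
  classical
  induction k with
  | zero =>
    refine ⟨⊤, J.top_mem U, fun V f _ => ?_⟩
    obtain ⟨m, hm⟩ := ofHom_surjective _ _ v
    refine ⟨fun l _ => res K f (ofHom _ (m ≫ K.map (toPt ⦋l + 1⦌).op)), ?_, ?_, ?_⟩
    · exact fun l hl => absurd hl (Nat.not_lt_zero _)
    · exact fun hl => absurd hl (Nat.not_lt_zero _)
    · exact fun l hl => absurd hl (Nat.not_lt_zero _)
  | succ k ih =>
    obtain ⟨R, hR, hh⟩ := ih
    have step : ∀ ⦃V : C⦄ (f : V ⟶ U), R f → ∃ S ∈ J V, ∀ ⦃W : C⦄ (g : W ⟶ V), S g →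
        ∃ h, IsCone K v F (g ≫ f) h (k + 1) := by
      intro V f hf
      obtain ⟨h, H⟩ := hh f hf
      have fill : ∀ y ∈ F k, ∃ S ∈ J V, ∀ ⦃W : C⦄ (g : W ⟶ V), S g → ∃ w : (Y K (k + 1)).obj (op W),
          face K 0 w = res K (g ≫ f) y ∧ (∀ hk : k = 0, face K 1 w = res K (g ≫ f) (hk ▸ v)) ∧
          ∀ l (hl : k = l + 1), ∀ i : Fin (l + 2),
            face K (Fin.cast (by omega) i.succ) w = hl ▸ res K g (h l (face K i (hl ▸ y))) := by
        intro y hy
        cases k with
        | zero =>
          obtain ⟨S, hS, hw⟩ := lift_edge K J hK (res K f y) (res K f v)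
          refine ⟨S, hS, fun W g hg => ?_⟩
          obtain ⟨w, h0, h1⟩ := hw g hg
          exact ⟨w, by rw [h0, res_res], fun _ => by rw [h1, res_res], fun l hl => absurd hl (by omega)⟩
        | succ m =>
          let z : Fin (m + 3) → (Y K (m + 1)).obj (op V) := Fin.cons (res K f y) fun i => h m (face K i y)
          have hz : ∀ i j : Fin (m + 2), i ≤ j → face K i (z j.succ) = face K j (z i.castSucc) := by
            intro i j hij
            rcases Fin.eq_zero_or_eq_succ i with rfl | ⟨i', rfl⟩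
            · simp only [z, Fin.cons_succ, Fin.castSucc_zero, Fin.cons_zero]
              rw [H.1 m (Nat.lt_succ_self m) _ (hface m y hy j), face_res]
            · obtain ⟨j', rfl⟩ := Fin.exists_succ_eq.2 (show j ≠ 0 from fun h0 => by
                rw [h0] at hij; exact absurd hij (not_le_of_gt (Fin.succ_pos _)))
              have hij' : i' ≤ j' := Fin.succ_le_succ_iff.1 hij
              simp only [z, Fin.cons_succ, ← Fin.succ_castSucc]
              cases m with
              | zero =>
                obtain rfl : i' = 0 := Subsingleton.elim (α := Fin 1) _ _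
                obtain rfl : j' = 0 := Subsingleton.elim (α := Fin 1) _ _
                exact (H.2.1 Nat.one_pos _ (hface 0 y hy _)).trans (H.2.1 Nat.one_pos _ (hface 0 y hy _)).symm
              | succ p =>
                rw [H.2.2 p (Nat.lt_succ_self _) _ (hface _ y hy _) i', H.2.2 p (Nat.lt_succ_self _) _ (hface _ y hy _) j',
                  face_face K hij']
          obtain ⟨S, hS, hw⟩ := lift_sphere K J hK z hz
          refine ⟨S, hS, fun W g hg => ?_⟩
          obtain ⟨w, hwk⟩ := hw g hg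
          refine ⟨w, by rw [hwk]; exact res_res K f g y, fun hk => absurd hk (by omega), fun l hl i => ?_⟩
          obtain rfl : m = l := by omega
          rw [show Fin.cast _ i.succ = i.succ from rfl, hwk]
          rfl
      choose! S hS hw using fill
      refine ⟨(hF k).toFinset.inf S, ?_, fun W g hg => ?_⟩
      · refine Finset.inf_induction (p := fun R => R ∈ J V) (J.top_mem V)
          (fun a ha b hb => J.intersection_covering ha hb) fun y hy => hS y ((hF k).mem_toFinset.1 hy)
      · haveI : Nonempty ((Y K (k + 1)).obj (op W)) := nonempty_of_vertex K (res K (g ≫ f) v) _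
        have hg' : ∀ y ∈ F k, S y g := fun y hy => (Finset.inf_le ((hF k).mem_toFinset.2 hy) : _ ≤ S y) _ hg
        choose! w h0 h1 h2 using fun y hy => hw y hy g (hg' y hy)
        have Hr := H.restrict g
        refine ⟨Function.update (fun l y => res K g (h l y)) k w, fun l hl y hy => ?_, fun _ y hy => ?_,
          fun l hl y hy i => ?_⟩
        · rcases Nat.lt_succ_iff_lt_or_eq.1 hl with hl' | rfl
          · rw [Function.update_of_ne (Nat.ne_of_lt hl')]
            exact Hr.1 l hl' y hy
          · rw [Function.update_self]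
            exact h0 y hy
        · rcases Nat.eq_zero_or_pos k with rfl | hk
          · rw [Function.update_self]
            exact h1 y hy rfl
          · rw [Function.update_of_ne (Nat.ne_of_lt hk)]
            exact Hr.2.1 hk y hy
        · rcases Nat.lt_succ_iff_lt_or_eq.1 hl with hl' | heq
          · rw [Function.update_of_ne (Nat.ne_of_lt hl'), Function.update_of_ne (by omega)]
            exact Hr.2.2 l hl' y hy i
          · subst heq
            rw [Function.update_self, Function.update_of_ne (by omega)]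
            exact h2 y hy l rfl i
    choose! S hS hcone using step
    exact ⟨Sieve.bind R.arrows fun _ f hf => S f, J.bind_covering hR fun _ f hf => hS f hf, by
      rintro W _ ⟨V, g, f, hf, hg, rfl⟩
      exact hcone f hf g hg⟩

end HypercovLib
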