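import Groth.Agent.HypercovLib.SSetDet
import Mathlib.AlgebraicTopology.SimplicialObject.Coskeletal
import Mathlib

/-! # Coskeletal objects give simplicial sets determined in low degrees -/

set_option autoImplicit false
universe v w u

open CategoryTheory CategoryTheory.Limits Opposite Simplicial

noncomputable section

namespace HypercovLib

variable {E : Type w} [Category.{v} E] [HasLimitsOfSize.{0, 0} E]

/-- A limit preserving functor sends coskeletal objects to simplicial sets determined in low degrees. -/
theorem det_of_isIso {n : ℕ}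
    [∀ F : (SimplexCategory.Truncated n)ᵒᵖ ⥤ E, (SimplexCategory.Truncated.inclusion n).op.HasRightKanExtension F]
    (X : SimplicialObject E) (hX : IsIso ((SimplicialObject.coskAdj n).unit.app X))
    (F : E ⥤ Type u) [PreservesLimitsOfSize.{0, 0} F] : Det (X ⋙ F) n := by
  haveI := (SimplicialObject.isCoskeletal_iff_isIso X n).2 hX
  let I := (SimplexCategory.Truncated.inclusion n).op
  haveI : I.HasPointwiseRightKanExtension (I ⋙ X) := fun Y => inferInstance
  intro p v hv
  let hlim := isLimitOfPreserves F (Functor.isPointwiseRightKanExtensionOfIsRightKanExtension X (𝟙 (I ⋙ X)) (op p))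
  let s : ∀ j : StructuredArrow (op p) I,
      ((StructuredArrow.proj (op p) I ⋙ I ⋙ X) ⋙ F).obj j := fun j => v j.right.unop.obj j.right.unop.property j.hom.unop
  obtain ⟨x, hx, huniq⟩ := (Types.isLimit_iff _).1 ⟨hlim⟩ s (fun {a b} φ => by
    refine (hv a.right.unop.obj b.right.unop.obj a.right.unop.property b.right.unop.property φ.right.unop.hom a.hom.unop).trans ?_
    refine congrArg (v _ _) ?_
    rw [← StructuredArrow.w φ]
    rfl)
  have key : ∀ (y : F.obj (X.obj (op p))) (j : StructuredArrow (op p) I),
      (F.mapCone ((Functor.RightExtension.mk _ (𝟙 (I ⋙ X))).coneAt (op p))).π.app j y = (X ⋙ F).map j.hom y := fun y j => by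
    show F.map (X.map j.hom ≫ 𝟙 _) y = _
    rw [Category.comp_id]
    rfl
  refine ⟨x, fun a ha θ => ?_, fun y hy => huniq y fun j => (key y j).trans ?_⟩
  · let j : StructuredArrow (op p) I :=
      StructuredArrow.mk (Y := op (⟨a, ha⟩ : SimplexCategory.Truncated n))
        (show op p ⟶ I.obj (op (⟨a, ha⟩ : SimplexCategory.Truncated n)) from θ.op)
    exact (key x j).symm.trans (hx j)
  · exact hy j.right.unop.obj j.right.unop.property j.hom.unop

end HypercovLib
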