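import Mathlib.AlgebraicTopology.SimplicialObject.Basic
import Mathlib.CategoryTheory.Types.Basic
import Mathlib

/-! # Simplicial sets determined by their simplices of low dimension -/

set_option autoImplicit false
universe u

open CategoryTheory Opposite Simplicial

noncomputable section

namespace HypercovLib

variable (S : SimplicialObject (Type u))

theorem map_map {a b c : SimplexCategory} (β : a ⟶ b) (α : b ⟶ c) (x : S.obj (op c)) :
    S.map β.op (S.map α.op x) = S.map (β ≫ α).op x := by
  rw [op_comp, S.map_comp]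
  rfl

theorem map_one {a : SimplexCategory} (x : S.obj (op a)) : S.map (𝟙 a).op x = x := by
  rw [op_id, S.map_id]
  rfl

/-- Simplices are determined by compatible families of simplices of dimension at most `n`. -/
def Det (n : ℕ) : Prop :=
  ∀ (p : SimplexCategory) (v : ∀ a : SimplexCategory, a.len ≤ n → (a ⟶ p) → S.obj (op a)),
    (∀ (a b : SimplexCategory) (ha : a.len ≤ n) (hb : b.len ≤ n) (β : b ⟶ a) (θ : a ⟶ p),
      S.map β.op (v a ha θ) = v b hb (β ≫ θ)) →
    ∃! x, ∀ (a : SimplexCategory) (ha : a.len ≤ n) (θ : a ⟶ p), S.map θ.op x = v a ha θ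

variable {S} {n : ℕ}

theorem Det.ext (h : Det S n) {p : SimplexCategory} {x y : S.obj (op p)}
    (hxy : ∀ (a : SimplexCategory), a.len ≤ n → ∀ θ : a ⟶ p, S.map θ.op x = S.map θ.op y) : x = y :=
  (h p (fun a _ θ => S.map θ.op x) (fun _ _ _ _ β θ => map_map S β θ x)).unique (fun _ _ _ => rfl)
    fun a ha θ => (hxy a ha θ).symm

/-- Degenerate simplices. -/
def Degen {a : SimplexCategory} (z : S.obj (op a)) : Prop :=
  ∃ (b : SimplexCategory) (β : a ⟶ b) (w : S.obj (op b)), ¬ Function.Injective β.toOrderHom ∧ S.map β.op w = z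

theorem eq_of_σ {N : ℕ} {i j : Fin (N + 1)} (hij : i ≤ j) (a b : S.obj (op ⦋N⦌))
    (hf : ∀ k : Fin (N + 2), S.map (SimplexCategory.δ k).op (S.map (SimplexCategory.σ i).op a) =
      S.map (SimplexCategory.δ k).op (S.map (SimplexCategory.σ j).op b)) :
    S.map (SimplexCategory.σ i).op a = S.map (SimplexCategory.σ j).op b := by
  rcases eq_or_lt_of_le hij with rfl | hlt
  · have h := hf i.castSucc
    rw [map_map, map_map, SimplexCategory.δ_comp_σ_self, map_one, map_one] at h
    rw [h]
  · cases N with
    | zero => exact absurd hlt (by rw [Fin.lt_def]; omega)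
    | succ M =>
      obtain ⟨j', rfl⟩ : ∃ j' : Fin (M + 1), j'.succ = j := ⟨_, Fin.succ_pred j (by rintro rfl; exact absurd hlt (by simp))⟩
      obtain ⟨i', rfl⟩ : ∃ i' : Fin (M + 1), Fin.castSucc i' = i :=
        ⟨_, Fin.castSucc_castPred i (fun h => by rw [h] at hlt; exact absurd hlt (Fin.le_last _).not_gt)⟩
      have hle : i' ≤ j' := by
        simp only [Fin.lt_def, Fin.val_succ, Fin.coe_castSucc] at hlt
        rw [Fin.le_def]
        omega
      let w := S.map (SimplexCategory.δ i'.castSucc).op b
      have ha : a = S.map (SimplexCategory.σ j').op w := by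
        have h := hf i'.castSucc.castSucc
        rw [map_map, map_map, SimplexCategory.δ_comp_σ_self, map_one,
          SimplexCategory.δ_comp_σ_of_le (Fin.castSucc_le_castSucc_iff.2 hle), ← map_map] at h
        exact h
      have hz : S.map (SimplexCategory.σ i'.castSucc).op a =
          S.map (SimplexCategory.σ j'.succ).op (S.map (SimplexCategory.σ i').op w) := by
        rw [ha]
        exact (map_map _ _ _ w).trans
          ((congrArg (fun t => S.map t.op w) (SimplexCategory.σ_comp_σ hle)).trans (map_map _ _ _ w).symm)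
      have hb : b = S.map (SimplexCategory.σ i').op w := by
        have h := hf j'.succ.castSucc
        rw [hz, map_map _ _ (SimplexCategory.σ j'.succ), map_map _ _ (SimplexCategory.σ j'.succ),
          SimplexCategory.δ_comp_σ_self, map_one, map_one] at h
        exact h.symm
      rw [hz, ← hb]

/-- Degenerate simplices with the same proper faces agree. -/
theorem Degen.eq {a : SimplexCategory} {z z' : S.obj (op a)} (hz : Degen z) (hz' : Degen z')
    (hf : ∀ (b : SimplexCategory) (γ : b ⟶ a), b.len < a.len → S.map γ.op z = S.map γ.op z') : z = z' := by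
  obtain ⟨b, β, w, hβ, rfl⟩ := hz
  obtain ⟨b', β', w', hβ', rfl⟩ := hz'
  induction a using SimplexCategory.rec with
  | _ N =>
  cases N with
  | zero => exact absurd (fun x y _ => Subsingleton.elim (α := Fin 1) x y) hβ
  | succ N =>
    obtain ⟨i, θ, rfl⟩ := SimplexCategory.eq_σ_comp_of_not_injective β hβ
    obtain ⟨j, θ', rfl⟩ := SimplexCategory.eq_σ_comp_of_not_injective β' hβ'
    have hf' := fun k : Fin (N + 2) => hf ⦋N⦌ (SimplexCategory.δ k) (Nat.lt_succ_self N)
    rw [← map_map S (SimplexCategory.σ i), ← map_map S (SimplexCategory.σ j)] at hf' ⊢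
    rcases le_total i j with h | h
    · exact eq_of_σ h _ _ hf'
    · exact (eq_of_σ h _ _ fun k => (hf' k).symm).symm

variable {L K : SimplicialObject (Type u)} (f : L ⟶ K)

theorem app_map {a b : SimplexCategory} (β : a ⟶ b) (x : L.obj (op b)) :
    f.app _ (L.map β.op x) = K.map β.op (f.app _ x) :=
  NatTrans.naturality_apply f β.op x

variable (n) in
/-- Lifting a simplex whose simplices of dimension `n` lift. -/
theorem exists_preimage (hL : Det L n) (hK : Det K n)
    (hbij : ∀ a : SimplexCategory, a.len < n → Function.Bijective (f.app (op a)))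
    {p : SimplexCategory} (y : K.obj (op p))
    (hy : ∀ θ : ⦋n⦌ ⟶ p, ∃ z, f.app _ z = K.map θ.op y) : ∃ x, f.app _ x = y := by
  classical
  have hex : ∀ (a : SimplexCategory) (ha : a.len ≤ n) (θ : a ⟶ p), ∃ z : L.obj (op a), f.app _ z = K.map θ.op y ∧
      (¬ Function.Injective θ.toOrderHom → a.len = n → Degen z) := fun a ha θ => by
    rcases lt_or_eq_of_le ha with h | h
    · obtain ⟨z, hz⟩ := (hbij a h).2 (K.map θ.op y)
      exact ⟨z, hz, fun _ e => absurd e h.ne⟩
    · obtain rfl : a = ⦋n⦌ := SimplexCategory.ext h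
      by_cases hθ : Function.Injective θ.toOrderHom
      · obtain ⟨z, hz⟩ := hy θ
        exact ⟨z, hz, fun e _ => absurd hθ e⟩
      · cases n with
        | zero => exact absurd (fun x y _ => Subsingleton.elim (α := Fin 1) x y) hθ
        | succ N =>
          obtain ⟨i, θ', rfl⟩ := SimplexCategory.eq_σ_comp_of_not_injective θ hθ
          obtain ⟨w, hw⟩ := (hbij ⦋N⦌ (Nat.lt_succ_self N)).2 (K.map θ'.op y)
          refine ⟨L.map (SimplexCategory.σ i).op w, ?_, fun _ _ => ⟨_, SimplexCategory.σ i, w, fun hi => ?_, rfl⟩⟩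
          · rw [app_map, hw, map_map]
          · exact absurd (hi (a₁ := i.castSucc) (a₂ := i.succ) (by simp [SimplexCategory.σ]))
              (Fin.castSucc_lt_succ).ne
  choose v hv hdeg using hex
  obtain ⟨x, hx, -⟩ := hL p v fun a b ha hb β θ => by
    have e : f.app _ (L.map β.op (v a ha θ)) = f.app _ (v b hb (β ≫ θ)) := by
      rw [app_map, hv, hv, map_map]
    rcases lt_or_eq_of_le hb with h | h
    · exact (hbij b h).1 e
    · by_cases hβ : Function.Injective β.toOrderHom
      · haveI := SimplexCategory.mono_iff_injective.mpr hβ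
        obtain rfl : b = a := SimplexCategory.ext (le_antisymm (SimplexCategory.len_le_of_mono β) (h ▸ ha))
        obtain rfl := SimplexCategory.eq_id_of_mono β
        rw [map_one]
        exact congrArg (v b ha) (Category.id_comp θ).symm
      · refine Degen.eq ⟨a, β, _, hβ, rfl⟩ (hdeg b hb (β ≫ θ) (fun hi => hβ ?_) h) fun c γ hc => ?_
        · intro s t hst
          exact hi (congrArg θ.toOrderHom hst)
        · refine (hbij c (h ▸ hc)).1 ?_
          exact (app_map f γ _).trans ((congrArg _ e).trans (app_map f γ _).symm)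
  refine ⟨x, hK.ext fun a ha θ => ?_⟩
  rw [← app_map, hx a ha θ, hv]

end HypercovLib
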