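import Groth.Agent.HypercovLib.SRCov
import Groth.Agent.CoskFinLib
import Groth.Agent.HypercovLib.SSetDet
import Mathlib

/-! # Hypercoverings by filling spheres of points -/

set_option autoImplicit false
universe u

open CategoryTheory CategoryTheory.Limits Opposite Simplicial

noncomputable section

namespace HypercovLib

variable {C : Type u} [SmallCategory C] {X : C}

/-- The points over `U` of a semi-representable object. -/
abbrev Pt (U : Over X) (A : FormalCoproduct.{u} (Over X)) : Type u :=
  (FormalCoproduct.incl (Over X)).obj U ⟶ A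

/-- Restriction of points. -/
abbrev Pt.res {U V : Over X} (g : V ⟶ U) {A : FormalCoproduct.{u} (Over X)} (x : Pt U A) : Pt V A :=
  (FormalCoproduct.incl (Over X)).map g ≫ x

theorem Pt.res_res {U V W : Over X} (g : V ⟶ U) (h : W ⟶ V) {A : FormalCoproduct.{u} (Over X)} (x : Pt U A) :
    Pt.res h (Pt.res g x) = Pt.res (h ≫ g) x := by
  rw [Pt.res, Pt.res, Pt.res, Functor.map_comp, Category.assoc]

variable (J : GrothendieckTopology C) (K : SimplicialObject (FormalCoproduct.{u} (Over X)))

/-- Spheres of points of dimension `m` in the simplex of dimension `m + 1` are filled locally. -/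
def Fills (m : ℕ) : Prop :=
  ∀ (U : Over X) (v : ∀ a : SimplexCategory, a.len ≤ m → (a ⟶ ⦋m + 1⦌) → Pt U (K.obj (op a))),
    (∀ (a b : SimplexCategory) (ha : a.len ≤ m) (hb : b.len ≤ m) (β : b ⟶ a) (θ : a ⟶ ⦋m + 1⦌),
      v a ha θ ≫ K.map β.op = v b hb (β ≫ θ)) →
    ∃ R ∈ (J.over X) U, ∀ (V : Over X) (g : V ⟶ U), R g → ∃ e : Pt V (K.obj (op ⦋m + 1⦌)),
      ∀ (a : SimplexCategory) (ha : a.len ≤ m) (θ : a ⟶ ⦋m + 1⦌), e ≫ K.map θ.op = Pt.res g (v a ha θ)

variable [HasPullbacks C]
  [∀ (n : ℕ) (F : (SimplexCategory.Truncated n)ᵒᵖ ⥤ Limits.FormalCoproduct.{u} (Over X)),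
    (SimplexCategory.Truncated.inclusion n).op.HasRightKanExtension F]

/-- Being a covering of the sphere object is filling spheres locally. -/
theorem fills_iff (m : ℕ) :
    Hyper.IsSRCovering (J.over X)
      (((SimplicialObject.coskAdj m).unit.app K).app (op (SimplexCategory.mk (m + 1)))) ↔ Fills J K m := by
  haveI : HasFiniteLimits (FormalCoproduct.{u} (Over X)) := hasFiniteLimits_of_hasTerminal_and_pullbacks
  rw [← locLift_iff]
  let I := (SimplexCategory.Truncated.inclusion m).op
  let T := (SimplicialObject.truncation m).obj K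
  let ε := I.ranCounit.app T
  let η := (SimplicialObject.coskAdj m).unit.app K
  let G := (SimplicialObject.cosk m).obj K
  have hlim := Functor.isPointwiseRightKanExtensionRanCounit I T (op ⦋m + 1⦌)
  have htri : ∀ (a : SimplexCategory) (ha : a.len ≤ m),
      η.app (op a) ≫ ε.app (op (⟨a, ha⟩ : SimplexCategory.Truncated m)) = 𝟙 _ := fun a ha =>
    Functor.ranCounit_app_app_ranAdjunction_unit_app_app I K (op (⟨a, ha⟩ : SimplexCategory.Truncated m))
  let pr : ∀ (a : SimplexCategory), a.len ≤ m → (a ⟶ ⦋m + 1⦌) → (G.obj (op ⦋m + 1⦌) ⟶ K.obj (op a)) :=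
    fun a ha θ => G.map θ.op ≫ ε.app (op (⟨a, ha⟩ : SimplexCategory.Truncated m))
  have hpr : ∀ (a : SimplexCategory) (ha : a.len ≤ m) (θ : a ⟶ ⦋m + 1⦌),
      η.app (op ⦋m + 1⦌) ≫ pr a ha θ = K.map θ.op := fun a ha θ => by
    show η.app _ ≫ G.map θ.op ≫ _ = _
    rw [← Category.assoc]
    erw [← η.naturality θ.op]
    rw [Category.assoc]
    erw [htri a ha, Category.comp_id]
    rfl
  have hext : ∀ {W : Over X} (c c' : Pt W (G.obj (op ⦋m + 1⦌))),
      (∀ a ha θ, c ≫ pr a ha θ = c' ≫ pr a ha θ) → c = c' := fun c c' h =>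
    hlim.hom_ext fun j => h j.right.unop.obj j.right.unop.property j.hom.unop
  refine ⟨fun hL U v hv => ?_, fun hF U b => ?_⟩
  · let cone : Cone (StructuredArrow.proj (op ⦋m + 1⦌) I ⋙ T) :=
      { pt := (FormalCoproduct.incl (Over X)).obj U
        π :=
          { app := fun j => v j.right.unop.obj j.right.unop.property j.hom.unop
            naturality := fun j j' φ => by
              refine (Category.id_comp _).trans ?_
              refine Eq.trans ?_ (hv j.right.unop.obj j'.right.unop.obj j.right.unop.property j'.right.unop.property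
                φ.right.unop.hom j.hom.unop).symm
              refine congrArg (v _ _) ?_
              rw [← StructuredArrow.w φ]
              rfl } }
    let c := hlim.lift cone
    have hc : ∀ (a : SimplexCategory) (ha : a.len ≤ m) (θ : a ⟶ ⦋m + 1⦌), c ≫ pr a ha θ = v a ha θ := fun a ha θ =>
      hlim.fac cone (StructuredArrow.mk (Y := op (⟨a, ha⟩ : SimplexCategory.Truncated m))
        (show op ⦋m + 1⦌ ⟶ I.obj (op (⟨a, ha⟩ : SimplexCategory.Truncated m)) from θ.op))
    obtain ⟨R, hR, h⟩ := hL U c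
    refine ⟨R, hR, fun V g hg => ?_⟩
    obtain ⟨e, he⟩ := h V g hg
    refine ⟨e, fun a ha θ => ?_⟩
    rw [← hpr a ha θ, ← Category.assoc]
    erw [he]
    rw [Category.assoc]
    erw [hc a ha θ]
  · obtain ⟨R, hR, h⟩ := hF U (fun a ha θ => b ≫ pr a ha θ) fun a b' ha hb β θ => by
      rw [Category.assoc]
      refine congrArg (b ≫ ·) ?_
      show (G.map θ.op ≫ _) ≫ K.map β.op = G.map (β ≫ θ).op ≫ _
      rw [op_comp, G.map_comp, Category.assoc, Category.assoc]
      refine congrArg (G.map θ.op ≫ ·) ?_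
      exact ((ε.naturality (show op (⟨a, ha⟩ : SimplexCategory.Truncated m) ⟶ op ⟨b', hb⟩ from
        (ObjectProperty.homMk β).op))).symm
    refine ⟨R, hR, fun V g hg => ?_⟩
    obtain ⟨e, he⟩ := h V g hg
    refine ⟨e, hext _ _ fun a ha θ => ?_⟩
    rw [Category.assoc, Category.assoc]
    erw [hpr a ha θ]
    exact he a ha θ

/-- A hypercovering is a covering family in degree zero which fills spheres locally. -/
theorem isHypercovering_iff :
    Hyper.IsHypercovering J X K ↔
      Sieve.ofArrows (fun i => ((K.obj (op (SimplexCategory.mk 0))).obj i).left)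
        (fun i => ((K.obj (op (SimplexCategory.mk 0))).obj i).hom) ∈ J X ∧ ∀ m, Fills J K m :=
  and_congr_right fun _ => forall_congr' fun m => fills_iff J K m

end HypercovLib
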