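import Groth.Agent.HypercovLib.Criterion
import Mathlib

/-! # Refining one term of a hypercovering -/

set_option autoImplicit false
universe u

open CategoryTheory CategoryTheory.Limits Opposite Simplicial

noncomputable section

namespace HypercovLib

/-- A finite family of covering sieves has a covering intersection. -/
theorem exists_inter_covering' {D : Type u} [Category.{u} D] (J : GrothendieckTopology D) {U : D} {ι : Type*}
    (s : Finset ι) (T : ι → Sieve U) (hT : ∀ i ∈ s, T i ∈ J U) : ∃ R ∈ J U, ∀ i ∈ s, R ≤ T i := by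
  classical
  induction s using Finset.induction with
  | empty => exact ⟨⊤, J.top_mem U, by simp⟩
  | insert a s _ ih =>
    obtain ⟨R, hR, h⟩ := ih fun i hi => hT i (Finset.mem_insert_of_mem hi)
    refine ⟨T a ⊓ R, J.intersection_covering (hT a (Finset.mem_insert_self a s)) hR, fun i hi => ?_⟩
    rcases Finset.mem_insert.1 hi with rfl | hi
    · exact inf_le_left
    · exact inf_le_right.trans (h i hi)

instance finite_simplexHom (a b : SimplexCategory) : Finite (a ⟶ b) :=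
  Finite.of_injective (fun θ => ⇑θ.toOrderHom) fun θ θ' h => SimplexCategory.Hom.ext θ θ' (OrderHom.ext _ _ h)

variable {C : Type u} [SmallCategory C] [HasPullbacks C] {X : C}

instance : HasFiniteLimits (FormalCoproduct.{u} (Over X)) := hasFiniteLimits_of_hasTerminal_and_pullbacks

variable (n : ℕ)

/-- The simplicial object of `n`-simplices valued in `Y`. -/
def RObj (Y : FormalCoproduct.{u} (Over X)) : SimplicialObject (FormalCoproduct.{u} (Over X)) where
  obj p := ∏ᶜ fun _ : (⦋n⦌ ⟶ p.unop) => Y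
  map {p q} τ := Pi.lift fun θ => Pi.π (fun _ : (⦋n⦌ ⟶ p.unop) => Y) (θ ≫ τ.unop)
  map_id p := Pi.hom_ext _ _ fun θ => by
    rw [Pi.lift_π, Category.id_comp]
    exact congrArg (Pi.π _) (Category.comp_id θ)
  map_comp {p q r} τ τ' := Pi.hom_ext _ _ fun θ => by
    rw [Pi.lift_π, Category.assoc, Pi.lift_π, Pi.lift_π]
    exact congrArg (Pi.π _) (Category.assoc θ τ'.unop τ.unop).symm

variable (K : SimplicialObject (FormalCoproduct.{u} (Over X)))

/-- Recording the `n`-simplices. -/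
def toR : K ⟶ RObj n (K.obj (op ⦋n⦌)) where
  app p := Pi.lift fun θ => K.map θ.op
  naturality p q τ := Pi.hom_ext _ _ fun θ => by
    show (K.map τ ≫ Pi.lift _) ≫ Pi.π _ θ = (Pi.lift _ ≫ Pi.lift _) ≫ Pi.π _ θ
    rw [Category.assoc, Pi.lift_π, Category.assoc, Pi.lift_π, Pi.lift_π, ← K.map_comp]
    rfl

variable {n}

/-- Functoriality. -/
def RMap {Y Y' : FormalCoproduct.{u} (Over X)} (u : Y ⟶ Y') : RObj n Y ⟶ RObj n Y' where
  app p := Limits.Pi.map fun _ => u
  naturality p q τ := Pi.hom_ext _ _ fun θ => by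
    show (Pi.lift _ ≫ Limits.Pi.map _) ≫ Pi.π _ θ = (Limits.Pi.map _ ≫ Pi.lift _) ≫ Pi.π _ θ
    rw [Category.assoc, Pi.map_π, Category.assoc, Pi.lift_π, Pi.map_π, ← Category.assoc, Pi.lift_π]

/-- The projections. -/
def rπ (Y : FormalCoproduct.{u} (Over X)) {p : SimplexCategory} (θ : ⦋n⦌ ⟶ p) : (RObj n Y).obj (op p) ⟶ Y :=
  Pi.π (fun _ : (⦋n⦌ ⟶ p) => Y) θ

theorem rhom_ext {Y : FormalCoproduct.{u} (Over X)} {p : SimplexCategory} {T : FormalCoproduct.{u} (Over X)}
    {x y : T ⟶ (RObj n Y).obj (op p)} (h : ∀ θ, x ≫ rπ Y θ = y ≫ rπ Y θ) : x = y :=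
  Pi.hom_ext _ _ h

/-- Maps into the object. -/
def rlift {Y : FormalCoproduct.{u} (Over X)} {p : SimplexCategory} {T : FormalCoproduct.{u} (Over X)}
    (z : (⦋n⦌ ⟶ p) → (T ⟶ Y)) : T ⟶ (RObj n Y).obj (op p) :=
  Pi.lift z

theorem rlift_π {Y : FormalCoproduct.{u} (Over X)} {p : SimplexCategory} {T : FormalCoproduct.{u} (Over X)}
    (z : (⦋n⦌ ⟶ p) → (T ⟶ Y)) (θ : ⦋n⦌ ⟶ p) : rlift z ≫ rπ Y θ = z θ :=
  Pi.lift_π _ _

theorem RObj_map_π (Y : FormalCoproduct.{u} (Over X)) {p q : SimplexCategory} (τ : q ⟶ p) (θ : ⦋n⦌ ⟶ q) :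
    (RObj n Y).map τ.op ≫ rπ Y θ = rπ Y (θ ≫ τ) :=
  Pi.lift_π _ _

theorem toR_π {p : SimplexCategory} (θ : ⦋n⦌ ⟶ p) : (toR n K).app (op p) ≫ rπ _ θ = K.map θ.op :=
  Pi.lift_π _ _

theorem RMap_π {Y Y' : FormalCoproduct.{u} (Over X)} (v : Y ⟶ Y') {p : SimplexCategory} (θ : ⦋n⦌ ⟶ p) :
    (RMap v).app (op p) ≫ rπ Y' θ = rπ Y θ ≫ v :=
  Pi.map_π (fun _ => v) θ

variable {Z : FormalCoproduct.{u} (Over X)} (u : Z ⟶ K.obj (op ⦋n⦌))

/-- The refinement of a hypercovering along a map onto its degree `n` term. -/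
def refineObj : SimplicialObject (FormalCoproduct.{u} (Over X)) :=
  pullback (toR n K) (RMap (n := n) u)

/-- The refinement maps to the hypercovering. -/
def refineFst : refineObj K u ⟶ K :=
  pullback.fst _ _

/-- The second projection of the refinement. -/
def refineSnd : refineObj K u ⟶ RObj n Z :=
  pullback.snd _ _

theorem refine_isPullback (p : SimplexCategory) :
    IsPullback ((refineFst K u).app (op p)) ((refineSnd K u).app (op p))
      ((toR n K).app (op p)) ((RMap (n := n) u).app (op p)) :=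
  (IsPullback.of_hasPullback (toR n K) (RMap (n := n) u)).map ((evaluation _ _).obj (op p))

/-- The values at the `n`-simplices. -/
def refineVal {p : SimplexCategory} (θ : ⦋n⦌ ⟶ p) : (refineObj K u).obj (op p) ⟶ Z :=
  (refineSnd K u).app (op p) ≫ rπ Z θ

theorem map_refineVal {p q : SimplexCategory} (τ : q ⟶ p) (θ : ⦋n⦌ ⟶ q) :
    (refineObj K u).map τ.op ≫ refineVal K u θ = refineVal K u (θ ≫ τ) := by
  rw [refineVal, ← Category.assoc, (refineSnd K u).naturality, Category.assoc, RObj_map_π]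
  rfl

theorem refineVal_comp {p : SimplexCategory} (θ : ⦋n⦌ ⟶ p) :
    refineVal K u θ ≫ u = (refineFst K u).app (op p) ≫ K.map θ.op := by
  rw [refineVal, Category.assoc, ← RMap_π, ← Category.assoc, ← (refine_isPullback K u p).w, Category.assoc, toR_π]

theorem refine_ext {p : SimplexCategory} {T : FormalCoproduct.{u} (Over X)}
    {x y : T ⟶ (refineObj K u).obj (op p)} (h₁ : x ≫ (refineFst K u).app (op p) = y ≫ (refineFst K u).app (op p))
    (h₂ : ∀ θ : ⦋n⦌ ⟶ p, x ≫ refineVal K u θ = y ≫ refineVal K u θ) : x = y :=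
  (refine_isPullback K u p).hom_ext h₁ (rhom_ext fun θ => by
    rw [Category.assoc, Category.assoc]
    exact h₂ θ)

theorem exists_refine_point {p : SimplexCategory} {T : FormalCoproduct.{u} (Over X)} (k : T ⟶ K.obj (op p))
    (z : (⦋n⦌ ⟶ p) → (T ⟶ Z)) (hz : ∀ θ, z θ ≫ u = k ≫ K.map θ.op) :
    ∃ x : T ⟶ (refineObj K u).obj (op p), x ≫ (refineFst K u).app (op p) = k ∧ ∀ θ, x ≫ refineVal K u θ = z θ := by
  have w : k ≫ (toR n K).app (op p) = rlift z ≫ (RMap (n := n) u).app (op p) := rhom_ext fun θ => by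
    rw [Category.assoc, toR_π, Category.assoc, RMap_π, ← Category.assoc, rlift_π, hz]
  refine ⟨(refine_isPullback K u p).lift k (rlift z) w, IsPullback.lift_fst _ _ _ _, fun θ => ?_⟩
  rw [refineVal, ← Category.assoc, IsPullback.lift_snd, rlift_π]

variable (J : GrothendieckTopology C)

theorem refine_fills (hu : LocLift (J.over X) u) (m : ℕ) (hK : Fills J K m) : Fills J (refineObj K u) m := by
  classical
  intro U v hv
  let F := refineFst K u
  obtain ⟨R, hR, h1⟩ := hK U (fun a ha θ => v a ha θ ≫ F.app (op a)) fun a b ha hb β θ => by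
    rw [Category.assoc, ← F.naturality, ← Category.assoc, hv a b ha hb β θ]
  choose e he using h1
  -- the values forced by the sphere
  let c : Fin (m + 2) → (⦋n⦌ ⟶ ⦋m⦌) → Pt U Z := fun i ψ => v ⦋m⦌ le_rfl (SimplexCategory.δ i) ≫ refineVal K u ψ
  have hindep : ∀ (i k : Fin (m + 2)) (p q : ⦋n⦌ ⟶ ⦋m⦌), i < k →
      p ≫ SimplexCategory.δ i = q ≫ SimplexCategory.δ k → c i p = c k q := by
    intro i k p q hik hpq
    cases m with
    | zero =>
      have h : (Fin.succAbove i) (p.toOrderHom 0) = (Fin.succAbove k) (q.toOrderHom 0) :=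
        congrArg (fun t : ⦋n⦌ ⟶ ⦋0 + 1⦌ => t.toOrderHom 0) hpq
      refine absurd ?_ hik.ne
      refine Fin.succAbove_left_injective (funext fun x => ?_)
      rwa [show p.toOrderHom 0 = x from Subsingleton.elim (α := Fin 1) _ _,
        show q.toOrderHom 0 = x from Subsingleton.elim (α := Fin 1) _ _] at h
    | succ M =>
      obtain ⟨k₀, rfl⟩ := Fin.exists_succ_eq.2 (show k ≠ 0 from fun h => by
        rw [h] at hik; exact (Nat.not_lt_zero _ hik))
      obtain ⟨i₀, rfl⟩ := Fin.exists_castSucc_eq.2 (show i ≠ Fin.last (M + 2) from fun h => by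
        rw [h] at hik; exact not_le_of_gt hik (Fin.le_last _))
      have hle : i₀ ≤ k₀ := Fin.castSucc_lt_succ_iff.1 hik
      have hmiss : ∀ l, q.toOrderHom l ≠ i₀ := fun l hl => by
        have h1 : (q ≫ SimplexCategory.δ k₀.succ).toOrderHom l = i₀.castSucc := by
          show (Fin.succAbove k₀.succ) (q.toOrderHom l) = _
          rw [hl]
          exact Fin.succAbove_of_castSucc_lt _ _ hik
        rw [← hpq] at h1
        exact Fin.succAbove_ne i₀.castSucc (p.toOrderHom l) h1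
      have hq := SimplexCategory.factor_δ_spec q i₀ hmiss
      have hp : p = SimplexCategory.factor_δ q i₀ ≫ SimplexCategory.δ k₀ := by
        rw [← cancel_mono (SimplexCategory.δ i₀.castSucc), hpq, Category.assoc, ← SimplexCategory.δ_comp_δ hle,
          ← Category.assoc, hq]
      show v _ _ _ ≫ refineVal K u p = v _ _ _ ≫ refineVal K u q
      rw [← hq, hp, ← map_refineVal, ← map_refineVal, ← Category.assoc, ← Category.assoc,
        hv _ ⦋M⦌ _ (Nat.le_succ M), hv _ ⦋M⦌ _ (Nat.le_succ M)]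
      exact congrArg (fun t => v ⦋M⦌ (Nat.le_succ M) t ≫ _) (SimplexCategory.δ_comp_δ hle).symm
  have hindep' : ∀ (i k : Fin (m + 2)) (p q : ⦋n⦌ ⟶ ⦋m⦌),
      p ≫ SimplexCategory.δ i = q ≫ SimplexCategory.δ k → c i p = c k q := fun i k p q hpq => by
    rcases lt_trichotomy i k with h | h | h
    · exact hindep i k p q h hpq
    · subst h
      rw [(cancel_mono _).1 hpq]
    · exact (hindep k i q p h hpq.symm).symm
  have hsurj : ∀ (V : Over X) (g : V ⟶ U) (hg : R g), ∃ S ∈ (J.over X) V, ∀ (W : Over X) (r : W ⟶ V), S r →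
      ∀ θ : ⦋n⦌ ⟶ ⦋m + 1⦌, ∃ z : Pt W Z, z ≫ u = Pt.res r (e V g hg) ≫ K.map θ.op := fun V g hg => by
    haveI := Fintype.ofFinite (⦋n⦌ ⟶ ⦋m + 1⦌)
    choose T hT hlift using fun θ : ⦋n⦌ ⟶ ⦋m + 1⦌ => hu V (e V g hg ≫ K.map θ.op)
    obtain ⟨S, hS, hle⟩ := exists_inter_covering' (J.over X) Finset.univ T fun θ _ => hT θ
    refine ⟨S, hS, fun W r hr θ => ?_⟩
    obtain ⟨z, hz⟩ := hlift θ W r (hle θ (Finset.mem_univ θ) r hr)
    exact ⟨z, hz.trans (Category.assoc _ _ _).symm⟩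
  choose S hS hsurj using hsurj
  refine ⟨Sieve.bind R.arrows S, (J.over X).bind_covering hR hS, fun W w hw => ?_⟩
  obtain ⟨V, r, g, hg, hr, rfl⟩ := hw
  choose y hy using hsurj V g hg W r hr
  let z : (⦋n⦌ ⟶ ⦋m + 1⦌) → Pt W Z := fun θ =>
    if h : ∃ i : Fin (m + 2), ∃ ψ : ⦋n⦌ ⟶ ⦋m⦌, ψ ≫ SimplexCategory.δ i = θ then
      Pt.res (r ≫ g) (c h.choose h.choose_spec.choose) else y θ
  have hz : ∀ θ, z θ ≫ u = Pt.res r (e V g hg) ≫ K.map θ.op := fun θ => by
    by_cases h : ∃ i : Fin (m + 2), ∃ ψ : ⦋n⦌ ⟶ ⦋m⦌, ψ ≫ SimplexCategory.δ i = θ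
    · simp only [z, dif_pos h]
      obtain ⟨i, ψ, rfl⟩ := h
      rw [hindep' _ i _ ψ (Exists.choose_spec (Exists.choose_spec (⟨i, ψ, rfl⟩ :
        ∃ (i' : Fin (m + 2)) (ψ' : ⦋n⦌ ⟶ ⦋m⦌), ψ' ≫ SimplexCategory.δ i' = ψ ≫ SimplexCategory.δ i)))]
      simp only [c, Pt.res, Category.assoc, refineVal_comp, op_comp, K.map_comp]
      rw [reassoc_of% (he V g hg ⦋m⦌ le_rfl (SimplexCategory.δ i))]
      simp [F, Pt.res]
    · simp only [z, dif_neg h]
      exact hy θ
  obtain ⟨x, hx1, hx2⟩ := exists_refine_point K u (Pt.res r (e V g hg)) z hz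
  refine ⟨x, fun a ha φ => refine_ext K u ?_ fun β => ?_⟩
  · rw [Category.assoc, (refineFst K u).naturality, ← Category.assoc, hx1]
    simp only [Pt.res, Category.assoc, he V g hg a ha φ, Functor.map_comp]
    rfl
  · obtain ⟨k, hk⟩ : ∃ k : Fin (m + 2), ∀ l, φ.toOrderHom l ≠ k := by
      by_contra hcon
      push Not at hcon
      have := Fintype.card_le_of_surjective φ.toOrderHom hcon
      simp at this
      omega
    have hφ := SimplexCategory.factor_δ_spec (m := a.len) φ k hk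
    have hex : ∃ i : Fin (m + 2), ∃ ψ : ⦋n⦌ ⟶ ⦋m⦌, ψ ≫ SimplexCategory.δ i = β ≫ φ :=
      ⟨k, β ≫ SimplexCategory.factor_δ (m := a.len) φ k, (Category.assoc _ _ _).trans (congrArg (β ≫ ·) hφ)⟩
    rw [Category.assoc, map_refineVal, hx2]
    show z (β ≫ φ) = Pt.res (r ≫ g) (v a ha φ) ≫ refineVal K u β
    simp only [z, dif_pos hex]
    rw [hindep' _ k _ (β ≫ SimplexCategory.factor_δ (m := a.len) φ k)
      (hex.choose_spec.choose_spec.trans ((congrArg (β ≫ ·) hφ).symm.trans (Category.assoc _ _ _).symm))]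
    show Pt.res (r ≫ g) (v _ _ _ ≫ refineVal K u _) = _
    erw [← map_refineVal K u (SimplexCategory.factor_δ (m := a.len) φ k) β,
      ← Category.assoc (v _ _ _), hv _ a _ ha]
    rw [Pt.res, Pt.res, Category.assoc]
    exact congrArg (fun t => _ ≫ v a ha t ≫ _) hφ

variable [∀ (n : ℕ) (F : (SimplexCategory.Truncated n)ᵒᵖ ⥤ Limits.FormalCoproduct.{u} (Over X)),
  (SimplexCategory.Truncated.inclusion n).op.HasRightKanExtension F]

/-- **Refining a hypercovering along a covering of one of its terms gives a hypercovering.** -/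
theorem refine_isHypercovering (hK : Hyper.IsHypercovering J X K) (hu : Hyper.IsSRCovering (J.over X) u) :
    Hyper.IsHypercovering J X (refineObj K u) := by
  have hu' := (locLift_iff _ _).2 hu
  obtain ⟨hK0, hKf⟩ := (isHypercovering_iff J K).1 hK
  refine (isHypercovering_iff J _).2 ⟨?_, fun m => refine_fills K u J hu' m (hKf m)⟩
  refine J.transitive hK0 _ fun Y f hf => ?_
  obtain ⟨_, γ, _, ⟨i⟩, rfl⟩ := hf
  let U : Over X := (K.obj (op (SimplexCategory.mk 0))).obj i
  let k : Pt U (K.obj (op (SimplexCategory.mk 0))) := { f := fun _ => i, φ := fun _ => 𝟙 _ }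
  let θ₀ : ⦋n⦌ ⟶ ⦋0⦌ := SimplexCategory.const ⦋n⦌ ⦋0⦌ 0
  have hθ : ∀ θ : ⦋n⦌ ⟶ ⦋0⦌, θ = θ₀ := fun θ =>
    SimplexCategory.Hom.ext _ _ (OrderHom.ext _ _ (funext fun x => Subsingleton.elim (α := Fin 1) _ _))
  obtain ⟨S, hS, hlift⟩ := hu' U (k ≫ K.map θ₀.op)
  rw [GrothendieckTopology.mem_over_iff] at hS
  rw [Sieve.pullback_comp]
  refine J.pullback_stable γ (J.superset_covering ?_ hS)
  intro W h hh
  rw [Sieve.overEquiv_iff] at hh
  obtain ⟨z, hz⟩ := hlift _ _ hh
  obtain ⟨x, -, -⟩ := exists_refine_point K u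
    (Pt.res (Over.homMk h : Over.mk (h ≫ U.hom) ⟶ U) k) (fun _ => z) fun θ => by
      rw [hθ θ, hz, Category.assoc]
  show Sieve.ofArrows _ _ (h ≫ ((K.obj (op (SimplexCategory.mk 0))).obj i).hom)
  rw [show h ≫ U.hom = (x.φ PUnit.unit).left ≫ (((refineObj K u).obj (op (SimplexCategory.mk 0))).obj (x.f PUnit.unit)).hom from
    (Over.w (x.φ PUnit.unit)).symm]
  exact Sieve.downward_closed _ (Sieve.ofArrows_mk _ _ _) _

/-- The chosen component of the refinement. -/
theorem refineVal_id_comp : refineVal K u (𝟙 ⦋n⦌) ≫ u = (refineFst K u).app (op ⦋n⦌) := by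
  rw [refineVal_comp, op_id, K.map_id, Category.comp_id]

end HypercovLib
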