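import Groth.Agent.HypercovLib.Shift
import Groth.Agent.HypercovLib.Criterion
import Groth.Agent.S3882
import Mathlib

/-! # Čech cohomology classes dying on refinements of hypercoverings -/

set_option autoImplicit false
universe u

open CategoryTheory CategoryTheory.Limits Opposite Simplicial

noncomputable section

namespace HypercovLib

variable {C : Type u} [SmallCategory C] {X : C}

/-- The Čech complex as a functor of the coefficients. -/
abbrev cechF (K : SimplicialObject (FormalCoproduct.{u} (Over X))) :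
    (Cᵒᵖ ⥤ AddCommGrpCat.{u}) ⥤ CochainComplex AddCommGrpCat.{u} ℕ :=
  (Functor.whiskeringLeft (Over X)ᵒᵖ Cᵒᵖ AddCommGrpCat.{u}).obj (Over.forget X).op ⋙
    FormalCoproduct.cochainComplexFunctor K

variable {K L M : SimplicialObject (FormalCoproduct.{u} (Over X))}

theorem comp_cechMap (f : L ⟶ K) (P : Cᵒᵖ ⥤ AddCommGrpCat.{u}) {n : ℕ} (x : (Hyper.cechCx X K P).X n)
    (j : (L.obj (op ⦋n⦌)).I) :
    comp L ((Over.forget X).op ⋙ P) ((Hyper.cechMap X f P).f n x) j =
      P.map ((f.app (op ⦋n⦌)).φ j).left.op (comp K ((Over.forget X).op ⋙ P) x ((f.app (op ⦋n⦌)).f j)) := by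
  show (Pi.lift (fun j : (L.obj (op ⦋n⦌)).I => Pi.π (fun i : (K.obj (op ⦋n⦌)).I => P.obj (op ((K.obj (op ⦋n⦌)).obj i).left))
      ((f.app (op ⦋n⦌)).f j) ≫ P.map ((f.app (op ⦋n⦌)).φ j).left.op) ≫ Pi.π _ j) x = _
  rw [Pi.lift_π]
  rfl

theorem cechMap_comp (g : M ⟶ L) (f : L ⟶ K) (P : Cᵒᵖ ⥤ AddCommGrpCat.{u}) :
    Hyper.cechMap X (g ≫ f) P = Hyper.cechMap X f P ≫ Hyper.cechMap X g P := by
  ext n x
  refine ext_comp M fun j => ?_
  refine (comp_cechMap (g ≫ f) P x j).trans ?_
  show P.map (((g.app (op ⦋n⦌)).φ j ≫ (f.app (op ⦋n⦌)).φ _).left.op) _ =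
    comp M ((Over.forget X).op ⋙ P) ((Hyper.cechMap X g P).f n ((Hyper.cechMap X f P).f n x)) j
  rw [comp_cechMap, comp_cechMap, Over.comp_left, op_comp, P.map_comp]
  rfl

theorem cechHMap_comp (g : M ⟶ L) (f : L ⟶ K) (P : Cᵒᵖ ⥤ AddCommGrpCat.{u}) {q : ℕ} (ξ : Hyper.cechH X K P q) :
    Hyper.cechHMap X (g ≫ f) P q ξ = Hyper.cechHMap X g P q (Hyper.cechHMap X f P q ξ) := by
  show HomologicalComplex.homologyMap (Hyper.cechMap X (g ≫ f) P) q ξ = _
  rw [cechMap_comp, HomologicalComplex.homologyMap_comp]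
  rfl

theorem cechMap_natural (f : L ⟶ K) {P Q : Cᵒᵖ ⥤ AddCommGrpCat.{u}} (φ : P ⟶ Q) :
    (cechF K).map φ ≫ Hyper.cechMap X f Q = Hyper.cechMap X f P ≫ (cechF L).map φ := by
  ext n x
  refine ext_comp L fun j => ?_
  show comp L ((Over.forget X).op ⋙ Q) ((Hyper.cechMap X f Q).f n ((cxMap K ((Over.forget X).op.whiskerLeft φ)).f n x)) j =
    comp L ((Over.forget X).op ⋙ Q) ((cxMap L ((Over.forget X).op.whiskerLeft φ)).f n ((Hyper.cechMap X f P).f n x)) j
  rw [comp_cechMap, comp_cxMap, comp_cxMap, comp_cechMap]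
  exact (NatTrans.naturality_apply φ _ _).symm

variable (K) in
/-- The map on Čech cohomology induced by a map of coefficients. -/
abbrev hMap {P Q : Cᵒᵖ ⥤ AddCommGrpCat.{u}} (φ : P ⟶ Q) (q : ℕ) : Hyper.cechH X K P q ⟶ Hyper.cechH X K Q q :=
  HomologicalComplex.homologyMap ((cechF K).map φ) q

theorem cechHMap_hMap (f : L ⟶ K) {P Q : Cᵒᵖ ⥤ AddCommGrpCat.{u}} (φ : P ⟶ Q) {q : ℕ} (ξ : Hyper.cechH X K P q) :
    Hyper.cechHMap X f Q q (hMap K φ q ξ) = hMap L φ q (Hyper.cechHMap X f P q ξ) := by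
  show (HomologicalComplex.homologyMap ((cechF K).map φ) q ≫ HomologicalComplex.homologyMap (Hyper.cechMap X f Q) q) ξ = _
  rw [← HomologicalComplex.homologyMap_comp, cechMap_natural, HomologicalComplex.homologyMap_comp]
  rfl

instance cechF_preservesZero (K : SimplicialObject (FormalCoproduct.{u} (Over X))) : (cechF K).PreservesZeroMorphisms where
  map_zero P Q := by
    ext n x
    refine ext_comp K fun i => ?_
    show comp K ((Over.forget X).op ⋙ Q) ((cxMap K ((Over.forget X).op.whiskerLeft (0 : P ⟶ Q))).f n x) i = _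
    rw [comp_cxMap]
    exact (map_zero _).symm

variable {S : ShortComplex (Cᵒᵖ ⥤ AddCommGrpCat.{u})} (hS : S.ShortExact)

variable (K) in
include hS in
theorem shortExact_cechF : (S.map (cechF K)).ShortExact := by
  have hev : ∀ U : Cᵒᵖ, (S.map ((evaluation Cᵒᵖ AddCommGrpCat.{u}).obj U)).ShortExact := fun U =>
    hS.map_of_exact _
  have hf : ∀ U, Function.Injective (((Over.forget X).op.whiskerLeft S.f).app U) := fun U =>
    (AddCommGrpCat.mono_iff_injective _).1 (hev _).mono_f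
  have hg : ∀ U, Function.Surjective (((Over.forget X).op.whiskerLeft S.g).app U) := fun U =>
    (AddCommGrpCat.epi_iff_surjective _).1 (hev _).epi_g
  have hk : ∀ U a, ((Over.forget X).op.whiskerLeft S.g).app U a = 0 →
      ∃ b, ((Over.forget X).op.whiskerLeft S.f).app U b = a := fun U =>
    (ShortComplex.ab_exact_iff _).1 (hev _).exact
  refine HomologicalComplex.shortExact_of_degreewise_shortExact _ fun n => ?_
  exact { exact := (ShortComplex.ab_exact_iff _).2 fun y hy => cxMap_exact K _ _ hk y hy,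
          mono_f := (AddCommGrpCat.mono_iff_injective _).2 (cxMap_injective K _ hf n),
          epi_g := (AddCommGrpCat.epi_iff_surjective _).2 (cxMap_surjective K _ hg n) }

theorem δ_cechHMap (f : L ⟶ K) (q : ℕ) (ξ : Hyper.cechH X K S.X₃ q) :
    Hyper.cechHMap X f S.X₁ (q + 1) ((shortExact_cechF K hS).δ q (q + 1) rfl ξ) =
      (shortExact_cechF L hS).δ q (q + 1) rfl (Hyper.cechHMap X f S.X₃ q ξ) := by
  let φ : S.map (cechF K) ⟶ S.map (cechF L) :=
    ⟨Hyper.cechMap X f S.X₁, Hyper.cechMap X f S.X₂, Hyper.cechMap X f S.X₃,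
      (cechMap_natural f S.f).symm, (cechMap_natural f S.g).symm⟩
  exact ConcreteCategory.congr_hom
    (HomologicalComplex.HomologySequence.δ_naturality φ (shortExact_cechF K hS) (shortExact_cechF L hS) q (q + 1) rfl) ξ

variable [HasPullbacks C]
  [∀ (n : ℕ) (F : (SimplexCategory.Truncated n)ᵒᵖ ⥤ Limits.FormalCoproduct.{u} (Over X)),
    (SimplexCategory.Truncated.inclusion n).op.HasRightKanExtension F]
  (J : GrothendieckTopology C)

variable (X) in
/-- All classes of degree `q` die after refining the hypercovering. -/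
def Dies (P : Cᵒᵖ ⥤ AddCommGrpCat.{u}) (q : ℕ) : Prop :=
  ∀ (K : SimplicialObject (FormalCoproduct.{u} (Over X))), Hyper.IsHypercovering J X K →
    ∀ ξ : Hyper.cechH X K P q, ∃ (L : SimplicialObject (FormalCoproduct.{u} (Over X))) (f : L ⟶ K),
      Hyper.IsHypercovering J X L ∧ Hyper.cechHMap X f P q ξ = 0

include hS

/-- The middle term. -/
theorem dies_mid {q : ℕ} (h₁ : Dies X J S.X₁ q) (h₃ : Dies X J S.X₃ q) : Dies X J S.X₂ q := by
  intro K hK ξ
  obtain ⟨L, f, hL, e⟩ := h₃ K hK (hMap K S.g q ξ)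
  rw [cechHMap_hMap] at e
  obtain ⟨η, hη⟩ := (ShortComplex.ab_exact_iff _).1 ((shortExact_cechF L hS).homology_exact₂ q) _ e
  change Hyper.cechH X L S.X₁ q at η
  change hMap L S.f q η = _ at hη
  obtain ⟨M, g, hM, e'⟩ := h₁ L hL η
  refine ⟨M, g ≫ f, hM, ?_⟩
  rw [cechHMap_comp, ← hη, cechHMap_hMap, e']
  exact map_zero _

/-- The subobject in positive degree. -/
theorem dies_sub {q : ℕ} (h₂ : Dies X J S.X₂ (q + 1)) (h₃ : Dies X J S.X₃ q) : Dies X J S.X₁ (q + 1) := by
  intro K hK ξ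
  obtain ⟨L, f, hL, e⟩ := h₂ K hK (hMap K S.f (q + 1) ξ)
  rw [cechHMap_hMap] at e
  obtain ⟨η, hη⟩ := (ShortComplex.ab_exact_iff _).1 ((shortExact_cechF L hS).homology_exact₁ q (q + 1) rfl) _ e
  change Hyper.cechH X L S.X₃ q at η
  obtain ⟨M, g, hM, e'⟩ := h₃ L hL η
  refine ⟨M, g ≫ f, hM, ?_⟩
  rw [cechHMap_comp, ← hη]
  refine (δ_cechHMap hS g q η).trans ?_
  rw [e']
  exact map_zero _

/-- The subobject in degree zero. -/
theorem dies_sub_zero (h₂ : Dies X J S.X₂ 0) : Dies X J S.X₁ 0 := by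
  intro K hK ξ
  obtain ⟨L, f, hL, e⟩ := h₂ K hK (hMap K S.f 0 ξ)
  rw [cechHMap_hMap] at e
  refine ⟨L, f, hL, ?_⟩
  haveI := (shortExact_cechF L hS).mono_f
  haveI : Mono ((cechF L).map S.f) := (shortExact_cechF L hS).mono_f
  haveI : IsIso ((Hyper.cechCx X L S.X₁).homologyπ 0) := CochainComplex.isIso_homologyπ₀ _
  haveI : IsIso ((Hyper.cechCx X L S.X₂).homologyπ 0) := CochainComplex.isIso_homologyπ₀ _
  obtain ⟨z, hz⟩ := (ConcreteCategory.bijective_of_isIso ((Hyper.cechCx X L S.X₁).homologyπ 0)).2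
    (Hyper.cechHMap X f S.X₁ 0 ξ)
  rw [← hz] at e ⊢
  change ((Hyper.cechCx X L S.X₁).homologyπ 0 ≫ hMap L S.f 0) z = 0 at e
  rw [HomologicalComplex.homologyπ_naturality, ConcreteCategory.comp_apply] at e
  have e1 : HomologicalComplex.cyclesMap ((cechF L).map S.f) 0 z = 0 :=
    (ConcreteCategory.bijective_of_isIso ((Hyper.cechCx X L S.X₂).homologyπ 0)).1 (e.trans (map_zero _).symm)
  have e2 : (HomologicalComplex.cyclesMap ((cechF L).map S.f) 0 ≫ ((cechF L).obj S.X₂).iCycles 0) z = 0 := by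
    rw [ConcreteCategory.comp_apply, e1]
    exact map_zero _
  rw [HomologicalComplex.cyclesMap_i, ConcreteCategory.comp_apply] at e2
  have e3 : ((cechF L).obj S.X₁).iCycles 0 z = 0 :=
    (AddCommGrpCat.mono_iff_injective (((cechF L).map S.f).f 0)).1 inferInstance (e2.trans (map_zero _).symm)
  have e4 : z = 0 :=
    (AddCommGrpCat.mono_iff_injective ((Hyper.cechCx X L S.X₁).iCycles 0)).1 inferInstance (e3.trans (map_zero _).symm)
  rw [e4]
  exact map_zero _

/-- The quotient. -/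
theorem dies_quot {q : ℕ} (h₁ : Dies X J S.X₁ (q + 1)) (h₂ : Dies X J S.X₂ q) : Dies X J S.X₃ q := by
  intro K hK ξ
  obtain ⟨L, f, hL, e⟩ := h₁ K hK ((shortExact_cechF K hS).δ q (q + 1) rfl ξ)
  rw [δ_cechHMap hS f q ξ] at e
  obtain ⟨η, hη⟩ := (ShortComplex.ab_exact_iff _).1 ((shortExact_cechF L hS).homology_exact₃ q (q + 1) rfl) _ e
  change Hyper.cechH X L S.X₂ q at η
  change hMap L S.g q η = _ at hη
  obtain ⟨M, g, hM, e'⟩ := h₂ L hL η
  refine ⟨M, g ≫ f, hM, ?_⟩
  rw [cechHMap_comp, ← hη, cechHMap_hMap, e']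
  exact map_zero _

omit hS in
/-- Presheaves whose associated sheaf vanishes die in every degree. -/
theorem dies_of_isZero {N : Cᵒᵖ ⥤ AddCommGrpCat.{u}} (hN : IsZero ((presheafToSheaf J AddCommGrpCat.{u}).obj N))
    (q : ℕ) : Dies X J N q :=
  fun K hK ξ => Groth.Agent.S3882.result J X K hK N hN q ξ

/-- A subpresheaf with locally zero quotient. -/
theorem dies_iff_sub (h : IsZero ((presheafToSheaf J AddCommGrpCat.{u}).obj S.X₃)) (q : ℕ) :
    Dies X J S.X₁ q ↔ Dies X J S.X₂ q := by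
  refine ⟨fun h₁ => dies_mid hS J h₁ (dies_of_isZero J h q), fun h₂ => ?_⟩
  cases q with
  | zero => exact dies_sub_zero hS J h₂
  | succ q => exact dies_sub hS J h₂ (dies_of_isZero J h q)

/-- A quotient presheaf with locally zero kernel. -/
theorem dies_iff_quot (h : IsZero ((presheafToSheaf J AddCommGrpCat.{u}).obj S.X₁)) (q : ℕ) :
    Dies X J S.X₂ q ↔ Dies X J S.X₃ q :=
  ⟨fun h₂ => dies_quot hS J (dies_of_isZero J h (q + 1)) h₂, fun h₃ => dies_mid hS J (dies_of_isZero J h q) h₃⟩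

omit hS

variable {P Q : Cᵒᵖ ⥤ AddCommGrpCat.{u}}

/-- A monomorphism which is locally surjective. -/
theorem dies_iff_of_mono (m : P ⟶ Q) [Mono m] [Epi ((presheafToSheaf J AddCommGrpCat.{u}).map m)] (q : ℕ) :
    Dies X J P q ↔ Dies X J Q q := by
  let T : ShortComplex (Cᵒᵖ ⥤ AddCommGrpCat.{u}) := ShortComplex.mk m (cokernel.π m) (cokernel.condition m)
  have hT : T.ShortExact := { exact := ShortComplex.exact_cokernel m }
  refine dies_iff_sub (S := T) hT J ?_ q
  let a := presheafToSheaf J AddCommGrpCat.{u}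
  have h := (hT.map_of_exact a).epi_g
  haveI : Epi (a.map (cokernel.π m)) := h
  refine IsZero.of_epi_eq_zero (a.map (cokernel.π m)) ?_
  rw [← cancel_epi (a.map m), ← a.map_comp, cokernel.condition, Functor.map_zero, comp_zero]

/-- An epimorphism which is locally injective. -/
theorem dies_iff_of_epi (p : P ⟶ Q) [Epi p] [Mono ((presheafToSheaf J AddCommGrpCat.{u}).map p)] (q : ℕ) :
    Dies X J P q ↔ Dies X J Q q := by
  let T : ShortComplex (Cᵒᵖ ⥤ AddCommGrpCat.{u}) := ShortComplex.mk (kernel.ι p) p (kernel.condition p)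
  have hT : T.ShortExact := { exact := ShortComplex.exact_kernel p }
  refine dies_iff_quot (S := T) hT J ?_ q
  let a := presheafToSheaf J AddCommGrpCat.{u}
  have h := (hT.map_of_exact a).mono_f
  haveI : Mono (a.map (kernel.ι p)) := h
  refine IsZero.of_mono_eq_zero (a.map (kernel.ι p)) ?_
  rw [← cancel_mono (a.map p), ← a.map_comp, kernel.condition, Functor.map_zero, zero_comp]

/-- A map which becomes an isomorphism after sheafification. -/
theorem dies_iff_of_isIso (η : P ⟶ Q) [IsIso ((presheafToSheaf J AddCommGrpCat.{u}).map η)] (q : ℕ) :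
    Dies X J P q ↔ Dies X J Q q := by
  let a := presheafToSheaf J AddCommGrpCat.{u}
  haveI : Mono (a.map (Abelian.coimage.π η) ≫ a.map (Abelian.factorThruCoimage η)) := by
    rw [← a.map_comp, Abelian.coimage.fac]
    infer_instance
  haveI : Mono (a.map (Abelian.coimage.π η)) := mono_of_mono _ (a.map (Abelian.factorThruCoimage η))
  haveI : Epi (a.map (Abelian.coimage.π η) ≫ a.map (Abelian.factorThruCoimage η)) := by
    rw [← a.map_comp, Abelian.coimage.fac]
    infer_instance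
  haveI : Epi (a.map (Abelian.factorThruCoimage η)) := epi_of_epi (a.map (Abelian.coimage.π η)) _
  exact (dies_iff_of_epi J (Abelian.coimage.π η) q).trans (dies_iff_of_mono J (Abelian.factorThruCoimage η) q)

end HypercovLib
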