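import Groth.Agent.HypercovLib.Acyclic
import Mathlib

/-! # Čech cohomology of injective sheaves with respect to hypercoverings -/

set_option autoImplicit false
universe u

open CategoryTheory CategoryTheory.Limits Opposite SimplexCategory Simplicial AlgebraicTopology

noncomputable section

namespace HypercovLib

variable {C : Type u} [SmallCategory C] (K : SimplicialObject (FormalCoproduct.{u} C))
  (F : Cᵒᵖ ⥤ AddCommGrpCat.{u})

/-- The component of a cochain. -/
abbrev comp {n : ℕ} (x : (Hyper.cechCxSite K F).X n) (i : (K.obj (op ⦋n⦌)).I) :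
    F.obj (op ((K.obj (op ⦋n⦌)).obj i)) :=
  Pi.π (fun i => F.obj (op ((K.obj (op ⦋n⦌)).obj i))) i x

theorem comp_d (n : ℕ) (x : (Hyper.cechCxSite K F).X n) (i : (K.obj (op ⦋n + 1⦌)).I) :
    comp K F ((Hyper.cechCxSite K F).d n (n + 1) x) i =
      ∑ k : Fin (n + 2), ((-1 : ℤ) ^ (k : ℕ)) • F.map ((K.δ k).φ i).op (comp K F x ((K.δ k).f i)) := by
  let E := (FormalCoproduct.evalOp.{u} C AddCommGrpCat.{u}).obj F
  have hd : (Hyper.cechCxSite K F).d n (n + 1) = ∑ k : Fin (n + 2), ((-1 : ℤ) ^ (k : ℕ)) • E.map (K.δ k).op := by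
    show (AlternatingCofaceMapComplex.obj _).d n (n + 1) = _
    simp only [AlternatingCofaceMapComplex.obj, CochainComplex.of_d, AlternatingCofaceMapComplex.objD]
    rfl
  rw [comp, hd]
  refine (congrArg (Pi.π (fun i => F.obj (op ((K.obj (op ⦋n + 1⦌)).obj i))) i)
    (sum_hom_apply (A := (Hyper.cechCxSite K F).X n) (B := (Hyper.cechCxSite K F).X (n + 1)) Finset.univ _ x)).trans ?_
  refine (map_sum (Pi.π (fun i => F.obj (op ((K.obj (op ⦋n + 1⦌)).obj i))) i).hom _ _).trans ?_
  refine Finset.sum_congr rfl fun k _ => ?_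
  show Pi.π (fun i => F.obj (op ((K.obj (op ⦋n + 1⦌)).obj i))) i (((-1 : ℤ) ^ (k : ℕ)) • E.map (K.δ k).op x) = _
  refine (map_zsmul (Pi.π (fun i => F.obj (op ((K.obj (op ⦋n + 1⦌)).obj i))) i).hom _ _).trans ?_
  refine congrArg _ ?_
  show (Pi.lift (fun j => Pi.π (fun j => F.obj (op ((K.obj (op ⦋n⦌)).obj j))) ((K.δ k).f j) ≫ F.map ((K.δ k).φ j).op) ≫ Pi.π _ i) x = _
  rw [Pi.lift_π]
  rfl

/-- A cochain as a natural transformation on simplices. -/
def toNat {n : ℕ} (x : (Hyper.cechCxSite K F).X n) : Y K n ⟶ F ⋙ CategoryTheory.forget AddCommGrpCat.{u} :=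
  Sigma.desc fun i => yonedaEquiv.symm
    (show (F ⋙ CategoryTheory.forget AddCommGrpCat.{u}).obj (op ((K.obj (op ⦋n⦌)).obj i)) from comp K F x i)

theorem toNat_el {n : ℕ} (x : (Hyper.cechCxSite K F).X n) {U : C} (i : (K.obj (op ⦋n⦌)).I)
    (g : U ⟶ (K.obj (op ⦋n⦌)).obj i) :
    (toNat K F x).app (op U) (el _ i g) = F.map g.op (comp K F x i) := by
  show (Sigma.ι (fun j => yoneda.obj ((K.obj (op ⦋n⦌)).obj j)) i ≫ Sigma.desc _).app (op U) g = _
  rw [Sigma.ι_desc]
  rfl

/-- A cochain as a map out of the free presheaf. -/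
def toLift {n : ℕ} (x : (Hyper.cechCxSite K F).X n) : (freeCx K).X n ⟶ F where
  app U := AddCommGrpCat.ofHom (FreeAbelianGroup.lift fun y => (toNat K F x).app U y)
  naturality U V f := AddCommGrpCat.hom_ext (FreeAbelianGroup.lift_ext _ _ fun y => by
    show FreeAbelianGroup.lift _ (FreeAbelianGroup.map _ (FreeAbelianGroup.of y)) =
      F.map f (FreeAbelianGroup.lift _ (FreeAbelianGroup.of y))
    rw [FreeAbelianGroup.map_of_apply, FreeAbelianGroup.lift_apply_of, FreeAbelianGroup.lift_apply_of]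
    exact NatTrans.naturality_apply (toNat K F x) f y)

theorem d_toLift_of (n : ℕ) (x : (Hyper.cechCxSite K F).X n) {U : C} (i : (K.obj (op ⦋n + 1⦌)).I)
    (g : U ⟶ (K.obj (op ⦋n + 1⦌)).obj i) :
    ((freeCx K).d (n + 1) n ≫ toLift K F x).app (op U) (FreeAbelianGroup.of (el _ i g)) =
      F.map g.op (comp K F ((Hyper.cechCxSite K F).d n (n + 1) x) i) := by
  show (FreeAbelianGroup.lift fun y => (toNat K F x).app (op U) y)
    (((freeCx K).d (n + 1) n).app (op U) (FreeAbelianGroup.of (el _ i g))) = _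
  rw [freeCx_d_apply, dd_of, comp_d, map_sum, map_sum]
  refine Finset.sum_congr rfl fun k _ => ?_
  rw [map_zsmul, map_zsmul, FreeAbelianGroup.lift_apply_of, face, map_el, toNat_el, op_comp, F.map_comp]
  rfl

theorem exists_toLift {n : ℕ} (ψ : (freeCx K).X n ⟶ F) : ∃ x, toLift K F x = ψ := by
  classical
  let K' := K.obj (op ⦋n⦌)
  let v : ∀ i : K'.I, F.obj (op (K'.obj i)) := fun i => ψ.app _ (FreeAbelianGroup.of (el K' i (𝟙 _)))
  let x : (Hyper.cechCxSite K F).X n :=
    (Pi.lift fun i => AddCommGrpCat.ofHom ((zmultiplesHom _ (v i)).comp (AddEquiv.ulift (α := ℤ)).toAddMonoidHom) :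
      AddCommGrpCat.of (ULift.{u} ℤ) ⟶ ∏ᶜ fun i : K'.I => F.obj (op (K'.obj i))) (ULift.up 1)
  refine ⟨x, NatTrans.ext (funext fun U => AddCommGrpCat.hom_ext (FreeAbelianGroup.lift_ext _ _ fun y => ?_))⟩
  obtain ⟨i, g, rfl⟩ := exists_el K' (U := U.unop) y
  show FreeAbelianGroup.lift _ (FreeAbelianGroup.of _) = _
  rw [FreeAbelianGroup.lift_apply_of]
  refine (toNat_el K F x i g).trans ?_
  have hx : comp K F x i = v i := by
    show (Pi.lift (fun i => AddCommGrpCat.ofHom ((zmultiplesHom _ (v i)).comp (AddEquiv.ulift (α := ℤ)).toAddMonoidHom)) ≫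
      Pi.π _ i) (ULift.up (1 : ℤ)) = _
    rw [Pi.lift_π]
    exact one_zsmul _
  rw [hx]
  show (ψ.app _ ≫ F.map g.op) _ = _
  rw [← ψ.naturality]
  show ψ.app _ (FreeAbelianGroup.map _ (FreeAbelianGroup.of (el K' i (𝟙 _)))) = _
  rw [FreeAbelianGroup.map_of_apply]
  refine congrArg (fun y => ψ.app _ (FreeAbelianGroup.of y)) ?_
  exact (restrict_el K' g i (𝟙 _)).trans (by rw [Category.comp_id])

variable (J : GrothendieckTopology C)
  [∀ (n : ℕ) (F : (SimplexCategory.Truncated n)ᵒᵖ ⥤ Limits.FormalCoproduct.{u} C),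
    (SimplexCategory.Truncated.inclusion n).op.HasRightKanExtension F]

/-- Injective sheaves have no higher Čech cohomology for hypercoverings. -/
theorem isZero_cech_injective (hK : Hyper.IsHypercoveringSite J K) (I : Sheaf J AddCommGrpCat.{u}) [Injective I]
    (p : ℕ) : IsZero ((Hyper.cechCxSite K I.obj).homology (p + 1)) := by
  let cx := Hyper.cechCxSite K I.obj
  let a := presheafToSheaf J AddCommGrpCat.{u}
  let adj := sheafificationAdjunction J AddCommGrpCat.{u}
  haveI : a.Additive := inferInstance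
  rw [← HomologicalComplex.exactAt_iff_isZero_homology,
    HomologicalComplex.exactAt_iff' _ p (p + 1) (p + 2) (by simp) (by simp), ShortComplex.ab_exact_iff]
  intro x hx
  change cx.X (p + 1) at x
  change cx.d (p + 1) (p + 2) x = 0 at hx
  let φ := toLift K I.obj x
  have hφ : (freeCx K).d (p + 2) (p + 1) ≫ φ = 0 := by
    refine NatTrans.ext (funext fun U => AddCommGrpCat.hom_ext (FreeAbelianGroup.lift_ext _ _ fun y => ?_))
    obtain ⟨i, g, rfl⟩ := exists_el (K.obj (op ⦋p + 2⦌)) (U := U.unop) y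
    refine (d_toLift_of K I.obj (p + 1) x i g).trans ?_
    rw [show comp K I.obj (cx.d (p + 1) (p + 2) x) i = 0 from by rw [hx]; exact map_zero _, map_zero]
    rfl
  let φ' : a.obj ((freeCx K).X (p + 1)) ⟶ I := (adj.homEquiv _ _).symm φ
  have hφ' : a.map ((freeCx K).d (p + 2) (p + 1)) ≫ φ' = 0 := by
    rw [← adj.homEquiv_naturality_left_symm, hφ]
    exact map_zero (adj.homAddEquiv _ _).symm
  have hex : (((a.mapHomologicalComplex _).obj (freeCx K)).sc' (p + 2) (p + 1) p).Exact := by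
    rw [← HomologicalComplex.exactAt_iff' _ _ _ _ (by simp) (by simp), HomologicalComplex.exactAt_iff_isZero_homology]
    have e := Functor.congr_obj (map_alternatingFaceMapComplex a) (freeSObj K)
    exact ((freeChainCx_resolution K J hK).1 p).of_iso
      ((HomologicalComplex.homologyFunctor _ _ (p + 1)).mapIso (eqToIso e))
  let ψ' := hex.descToInjective φ' hφ'
  obtain ⟨x', hx'⟩ := exists_toLift K I.obj (adj.homEquiv _ _ ψ')
  have hdψ : (freeCx K).d (p + 1) p ≫ toLift K I.obj x' = φ := by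
    rw [hx', ← adj.homEquiv_naturality_left]
    refine (congrArg (adj.homEquiv _ _) (hex.comp_descToInjective φ' hφ')).trans ?_
    exact (adj.homEquiv _ _).apply_symm_apply φ
  refine ⟨x', ?_⟩
  show cx.d p (p + 1) x' = x
  refine Concrete.limit_ext _ _ _ fun ⟨i⟩ => ?_
  have h := d_toLift_of K I.obj p x' i (𝟙 _)
  rw [hdψ, op_id, CategoryTheory.Functor.map_id] at h
  refine h.symm.trans ?_
  show FreeAbelianGroup.lift _ (FreeAbelianGroup.of _) = _
  rw [FreeAbelianGroup.lift_apply_of]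
  refine (toNat_el K I.obj x i (𝟙 _)).trans ?_
  rw [op_id, CategoryTheory.Functor.map_id]
  rfl

end HypercovLib
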