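import Groth.Prelude.Def_Hyper
import Mathlib.AlgebraicTopology.SimplicialObject.Coskeletal

/-! # Lifting pairs of vertices through the first boundary map of a hypercovering -/

set_option autoImplicit false
universe u

open CategoryTheory CategoryTheory.Limits Opposite SimplexCategory Simplicial

namespace HypercovLib

variable {D : Type u} [SmallCategory D]

/-- Copies of an object indexed by the simplices of the interval. -/
noncomputable def seg (W : D) : SimplicialObject (FormalCoproduct.{u} D) where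
  obj n := ⟨ULift.{u} (n.unop ⟶ ⦋1⦌), fun _ => W⟩
  map θ := { f := fun p => ⟨θ.unop ≫ p.down⟩, φ := fun _ => 𝟙 W }
  map_id n := FormalCoproduct.hom_ext (funext fun p => ULift.ext _ _ (Category.id_comp _))
    (fun _ => by simp)
  map_comp θ θ' := FormalCoproduct.hom_ext (funext fun p => ULift.ext _ _ (Category.assoc _ _ _))
    (fun _ => by simp)

/-- The simplex `p` as a morphism to the copies. -/
noncomputable def segι (W : D) (n : SimplexCategoryᵒᵖ) (p : n.unop ⟶ ⦋1⦌) :
    (FormalCoproduct.incl D).obj W ⟶ (seg W).obj n :=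
  { f := fun _ => ⟨p⟩, φ := fun _ => 𝟙 W }

theorem segι_map (W : D) {n m : SimplexCategoryᵒᵖ} (p : n.unop ⟶ ⦋1⦌) (θ : n ⟶ m) :
    segι W n p ≫ (seg W).map θ = segι W m (θ.unop ≫ p) :=
  FormalCoproduct.hom_ext rfl (fun _ => by simp [seg, segι])

/-- The unique map to the point. -/
noncomputable def toPt (A : SimplexCategory) : A ⟶ ⦋0⦌ := SimplexCategory.const A ⦋0⦌ 0

theorem toPt_eq {A : SimplexCategory} (θ : A ⟶ ⦋0⦌) : θ = toPt A := by
  ext i : 3
  exact Subsingleton.elim (α := Fin 1) _ _

variable (K : SimplicialObject (FormalCoproduct.{u} D)) {W : D}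

/-- The vertex data on a truncated object. -/
noncomputable def vert (a b : (FormalCoproduct.incl D).obj W ⟶ K.obj (op ⦋0⦌)) (A : SimplexCategory)
    (p : A ⟶ ⦋1⦌) : (FormalCoproduct.incl D).obj W ⟶ K.obj (op A) :=
  (if p.toOrderHom 0 = 0 then a else b) ≫ K.map (toPt A).op

theorem vert_zero (a b : (FormalCoproduct.incl D).obj W ⟶ K.obj (op ⦋0⦌)) (p : ⦋0⦌ ⟶ ⦋1⦌) :
    vert K a b ⦋0⦌ p = if p.toOrderHom 0 = 0 then a else b := by
  rw [vert, show toPt ⦋0⦌ = 𝟙 _ from (toPt_eq _).symm, op_id, K.map_id, Category.comp_id]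

theorem vert_map (a b : (FormalCoproduct.incl D).obj W ⟶ K.obj (op ⦋0⦌)) {A B : SimplexCategory}
    (hA : A.len ≤ 0) (θ : B ⟶ A) (p : A ⟶ ⦋1⦌) :
    vert K a b A p ≫ K.map θ.op = vert K a b B (θ ≫ p) := by
  have h0 : θ.toOrderHom 0 = 0 := Fin.ext (by have := (θ.toOrderHom 0).isLt; simp; omega)
  have h : (θ ≫ p).toOrderHom 0 = p.toOrderHom 0 := by
    show p.toOrderHom (θ.toOrderHom 0) = _
    rw [h0]
  rw [vert, vert, h, Category.assoc, ← K.map_comp, ← op_comp, toPt_eq (θ ≫ toPt A)]

/-- The map from the truncated copies given by two vertices. -/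
noncomputable def segTrunc (a b : (FormalCoproduct.incl D).obj W ⟶ K.obj (op ⦋0⦌)) :
    (SimplicialObject.truncation 0).obj (seg W) ⟶ (SimplicialObject.truncation 0).obj K where
  app A := { f := fun p => (vert K a b A.unop.obj p.down).f PUnit.unit,
             φ := fun p => (vert K a b A.unop.obj p.down).φ PUnit.unit }
  naturality A B θ := by
    refine (FormalCoproduct.hom_ext_iff' _ _).2 fun p => ?_
    have h := vert_map K a b (A := A.unop.obj) (B := B.unop.obj) A.unop.property θ.unop.hom p.down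
    obtain ⟨h1, h2⟩ := (FormalCoproduct.hom_ext_iff' _ _).1 h PUnit.unit
    refine ⟨h1.symm, ?_⟩
    have h2' : ((vert K a b A.unop.obj p.down) ≫ K.map θ.unop.hom.op).φ PUnit.unit =
        (vert K a b B.unop.obj (θ.unop.hom ≫ p.down)).φ PUnit.unit ≫ eqToHom (by rw [h1]) := by
      rw [← h2, Category.assoc, eqToHom_trans, eqToHom_refl, Category.comp_id]
    show (𝟙 W ≫ (vert K a b B.unop.obj (θ.unop.hom ≫ p.down)).φ PUnit.unit) ≫ _ = _
    rw [Category.id_comp]
    exact h2'.symm

variable [∀ (F : (SimplexCategory.Truncated 0)ᵒᵖ ⥤ FormalCoproduct.{u} D),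
  (SimplexCategory.Truncated.inclusion 0).op.HasRightKanExtension F]

/-- The unit of the coskeleton in degree one is jointly compatible with the two vertices: every pair of
vertices lifts to it. -/
theorem exists_pair (a b : (FormalCoproduct.incl D).obj W ⟶ K.obj (op ⦋0⦌)) :
    ∃ c : (FormalCoproduct.incl D).obj W ⟶
        ((SimplicialObject.truncation 0 ⋙ SimplicialObject.Truncated.cosk 0).obj K).obj (op ⦋1⦌),
      ∀ {V : D} (h : V ⟶ W) (e : (FormalCoproduct.incl D).obj V ⟶ K.obj (op ⦋1⦌)),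
        e ≫ ((SimplicialObject.coskAdj 0).unit.app K).app (op ⦋1⦌) = (FormalCoproduct.incl D).map h ≫ c →
        e ≫ K.δ 1 = (FormalCoproduct.incl D).map h ≫ a ∧ e ≫ K.δ 0 = (FormalCoproduct.incl D).map h ≫ b := by
  let η := (SimplicialObject.coskAdj 0).unit.app K
  let ε := (SimplicialObject.coskAdj 0).counit.app ((SimplicialObject.truncation 0).obj K)
  let τ := segTrunc K a b
  let g := (SimplicialObject.coskAdj 0).homEquiv _ _ τ
  have hg : (SimplicialObject.truncation 0).map g ≫ ε = τ := by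
    refine Eq.trans ?_ (((SimplicialObject.coskAdj 0).homEquiv _ _).symm_apply_apply τ)
    exact (Adjunction.homEquiv_counit _ _ _ _).symm
  have htri : (SimplicialObject.truncation 0).map η ≫ ε = 𝟙 _ :=
    (SimplicialObject.coskAdj 0).left_triangle_components K
  let A₀ : (SimplexCategory.Truncated 0)ᵒᵖ := op ⟨⦋0⦌, le_rfl⟩
  refine ⟨segι W (op ⦋1⦌) (𝟙 ⦋1⦌) ≫ g.app (op ⦋1⦌), fun {V} h e he => ?_⟩
  have key : ∀ k : Fin 2, e ≫ K.δ k =
      (FormalCoproduct.incl D).map h ≫ (if (SimplexCategory.δ k).toOrderHom 0 = 0 then a else b) := by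
    intro k
    have e1 : η.app (op ⦋0⦌) ≫ ε.app A₀ = 𝟙 _ := NatTrans.congr_app htri A₀
    have e2 : g.app (op ⦋0⦌) ≫ ε.app A₀ = τ.app A₀ := NatTrans.congr_app hg A₀
    have n1 := η.naturality (SimplexCategory.δ k).op
    have n2 := g.naturality (SimplexCategory.δ k).op
    calc e ≫ K.δ k = e ≫ K.map (SimplexCategory.δ k).op ≫ η.app (op ⦋0⦌) ≫ ε.app A₀ := by
          erw [e1]; erw [Category.comp_id]; rfl
      _ = (e ≫ η.app (op ⦋1⦌)) ≫ _ ≫ ε.app A₀ := by
          erw [reassoc_of% n1]; rw [Category.assoc]; rfl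
      _ = (FormalCoproduct.incl D).map h ≫ segι W (op ⦋1⦌) (𝟙 ⦋1⦌) ≫ (seg W).map (SimplexCategory.δ k).op ≫
            τ.app A₀ := by
          erw [he]
          rw [← e2]
          simp only [Category.assoc]
          erw [reassoc_of% n2]
          rfl
      _ = _ := by
          congr 1
          rw [← Category.assoc, segι_map]
          erw [Category.comp_id (SimplexCategory.δ k)]
          refine Eq.trans ?_ (vert_zero K a b (SimplexCategory.δ k))
          refine FormalCoproduct.hom_ext rfl fun _ => ?_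
          show (𝟙 W ≫ _) ≫ _ = _
          erw [Category.id_comp, Category.comp_id]
          rfl
  refine ⟨?_, ?_⟩
  · have h1 : (SimplexCategory.δ (1 : Fin 2)).toOrderHom 0 = 0 := by decide
    simpa [h1] using key 1
  · have h0 : (SimplexCategory.δ (0 : Fin 2)).toOrderHom 0 ≠ 0 := by decide
    simpa [h0] using key 0

end HypercovLib
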