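import Groth.Agent.HypercovLib.Dies
import Groth.Agent.CohLib.Sections
import Groth.Agent.CohLib.ExtShift
import Groth.Agent.S0895
import Groth.Agent.S3881
import Groth.Agent.S3893
import Mathlib

/-! # Sheaf cohomology vanishes iff Čech classes die on refinements of hypercoverings -/

set_option autoImplicit false
universe u

open CategoryTheory CategoryTheory.Limits Opposite Simplicial CategoryTheory.Abelian

noncomputable section

namespace HypercovLib

variable {C : Type u} [SmallCategory C] (X : C)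

/-- The constant hypercovering. -/
abbrev trivK : SimplicialObject (FormalCoproduct.{u} (Over X)) :=
  (Functor.const SimplexCategoryᵒᵖ).obj ((FormalCoproduct.incl (Over X)).obj (Over.mk (𝟙 X)))

variable [HasPullbacks C] (J : GrothendieckTopology C)
  [∀ (n : ℕ) (F : (SimplexCategory.Truncated n)ᵒᵖ ⥤ Limits.FormalCoproduct.{u} (Over X)),
    (SimplexCategory.Truncated.inclusion n).op.HasRightKanExtension F]

theorem trivK_isHypercovering : Hyper.IsHypercovering J X (trivK X) := by
  refine (isHypercovering_iff J (trivK X)).2 ⟨?_, fun m U v _ => ⟨⊤, (J.over X).top_mem U, fun V g _ => ?_⟩⟩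
  · refine J.superset_covering (fun Y g _ => ?_) (J.top_mem X)
    have h : Sieve.ofArrows (fun i => (((trivK X).obj (op ⦋0⦌)).obj i).left)
        (fun i => (((trivK X).obj (op ⦋0⦌)).obj i).hom) (g ≫ 𝟙 X) :=
      Sieve.downward_closed _ (Sieve.ofArrows_mk _ (fun i => (((trivK X).obj (op ⦋0⦌)).obj i).hom) PUnit.unit) g
    rwa [Category.comp_id] at h
  · refine ⟨{ f := fun _ => PUnit.unit, φ := fun _ => (Over.mkIdTerminal.from V) }, fun a ha θ => ?_⟩
    exact FormalCoproduct.hom_ext rfl fun _ => Over.mkIdTerminal.hom_ext _ _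

variable {X}
variable {K L : SimplicialObject (FormalCoproduct.{u} (Over X))}

theorem cechMap_res0 (f : L ⟶ K) (P : Cᵒᵖ ⥤ AddCommGrpCat.{u}) (t : P.obj (op X)) :
    (Hyper.cechMap X f P).f 0 (res0 K P t) = res0 L P t := by
  refine ext_comp L fun j => ?_
  rw [comp_cechMap, comp_res0, comp_res0, ← ConcreteCategory.comp_apply, ← P.map_comp, ← op_comp, Over.w]

variable (K) in
theorem res0_injective (hK : Hyper.IsHypercovering J X K) (G : Sheaf J AddCommGrpCat.{u}) {s t : G.obj.obj (op X)}
    (h : res0 K G.obj s = res0 K G.obj t) : s = t := by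
  have hT : Presieve.IsSheaf J (G.obj ⋙ CategoryTheory.forget AddCommGrpCat.{u}) := (isSheaf_iff_isSheaf_of_type _ _).1
    ((Presheaf.isSheaf_iff_isSheaf_forget J G.obj (CategoryTheory.forget AddCommGrpCat.{u})).1 G.property)
  refine (hT.isSeparated _ hK.1).ext fun Y g hg => ?_
  obtain ⟨_, γ, _, ⟨i⟩, rfl⟩ := hg
  show G.obj.map (γ ≫ _).op s = G.obj.map (γ ≫ _).op t
  rw [op_comp, G.obj.map_comp, ConcreteCategory.comp_apply, ConcreteCategory.comp_apply]
  exact congrArg (G.obj.map γ.op) ((comp_res0 K G.obj s i).symm.trans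
    (Eq.trans (congrArg (fun z => comp K ((Over.forget X).op ⋙ G.obj) z i) h) (comp_res0 K G.obj t i)))

omit [HasPullbacks C] [∀ (n : ℕ) (F : (SimplexCategory.Truncated n)ᵒᵖ ⥤ Limits.FormalCoproduct.{u} (Over X)),
    (SimplexCategory.Truncated.inclusion n).op.HasRightKanExtension F] in
theorem exists_cycle (cx : CochainComplex AddCommGrpCat.{u} ℕ) {q : ℕ} (x : cx.X q) (hx : cx.d q (q + 1) x = 0) :
    ∃ z : cx.cycles q, cx.iCycles q z = x :=
  (ShortComplex.ab_exact_iff _).1 (ShortComplex.exact_of_f_is_kernel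
    (ShortComplex.mk (cx.iCycles q) (cx.d q (q + 1)) (cx.iCycles_d _ _)) (cx.cyclesIsKernel q (q + 1) (by simp))) x hx

omit [HasPullbacks C] [∀ (n : ℕ) (F : (SimplexCategory.Truncated n)ᵒᵖ ⥤ Limits.FormalCoproduct.{u} (Over X)),
    (SimplexCategory.Truncated.inclusion n).op.HasRightKanExtension F] in
theorem iCycles_cechHMap (f : L ⟶ K) (P : Cᵒᵖ ⥤ AddCommGrpCat.{u}) {q : ℕ} (z : (Hyper.cechCx X K P).cycles q) :
    ∃ z' : (Hyper.cechCx X L P).cycles q, (Hyper.cechCx X L P).iCycles q z' = (Hyper.cechMap X f P).f q ((Hyper.cechCx X K P).iCycles q z) ∧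
      Hyper.cechHMap X f P q ((Hyper.cechCx X K P).homologyπ q z) = (Hyper.cechCx X L P).homologyπ q z' :=
  ⟨HomologicalComplex.cyclesMap (Hyper.cechMap X f P) q z,
    ConcreteCategory.congr_hom (HomologicalComplex.cyclesMap_i (Hyper.cechMap X f P) q) z,
    ConcreteCategory.congr_hom (HomologicalComplex.homologyπ_naturality (Hyper.cechMap X f P) q) z⟩

/-- Degree zero. -/
theorem dies_zero_iff (F : Sheaf J AddCommGrpCat.{u}) : Dies X J F.obj 0 ↔ Subsingleton (F.obj.obj (op X)) := by
  refine ⟨fun h => subsingleton_of_forall_eq 0 fun s => ?_, fun _ K hK ξ => ⟨K, 𝟙 K, hK, ?_⟩⟩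
  · obtain ⟨z, hz⟩ := exists_cycle (Hyper.cechCx X (trivK X) F.obj) (res0 (trivK X) F.obj s) (d_res0 _ _ s)
    obtain ⟨L, f, hL, e⟩ := h _ (trivK_isHypercovering X J) ((Hyper.cechCx X (trivK X) F.obj).homologyπ 0 z)
    obtain ⟨z', h1, h2⟩ := iCycles_cechHMap f F.obj z
    haveI : IsIso ((Hyper.cechCx X L F.obj).homologyπ 0) := CochainComplex.isIso_homologyπ₀ _
    have h3 : z' = 0 := (ConcreteCategory.bijective_of_isIso ((Hyper.cechCx X L F.obj).homologyπ 0)).1
      ((h2.symm.trans e).trans (map_zero _).symm)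
    rw [h3, map_zero, hz, cechMap_res0] at h1
    exact res0_injective J L hL F (h1.symm.trans (map_zero _).symm)
  · obtain ⟨z, rfl⟩ := (AddCommGrpCat.epi_iff_surjective ((Hyper.cechCx X K F.obj).homologyπ 0)).1 inferInstance ξ
    have hz : z = 0 := by
      refine (AddCommGrpCat.mono_iff_injective ((Hyper.cechCx X K F.obj).iCycles 0)).1 inferInstance ?_
      obtain ⟨t, ht⟩ := exists_glue K J hK F ((Hyper.cechCx X K F.obj).iCycles 0 z)
        (ConcreteCategory.congr_hom ((Hyper.cechCx X K F.obj).iCycles_d 0 1) z)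
      rw [map_zero, ← ht, Subsingleton.elim t 0, map_zero]
    rw [hz, map_zero, map_zero]

/-- A hypercovering on which a section of a quotient sheaf lifts to a cochain. -/
theorem exists_lift_cochain {I Q : Sheaf J AddCommGrpCat.{u}} (φ : I ⟶ Q) [Epi φ] (s : Q.obj.obj (op X)) :
    ∃ (L : SimplicialObject (FormalCoproduct.{u} (Over X))), Hyper.IsHypercovering J X L ∧
      ∃ z : (Hyper.cechCx X L I.obj).X 0, (cxMap L ((Over.forget X).op.whiskerLeft φ.hom)).f 0 z = res0 L Q.obj s := by
  haveI : Sheaf.IsLocallySurjective φ := (Sheaf.isLocallySurjective_iff_epi' AddCommGrpCat.{u} φ).2 inferInstance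
  let Z : FormalCoproduct.{u} (Over X) :=
    ⟨Σ V : Over X, {c : I.obj.obj (op V.left) // φ.hom.app _ c = Q.obj.map V.hom.op s}, fun p => p.1⟩
  let K := trivK X
  let uZ : Z ⟶ K.obj (op ⦋0⦌) := { f := fun _ => PUnit.unit, φ := fun p => Over.mkIdTerminal.from p.1 }
  have hcov : Hyper.IsSRCovering (J.over X) uZ := by
    refine (locLift_iff _ _).1 fun U b => ?_
    refine ⟨(Sieve.overEquiv U).symm (Presheaf.imageSieve φ.hom (U := U.left) (Q.obj.map U.hom.op s)), ?_, fun V g hg => ?_⟩
    · rw [GrothendieckTopology.mem_over_iff, OrderIso.apply_symm_apply]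
      exact Presheaf.imageSieve_mem J φ.hom (U := op U.left) (Q.obj.map U.hom.op s)
    · rw [Sieve.overEquiv_symm_iff] at hg
      obtain ⟨c, hc⟩ := hg
      have hc' : φ.hom.app _ c = Q.obj.map V.hom.op s := by
        refine hc.trans ?_
        rw [← ConcreteCategory.comp_apply, ← Q.obj.map_comp, ← op_comp, Over.w]
      exact ⟨{ f := fun _ => ⟨V, c, hc'⟩, φ := fun _ => 𝟙 V },
        FormalCoproduct.hom_ext rfl fun _ => Over.mkIdTerminal.hom_ext _ _⟩
  obtain ⟨L, f, g, hL, hg⟩ := Groth.Agent.S3881.result J X K (trivK_isHypercovering X J) 0 Z uZ hcov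
  obtain ⟨z, hz⟩ := exists_comp (F := (Over.forget X).op ⋙ I.obj) L
    (fun j : (L.obj (op ⦋0⦌)).I => I.obj.map (g.φ j).left.op (g.f j).2.1)
  refine ⟨L, hL, z, ext_comp L fun j => ?_⟩
  rw [comp_cxMap, hz, comp_res0]
  refine (NatTrans.naturality_apply φ.hom (g.φ j).left.op (g.f j).2.1).trans ?_
  rw [(g.f j).2.2, ← ConcreteCategory.comp_apply, ← Q.obj.map_comp, ← op_comp, Over.w]

/-- Degree one. -/
theorem dies_one_iff (F : Sheaf J AddCommGrpCat.{u}) :
    Dies X J F.obj 1 ↔ Function.Surjective ((CohLib.injSC F).g.hom.app (op X)) := by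
  let S := CohLib.injSC F
  have hS : S.ShortExact := CohLib.injSC_shortExact F
  haveI : Injective S.X₂ := inferInstanceAs (Injective (Injective.under F))
  let α : (Over.forget X).op ⋙ F.obj ⟶ (Over.forget X).op ⋙ S.X₂.obj := (Over.forget X).op.whiskerLeft S.f.hom
  let β : (Over.forget X).op ⋙ S.X₂.obj ⟶ (Over.forget X).op ⋙ S.X₃.obj := (Over.forget X).op.whiskerLeft S.g.hom
  have hsec : ∀ U : Cᵒᵖ, Function.Injective (S.f.hom.app U) ∧
      ∀ a, S.g.hom.app U a = 0 → ∃ b, S.f.hom.app U b = a := fun U => by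
    let E := sheafToPresheaf J AddCommGrpCat.{u} ⋙ (evaluation Cᵒᵖ AddCommGrpCat.{u}).obj U
    haveI := hS.mono_f
    haveI : E.PreservesZeroMorphisms := ⟨fun _ _ => rfl⟩
    have h := hS.exact.map_of_mono_of_preservesKernel E hS.mono_f inferInstance
    rw [ShortComplex.ab_exact_iff] at h
    exact ⟨(AddCommGrpCat.mono_iff_injective _).1 (inferInstanceAs (Mono (E.map S.f))), h⟩
  have hα : ∀ U, Function.Injective (α.app U) := fun U => (hsec _).1
  have hk : ∀ U a, β.app U a = 0 → ∃ b, α.app U b = a := fun U a ha => (hsec _).2 a ha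
  have hz0 : ∀ (M : SimplicialObject (FormalCoproduct.{u} (Over X))) {n : ℕ} (y : (Hyper.cechCx X M F.obj).X n),
      (cxMap M β).f n ((cxMap M α).f n y) = 0 := fun M n y => ext_comp M fun i => by
    rw [comp_cxMap, comp_cxMap]
    refine (congrArg (fun k => k.hom.app _ (comp M _ y i)) S.zero).trans ?_
    exact (map_zero (AddCommGrpCat.Hom.hom (Pi.π (fun i => S.X₃.obj.obj (op ((M.obj (op ⦋n⦌)).obj i).left)) i))).symm
  refine ⟨fun h s => ?_, fun h K hK ξ => ⟨K, 𝟙 K, hK, ?_⟩⟩
  · haveI : Epi S.g := hS.epi_g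
    obtain ⟨L, hL, z, hz⟩ := exists_lift_cochain J S.g s
    change (cxMap L β).f 0 z = _ at hz
    obtain ⟨x, hx⟩ := cxMap_exact L α β hk ((Hyper.cechCx X L S.X₂.obj).d 0 1 z) (by
      rw [cxMap_d, hz]
      exact d_res0 L _ s)
    have hdx : (Hyper.cechCx X L F.obj).d 1 2 x = 0 := cxMap_injective L α hα 2 (by
      rw [cxMap_d, hx, map_zero, ← ConcreteCategory.comp_apply, HomologicalComplex.d_comp_d]
      rfl)
    obtain ⟨zx, hzx⟩ := exists_cycle _ x hdx
    obtain ⟨M, f, hM, e⟩ := h L hL ((Hyper.cechCx X L F.obj).homologyπ 1 zx)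
    obtain ⟨z', h1, h2⟩ := iCycles_cechHMap f F.obj zx
    obtain ⟨y, hy⟩ := (ShortComplex.ab_exact_iff _).1 (ShortComplex.exact_of_g_is_cokernel
      (ShortComplex.mk ((Hyper.cechCx X M F.obj).toCycles 0 1) ((Hyper.cechCx X M F.obj).homologyπ 1)
        (HomologicalComplex.toCycles_comp_homologyπ _ _ _))
      ((Hyper.cechCx X M F.obj).homologyIsCokernel 0 1 (by simp))) z' (h2.symm.trans e)
    change (Hyper.cechCx X M F.obj).X 0 at y
    have hy' : (Hyper.cechCx X M F.obj).d 0 1 y = (Hyper.cechMap X f F.obj).f 1 x := by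
      rw [← hzx, ← h1, ← hy]
      exact (ConcreteCategory.congr_hom (HomologicalComplex.toCycles_i _ 0 1) y).symm
    have hnat : ∀ {P Q : Cᵒᵖ ⥤ AddCommGrpCat.{u}} (φ : P ⟶ Q) (n : ℕ) (w : (Hyper.cechCx X L P).X n),
        (Hyper.cechMap X f Q).f n ((cxMap L ((Over.forget X).op.whiskerLeft φ)).f n w) =
          (cxMap M ((Over.forget X).op.whiskerLeft φ)).f n ((Hyper.cechMap X f P).f n w) := fun φ n w =>
      ConcreteCategory.congr_hom (HomologicalComplex.congr_hom (cechMap_natural f φ) n) w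
    let z₁ := (Hyper.cechMap X f S.X₂.obj).f 0 z - (cxMap M α).f 0 y
    have hd₁ : (Hyper.cechCx X M S.X₂.obj).d 0 1 z₁ = 0 := by
      rw [map_sub, sub_eq_zero, ← cxMap_d, hy', ← hnat, hx]
      exact ConcreteCategory.congr_hom ((Hyper.cechMap X f S.X₂.obj).comm 0 1) z
    obtain ⟨t, ht⟩ := exists_glue M J hM S.X₂ z₁ hd₁
    refine ⟨t, res0_injective J M hM S.X₃ ?_⟩
    calc res0 M S.X₃.obj (S.g.hom.app (op X) t) = (cxMap M β).f 0 (res0 M S.X₂.obj t) := ext_comp M fun i => by
          rw [comp_cxMap, comp_res0, comp_res0]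
          exact (NatTrans.naturality_apply S.g.hom _ t).symm
      _ = res0 M S.X₃.obj s := by
          rw [ht, map_sub, hz0, sub_zero, ← hnat, hz, cechMap_res0]
  · obtain ⟨zx, rfl⟩ := (AddCommGrpCat.epi_iff_surjective ((Hyper.cechCx X K F.obj).homologyπ 1)).1 inferInstance ξ
    let x := (Hyper.cechCx X K F.obj).iCycles 1 zx
    have hI := Groth.Agent.S0895.result J X K hK S.X₂ 0
    rw [← HomologicalComplex.exactAt_iff_isZero_homology,
      HomologicalComplex.exactAt_iff' _ 0 1 2 (by simp) (by simp), ShortComplex.ab_exact_iff] at hI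
    obtain ⟨z, hz⟩ := hI ((cxMap K α).f 1 x) (by
      refine (cxMap_d K α x).symm.trans ?_
      rw [show (Hyper.cechCx X K F.obj).d 1 2 x = 0 from ConcreteCategory.congr_hom ((Hyper.cechCx X K F.obj).iCycles_d 1 2) zx]
      exact map_zero _)
    change (Hyper.cechCx X K S.X₂.obj).X 0 at z
    change (Hyper.cechCx X K S.X₂.obj).d 0 1 z = (cxMap K α).f 1 x at hz
    obtain ⟨s, hs⟩ := exists_glue K J hK S.X₃ ((cxMap K β).f 0 z) (by
      refine (cxMap_d K β z).symm.trans ?_
      rw [hz, hz0])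
    obtain ⟨t, ht⟩ := h s
    obtain ⟨y, hy⟩ := exists_boundary_shift K α β hα hk x z (res0 K S.X₂.obj t) hz (d_res0 K _ t) (by
      rw [← hs]
      refine ext_comp K fun i => ?_
      rw [comp_cxMap, comp_res0, comp_res0, ← ht]
      exact NatTrans.naturality_apply S.g.hom _ t)
    have e : (Hyper.cechCx X K F.obj).toCycles 0 1 y = zx :=
      (AddCommGrpCat.mono_iff_injective ((Hyper.cechCx X K F.obj).iCycles 1)).1 inferInstance
        ((ConcreteCategory.congr_hom (HomologicalComplex.toCycles_i _ 0 1) y).trans hy)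
    have e0 : (Hyper.cechCx X K F.obj).homologyπ 1 zx = 0 := by
      rw [← e]
      exact ConcreteCategory.congr_hom (HomologicalComplex.toCycles_comp_homologyπ _ 0 1) y
    rw [e0]
    exact map_zero _

/-- **Vanishing of cohomology and Čech classes.** -/
theorem subsingleton_HU_iff_dies (F : Sheaf J AddCommGrpCat.{u}) (q : ℕ) :
    Subsingleton (CohSite.HU F q X) ↔ Dies X J F.obj q := by
  let Z := (presheafToSheaf J AddCommGrpCat.{u}).obj (yoneda.obj X ⋙ AddCommGrpCat.free.{u})
  induction q generalizing F with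
  | zero =>
    rw [dies_zero_iff]
    exact (Ext.addEquiv₀.toEquiv.trans (CohLib.secEquiv X F)).subsingleton_congr
  | succ q ih =>
    let S := CohLib.injSC F
    have hS : S.ShortExact := CohLib.injSC_shortExact F
    haveI : Injective S.X₂ := inferInstanceAs (Injective (Injective.under F))
    haveI hI : ∀ n : ℕ, Subsingleton (Ext Z S.X₂ (n + 1)) := fun n => CohLib.subsingleton_ext_injective _ S.X₂ n
    cases q with
    | zero =>
      rw [dies_one_iff]
      refine ⟨fun h => ?_, fun h => ?_⟩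
      · haveI : Subsingleton (CohSite.HU S.X₁ 1 X) := h
        exact CohLib.surjective_sections_of_HU hS X
      · haveI : Subsingleton (CohSite.HU S.X₂ 1 X) := hI 0
        exact CohLib.subsingleton_HU_one_of_surjective hS X h
    | succ q =>
      have hIdies : ∀ n, Dies X J S.X₂.obj (n + 1) := fun n K hK ξ => ⟨K, 𝟙 K, hK, by
        haveI := AddCommGrpCat.subsingleton_of_isZero (Groth.Agent.S0895.result J X K hK S.X₂ n)
        rw [Subsingleton.elim ξ 0]
        exact map_zero _⟩
      let p := Abelian.coimage.π S.g.hom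
      let m := Abelian.factorThruCoimage S.g.hom
      haveI : Epi S.g := hS.epi_g
      let a := presheafToSheaf J AddCommGrpCat.{u}
      haveI : Epi (a.map S.g.hom) := by
        have e : a.map S.g.hom = (sheafificationAdjunction J AddCommGrpCat.{u}).counit.app _ ≫ S.g ≫
            inv ((sheafificationAdjunction J AddCommGrpCat.{u}).counit.app S.X₃) := by
          rw [← Category.assoc, IsIso.eq_comp_inv]
          exact (sheafificationAdjunction J AddCommGrpCat.{u}).counit.naturality S.g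
        rw [e]
        infer_instance
      haveI : Epi (a.map m) := by
        haveI : Epi (a.map p ≫ a.map m) := by
          rw [← a.map_comp, Abelian.coimage.fac]
          infer_instance
        exact epi_of_epi (a.map p) _
      let iK : kernel S.g.hom ≅ F.obj := (kernelIsKernel S.g.hom).conePointUniqueUpToIso
        (KernelFork.mapIsLimit _ hS.fIsKernel (sheafToPresheaf J AddCommGrpCat.{u}))
      let T : ShortComplex (Cᵒᵖ ⥤ AddCommGrpCat.{u}) :=
        ShortComplex.mk (kernel.ι S.g.hom) p (cokernel.condition (kernel.ι S.g.hom))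
      have hT : T.ShortExact := { exact := ShortComplex.exact_cokernel (kernel.ι S.g.hom) }
      rw [← dies_iff_of_isIso J iK.hom]
      have h1 : Dies X J (kernel S.g.hom) (q + 1 + 1) ↔ Dies X J (Abelian.coimage S.g.hom) (q + 1) :=
        ⟨fun h => dies_quot (S := T) hT J h (hIdies q), fun h => dies_sub (S := T) hT J (hIdies (q + 1)) h⟩
      rw [h1, dies_iff_of_mono J m]
      refine Iff.trans ?_ (ih S.X₃)
      haveI := hI q
      haveI := hI (q + 1)
      exact ⟨fun h => @CohLib.subsingleton_ext_of_shift' _ _ _ _ _ hS Z (q + 1) _ h,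
        fun h => @CohLib.subsingleton_ext_of_shift _ _ _ _ _ hS Z (q + 1) _ h⟩

/-- The same for the sheaf associated to a presheaf. -/
theorem subsingleton_HU_sheafify_iff_dies (G : Cᵒᵖ ⥤ AddCommGrpCat.{u}) (q : ℕ) :
    Subsingleton (CohSite.HU ((presheafToSheaf J AddCommGrpCat.{u}).obj G) q X) ↔ Dies X J G q := by
  haveI : IsIso ((presheafToSheaf J AddCommGrpCat.{u}).map (toSheafify J G)) :=
    inferInstanceAs (IsIso ((presheafToSheaf J AddCommGrpCat.{u}).map
      ((sheafificationAdjunction J AddCommGrpCat.{u}).unit.app G)))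
  rw [dies_iff_of_isIso J (toSheafify J G)]
  exact subsingleton_HU_iff_dies J _ q

end HypercovLib
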