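import Groth.Agent.HypercovLib.InjAcyclic
import Groth.Agent.HypercovLib.Fill
import Mathlib.CategoryTheory.Sites.Types
import Mathlib

/-! # Degree zero cocycles of a hypercovering glue to sections -/

set_option autoImplicit false
universe u

open CategoryTheory CategoryTheory.Limits Opposite SimplexCategory Simplicial

noncomputable section

namespace HypercovLib

variable {C : Type u} [SmallCategory C] {X : C}
  (K : SimplicialObject (FormalCoproduct.{u} (Over X))) (F : Cᵒᵖ ⥤ AddCommGrpCat.{u})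

/-- Restriction of a section over `X` to a degree zero cochain. -/
def res0 : F.obj (op X) ⟶ (Hyper.cechCx X K F).X 0 :=
  Pi.lift fun i : (K.obj (op ⦋0⦌)).I => F.map ((K.obj (op ⦋0⦌)).obj i).hom.op

theorem comp_res0 (t : F.obj (op X)) (i : (K.obj (op ⦋0⦌)).I) :
    comp K ((Over.forget X).op ⋙ F) (res0 K F t) i = F.map ((K.obj (op ⦋0⦌)).obj i).hom.op t := by
  show (Pi.lift (fun i : (K.obj (op ⦋0⦌)).I => F.map ((K.obj (op ⦋0⦌)).obj i).hom.op) ≫ Pi.π _ i) t = _
  rw [Pi.lift_π]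

theorem d_res0 (t : F.obj (op X)) : (Hyper.cechCx X K F).d 0 1 (res0 K F t) = 0 := by
  refine Concrete.limit_ext _ _ _ fun ⟨i⟩ => ?_
  refine (comp_d K ((Over.forget X).op ⋙ F) 0 (res0 K F t) i).trans ?_
  rw [Fin.sum_univ_two, comp_res0, comp_res0]
  show ((-1 : ℤ) ^ 0) • F.map ((K.δ 0).φ i).left.op _ + ((-1 : ℤ) ^ 1) • F.map ((K.δ (1 : Fin 2)).φ i).left.op _ = _
  rw [← ConcreteCategory.comp_apply, ← F.map_comp, ← op_comp, Over.w, ← ConcreteCategory.comp_apply, ← F.map_comp,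
    ← op_comp, Over.w, pow_zero, one_zsmul, pow_one, neg_one_zsmul, add_neg_cancel]
  exact (map_zero _).symm

variable [HasPullbacks C] (J : GrothendieckTopology C)
  [∀ (n : ℕ) (F : (SimplexCategory.Truncated n)ᵒᵖ ⥤ Limits.FormalCoproduct.{u} (Over X)),
    (SimplexCategory.Truncated.inclusion n).op.HasRightKanExtension F]

/-- A degree zero cocycle of a sheaf comes from a section. -/
theorem exists_glue (hK : Hyper.IsHypercovering J X K) (G : Sheaf J AddCommGrpCat.{u})
    (x : (Hyper.cechCx X K G.obj).X 0) (hx : (Hyper.cechCx X K G.obj).d 0 1 x = 0) :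
    ∃ t, res0 K G.obj t = x := by
  classical
  let P := (Over.forget X).op ⋙ G.obj
  let K₀ := K.obj (op ⦋0⦌)
  let K₁ := K.obj (op ⦋1⦌)
  have hT : Presieve.IsSheaf J (G.obj ⋙ CategoryTheory.forget AddCommGrpCat.{u}) := (isSheaf_iff_isSheaf_of_type _ _).1
    ((Presheaf.isSheaf_iff_isSheaf_forget J G.obj (CategoryTheory.forget AddCommGrpCat.{u})).1 G.property)
  have hcov := hT.isSheafFor (Presieve.ofArrows (fun i => (K₀.obj i).left) fun i => (K₀.obj i).hom) hK.1
  let v : ∀ {V : Over X}, ((FormalCoproduct.incl (Over X)).obj V ⟶ K₀) → G.obj.obj (op V.left) :=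
    fun {V} m => G.obj.map (m.φ PUnit.unit).left.op (comp K P x (m.f PUnit.unit))
  have hedge : ∀ {V : Over X} (e : (FormalCoproduct.incl (Over X)).obj V ⟶ K₁),
      v (e ≫ K.δ 0) = v (e ≫ K.δ (1 : Fin 2)) := fun {V} e => by
    have h := (comp_d K P 0 x (e.f PUnit.unit)).symm.trans
      (show comp K P ((Hyper.cechCx X K G.obj).d 0 1 x) _ = 0 from by rw [hx]; exact map_zero _)
    rw [Fin.sum_univ_two] at h
    rw [Fin.val_zero, Fin.val_one, pow_zero, pow_one, one_zsmul, neg_one_zsmul, ← sub_eq_add_neg,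
      sub_eq_zero] at h
    show G.obj.map (e.φ PUnit.unit ≫ (K.δ 0).φ _).left.op _ =
      G.obj.map (e.φ PUnit.unit ≫ (K.δ (1 : Fin 2)).φ _).left.op _
    rw [Over.comp_left, Over.comp_left, op_comp, op_comp, G.obj.map_comp, G.obj.map_comp]
    exact congrArg (G.obj.map (e.φ PUnit.unit).left.op) h
  have hvcomp : ∀ {V W : Over X} (h : V ⟶ W) (m : (FormalCoproduct.incl (Over X)).obj W ⟶ K₀),
      v ((FormalCoproduct.incl (Over X)).map h ≫ m) = G.obj.map h.left.op (v m) := fun h m => by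
    show G.obj.map (h ≫ m.φ PUnit.unit).left.op _ = _
    rw [Over.comp_left, op_comp, G.obj.map_comp]
    rfl
  let s : ∀ i : K₀.I, G.obj.obj (op (K₀.obj i).left) := fun i => comp K P x i
  have hcompat : Presieve.Arrows.Compatible (G.obj ⋙ CategoryTheory.forget AddCommGrpCat.{u})
      (fun i => (K₀.obj i).hom) s := by
    intro i j Z g₁ g₂ hg
    let W : Over X := Over.mk (g₁ ≫ (K₀.obj i).hom)
    let a : (FormalCoproduct.incl (Over X)).obj W ⟶ K₀ :=
      { f := fun _ => i, φ := fun _ => Over.homMk g₁ }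
    let b : (FormalCoproduct.incl (Over X)).obj W ⟶ K₀ :=
      { f := fun _ => j, φ := fun _ => Over.homMk g₂ hg.symm }
    obtain ⟨c, hc⟩ := exists_pair K a b
    have hsieve := (J.over X).pullback_stable (c.φ PUnit.unit) (hK.2 0 (c.f PUnit.unit))
    rw [GrothendieckTopology.mem_over_iff] at hsieve
    refine (hT.isSeparated _ hsieve).ext fun Y f hf => ?_
    rw [Sieve.overEquiv_iff] at hf
    obtain ⟨_, γ, _, ⟨i'⟩, hγ⟩ := hf
    let e : (FormalCoproduct.incl (Over X)).obj (Over.mk (f ≫ W.hom)) ⟶ K₁ :=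
      { f := fun _ => i'.1, φ := fun _ => γ }
    obtain ⟨h1, h0⟩ := hc (Over.homMk f : Over.mk (f ≫ W.hom) ⟶ W) e
      ((FormalCoproduct.hom_ext_iff' _ _).2 fun _ => ⟨i'.2, by
        refine Eq.trans ?_ hγ
        exact Category.assoc _ _ _⟩)
    have h := hedge e
    rw [h1, h0, hvcomp, hvcomp] at h
    exact h.symm
  obtain ⟨t, ht, -⟩ := (Presieve.isSheafFor_arrows_iff _ _).1 hcov s hcompat
  exact ⟨t, Concrete.limit_ext _ _ _ fun ⟨i⟩ => (comp_res0 K G.obj t i).trans (ht i)⟩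

end HypercovLib
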