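import Groth.Agent.HypercovLib.UnivObj
import Mathlib

/-! # Spheres in the universal simplicial object are filled by objects of the class -/

set_option autoImplicit false
universe u v w

open CategoryTheory CategoryTheory.Limits Opposite Simplicial

noncomputable section

namespace HypercovLib

section Extend

variable {E : Type w} [Category.{v} E] (K : SimplicialObject E) {T : E} {m : ℕ}
  (v : ∀ a : SimplexCategory, a.len ≤ m → (a ⟶ ⦋m + 1⦌) → (T ⟶ K.obj (op a)))
  (hv : ∀ (a b : SimplexCategory) (ha : a.len ≤ m) (hb : b.len ≤ m) (β : b ⟶ a) (θ : a ⟶ ⦋m + 1⦌),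
    v a ha θ ≫ K.map β.op = v b hb (β ≫ θ))

theorem exists_omitted {A : SimplexCategory} {m : ℕ} {σ : A ⟶ ⦋m + 1⦌}
    (hσ : ¬ Function.Surjective σ.toOrderHom) : ∃ k : Fin (m + 2), ∀ l, σ.toOrderHom l ≠ k := by
  simp only [Function.Surjective, not_forall, not_exists] at hσ
  exact hσ

theorem not_surjective_of_le {A : SimplexCategory} {m : ℕ} (hA : A.len ≤ m) (σ : A ⟶ ⦋m + 1⦌) :
    ¬ Function.Surjective σ.toOrderHom := fun h => by
  have := Fintype.card_le_of_surjective σ.toOrderHom h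
  simp at this
  omega

include hv in
theorem sphere_indep (i k : Fin (m + 2)) {A : SimplexCategory} (p q : A ⟶ ⦋m⦌)
    (hpq : p ≫ SimplexCategory.δ i = q ≫ SimplexCategory.δ k) :
    v ⦋m⦌ le_rfl (SimplexCategory.δ i) ≫ K.map p.op = v ⦋m⦌ le_rfl (SimplexCategory.δ k) ≫ K.map q.op := by
  suffices key : ∀ (i k : Fin (m + 2)) (p q : A ⟶ ⦋m⦌), i < k → p ≫ SimplexCategory.δ i = q ≫ SimplexCategory.δ k →
      v ⦋m⦌ le_rfl (SimplexCategory.δ i) ≫ K.map p.op = v ⦋m⦌ le_rfl (SimplexCategory.δ k) ≫ K.map q.op by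
    rcases lt_trichotomy i k with h | h | h
    · exact key i k p q h hpq
    · subst h
      rw [(cancel_mono _).1 hpq]
    · exact (key k i q p h hpq.symm).symm
  intro i k p q hik hpq
  cases m with
  | zero =>
    have h : (Fin.succAbove i) (p.toOrderHom 0) = (Fin.succAbove k) (q.toOrderHom 0) :=
      congrArg (fun t : A ⟶ ⦋0 + 1⦌ => t.toOrderHom 0) hpq
    refine absurd ?_ hik.ne
    refine Fin.succAbove_left_injective (funext fun x => ?_)
    rwa [show p.toOrderHom 0 = x from Subsingleton.elim (α := Fin 1) _ _,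
      show q.toOrderHom 0 = x from Subsingleton.elim (α := Fin 1) _ _] at h
  | succ M =>
    obtain ⟨k₀, rfl⟩ := Fin.exists_succ_eq.2 (show k ≠ 0 from fun h => by
      rw [h] at hik; exact (Nat.not_lt_zero _ hik))
    obtain ⟨i₀, rfl⟩ := Fin.exists_castSucc_eq.2 (show i ≠ Fin.last (M + 2) from fun h => by
      rw [h] at hik; exact not_le_of_gt hik (Fin.le_last _))
    have hle : i₀ ≤ k₀ := Fin.castSucc_lt_succ_iff.1 hik
    have hmiss : ∀ l, q.toOrderHom l ≠ i₀ := fun l hl => by
      have h1 : (q ≫ SimplexCategory.δ k₀.succ).toOrderHom l = i₀.castSucc := by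
        show (Fin.succAbove k₀.succ) (q.toOrderHom l) = _
        rw [hl]
        exact Fin.succAbove_of_castSucc_lt _ _ hik
      rw [← hpq] at h1
      exact Fin.succAbove_ne i₀.castSucc (p.toOrderHom l) h1
    have hq := SimplexCategory.factor_δ_spec (m := A.len) q i₀ hmiss
    have hp : p = SimplexCategory.factor_δ (m := A.len) q i₀ ≫ SimplexCategory.δ k₀ := by
      rw [← cancel_mono (SimplexCategory.δ i₀.castSucc), hpq, Category.assoc, ← SimplexCategory.δ_comp_δ hle,
        ← Category.assoc, hq]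
    rw [← hq, hp, op_comp, op_comp, K.map_comp, K.map_comp, ← Category.assoc, ← Category.assoc,
      hv _ ⦋M⦌ _ (Nat.le_succ M), hv _ ⦋M⦌ _ (Nat.le_succ M)]
    exact congrArg (fun t => v ⦋M⦌ (Nat.le_succ M) t ≫ _) (SimplexCategory.δ_comp_δ hle).symm

include hv in
/-- A sphere extends to all simplices of the boundary. -/
theorem exists_sphere_extension :
    ∃ w : ∀ (A : SimplexCategory) (σ : A ⟶ ⦋m + 1⦌), ¬ Function.Surjective σ.toOrderHom → (T ⟶ K.obj (op A)),
      (∀ (A A' : SimplexCategory) (β : A' ⟶ A) (σ : A ⟶ ⦋m + 1⦌) (h : ¬ Function.Surjective σ.toOrderHom)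
        (h' : ¬ Function.Surjective (β ≫ σ).toOrderHom), w A σ h ≫ K.map β.op = w A' (β ≫ σ) h') ∧
      ∀ (a : SimplexCategory) (ha : a.len ≤ m) (θ : a ⟶ ⦋m + 1⦌), w a θ (not_surjective_of_le ha θ) = v a ha θ := by
  let fac : ∀ {A : SimplexCategory} (σ : A ⟶ ⦋m + 1⦌) (k : Fin (m + 2)), A ⟶ ⦋m⦌ := fun {A} σ k =>
    SimplexCategory.factor_δ (m := A.len) σ k
  have hfac : ∀ {A : SimplexCategory} (σ : A ⟶ ⦋m + 1⦌) (k : Fin (m + 2)), (∀ l, σ.toOrderHom l ≠ k) →
      fac σ k ≫ SimplexCategory.δ k = σ := fun {A} σ k hk => SimplexCategory.factor_δ_spec (m := A.len) σ k hk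
  refine ⟨fun A σ h => v ⦋m⦌ le_rfl (SimplexCategory.δ (exists_omitted h).choose) ≫
    K.map (fac σ (exists_omitted h).choose).op, fun A A' β σ h h' => ?_, fun a ha θ => ?_⟩
  · rw [Category.assoc, ← K.map_comp, ← op_comp]
    refine sphere_indep K v hv _ _ _ _ ?_
    rw [Category.assoc, hfac σ _ (exists_omitted h).choose_spec, hfac _ _ (exists_omitted h').choose_spec]
  · show v _ _ _ ≫ K.map _ = _
    rw [hv]
    exact congrArg (v a ha) (hfac θ _ (exists_omitted (not_surjective_of_le ha θ)).choose_spec)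

end Extend

variable {D : Type u} [SmallCategory D]

theorem φ_congr {X Y : FormalCoproduct.{u} D} (f : X ⟶ Y) {i i' : X.I} (h : i = i') :
    eqToHom (congrArg X.obj h) ≫ f.φ i' = f.φ i ≫ eqToHom (by rw [h]) := by
  subst h
  simp

section Filler

variable (K : SimplicialObject (FormalCoproduct.{u} D)) {U W : D} (g : W ⟶ U) {P : SimplexCategory}
  (w : ∀ (A : SimplexCategory) (σ : A ⟶ P), ¬ Function.Surjective σ.toOrderHom →
    ((FormalCoproduct.incl D).obj U ⟶ K.obj (op A)))
  (hw : ∀ (A A' : SimplexCategory) (β : A' ⟶ A) (σ : A ⟶ P) (h : ¬ Function.Surjective σ.toOrderHom)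
    (h' : ¬ Function.Surjective (β ≫ σ).toOrderHom), w A σ h ≫ K.map β.op = w A' (β ≫ σ) h')

open scoped Classical in
/-- The objects of the filler. -/
def fillO (j : Over P) : D :=
  if h : Function.Surjective j.hom.toOrderHom then W
  else (K.obj (op j.left)).obj ((w j.left j.hom h).f PUnit.unit)

theorem fillO_pos {j : Over P} (h : Function.Surjective j.hom.toOrderHom) : fillO K (W := W) w j = W := by
  rw [fillO, dif_pos h]

theorem fillO_neg {j : Over P} (h : ¬ Function.Surjective j.hom.toOrderHom) :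
    fillO K (W := W) w j = (K.obj (op j.left)).obj ((w j.left j.hom h).f PUnit.unit) := by
  rw [fillO, dif_neg h]

/-- The map from the new top. -/
def fillT (j : Over P) : W ⟶ fillO K (W := W) w j :=
  open scoped Classical in
  if h : Function.Surjective j.hom.toOrderHom then eqToHom (fillO_pos K w h).symm
  else g ≫ (w j.left j.hom h).φ PUnit.unit ≫ eqToHom (fillO_neg K w h).symm

theorem surjective_of_hom {j j' : Over P} (β : j' ⟶ j) (h : Function.Surjective j'.hom.toOrderHom) :
    Function.Surjective j.hom.toOrderHom := fun y => by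
  obtain ⟨x, hx⟩ := h y
  refine ⟨β.left.toOrderHom x, ?_⟩
  rw [← Over.w β] at hx
  exact hx

include hw in
theorem w_congr {j j' : Over P} (β : j' ⟶ j) (h : ¬ Function.Surjective j.hom.toOrderHom)
    (h' : ¬ Function.Surjective j'.hom.toOrderHom) :
    w j.left j.hom h ≫ K.map β.left.op = w j'.left j'.hom h' := by
  have h'' : ¬ Function.Surjective (β.left ≫ j.hom).toOrderHom := by rwa [Over.w β]
  rw [hw _ _ β.left j.hom h h'']
  congr 1
  exact Over.w β

include hw in
theorem w_index {j j' : Over P} (β : j' ⟶ j) (h : ¬ Function.Surjective j.hom.toOrderHom)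
    (h' : ¬ Function.Surjective j'.hom.toOrderHom) :
    (K.map β.left.op).f ((w j.left j.hom h).f PUnit.unit) = (w j'.left j'.hom h').f PUnit.unit :=
  congrArg (fun t => t.f PUnit.unit) (w_congr K w hw β h h')

open scoped Classical in
/-- The maps of the filler. -/
def fillM {j j' : Over P} (β : j' ⟶ j) : fillO K (W := W) w j ⟶ fillO K (W := W) w j' :=
  if h : Function.Surjective j.hom.toOrderHom then eqToHom (fillO_pos K w h) ≫ fillT K g w j'
  else
    eqToHom (fillO_neg K w h) ≫ (K.map β.left.op).φ _ ≫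
      eqToHom (congrArg (K.obj (op j'.left)).obj (w_index K w hw β h fun h' => h (surjective_of_hom β h'))) ≫
      eqToHom (fillO_neg K w fun h' => h (surjective_of_hom β h')).symm

include hw in
theorem fillT_M {j j' : Over P} (β : j' ⟶ j) : fillT K g w j ≫ fillM K g w hw β = fillT K g w j' := by
  classical
  by_cases h : Function.Surjective j.hom.toOrderHom
  · simp [fillT, fillM, dif_pos h]
  · have h' : ¬ Function.Surjective j'.hom.toOrderHom := fun h' => h (surjective_of_hom β h')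
    obtain ⟨hf, hφ⟩ := (FormalCoproduct.hom_ext_iff' _ _).1 (w_congr K w hw β h h') PUnit.unit
    have hφ' : (w j.left j.hom h).φ PUnit.unit ≫ (K.map β.left.op).φ ((w j.left j.hom h).f PUnit.unit) ≫
        eqToHom (congrArg _ hf) = (w j'.left j'.hom h').φ PUnit.unit := (Category.assoc _ _ _).symm.trans hφ
    rw [fillT, fillT, fillM, dif_neg h, dif_neg h, dif_neg h', ← hφ']
    simp
    erw [Category.assoc, Category.assoc, eqToHom_trans]

include hw in
theorem fillM_comp {j j' j'' : Over P} (β : j' ⟶ j) (β' : j'' ⟶ j') :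
    fillM K g w hw β ≫ fillM K g w hw β' = fillM K g w hw (β' ≫ β) := by
  classical
  by_cases h : Function.Surjective j.hom.toOrderHom
  · rw [fillM, dif_pos h, Category.assoc, fillT_M, fillM, dif_pos h]
  · have h' : ¬ Function.Surjective j'.hom.toOrderHom := fun h' => h (surjective_of_hom β h')
    simp only [fillM, dif_neg h, dif_neg h', Category.assoc, eqToHom_trans_assoc, eqToHom_refl, Category.id_comp]
    rw [reassoc_of% (φ_congr (K.map β'.left.op) (w_index K w hw β h h'))]
    have hc : K.map (β' ≫ β).left.op = K.map β.left.op ≫ K.map β'.left.op := by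
      rw [← K.map_comp, ← op_comp]; rfl
    obtain ⟨hf, hφ⟩ := (FormalCoproduct.hom_ext_iff' _ _).1 hc ((w j.left j.hom h).f PUnit.unit)
    have hφ' : (K.map β.left.op).φ ((w j.left j.hom h).f PUnit.unit) ≫
        (K.map β'.left.op).φ ((K.map β.left.op).f ((w j.left j.hom h).f PUnit.unit)) =
        (K.map (β' ≫ β).left.op).φ ((w j.left j.hom h).f PUnit.unit) ≫ eqToHom (congrArg _ hf) := hφ.symm
    rw [reassoc_of% hφ']
    simp

include hw in
theorem fillM_id (j : Over P) : fillM K g w hw (𝟙 j) = 𝟙 _ := by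
  classical
  by_cases h : Function.Surjective j.hom.toOrderHom
  · simp [fillM, fillT, dif_pos h]
  · obtain ⟨hf, hφ⟩ := (FormalCoproduct.hom_ext_iff' _ _).1 (K.map_id (op j.left)) ((w j.left j.hom h).f PUnit.unit)
    have hφ' : (K.map (𝟙 j : j ⟶ j).left.op).φ ((w j.left j.hom h).f PUnit.unit) ≫ eqToHom (congrArg _ hf) = 𝟙 _ := hφ
    rw [fillM, dif_neg h, reassoc_of% hφ']
    simp

/-- The filler. -/
def filler : (Over P)ᵒᵖ ⥤ D where
  obj j := fillO K (W := W) w j.unop
  map β := fillM K g w hw β.unop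
  map_id j := fillM_id K g w hw j.unop
  map_comp β β' := (fillM_comp K g w hw β.unop β'.unop).symm

end Filler

variable {B : Set D}

theorem map_conj {C' : Type*} [Category C'] (F : C' ⥤ D) {X X' Y Y' : C'} (f : X ⟶ Y) (hx : X' = X) (hy : Y = Y')
    (h1 : F.obj X' = F.obj X) (h2 : F.obj Y = F.obj Y') :
    eqToHom h1 ≫ F.map f ≫ eqToHom h2 = F.map (eqToHom hx ≫ f ≫ eqToHom hy) := by
  subst hx hy
  simp

theorem uφ_eq {A A' A'' : SimplexCategory} (θ : A' ⟶ A) (β : A'' ⟶ A') (d : UIdx B A) (e : UIdx B A')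
    (he : upull θ d = e) (e' : UIdx B A'') (he' : upull (β ≫ θ) d = e') (h1 : d.1.obj (op (Over.mk θ)) = utop e)
    (h2 : utop (upull β e) = d.1.obj (op (Over.mk (β ≫ θ)))) :
    eqToHom h1 ≫ uφ β e ≫ eqToHom h2 =
      d.1.map (Quiver.Hom.op (Over.homMk β : Over.mk (β ≫ θ) ⟶ Over.mk θ)) := by
  subst he
  have hA : (Over.map θ).obj (Over.mk (𝟙 A')) = Over.mk θ :=
    congrArg Over.mk (Category.id_comp θ)
  have hB : (Over.map θ).obj ((Over.map β).obj (Over.mk (𝟙 A''))) = Over.mk (β ≫ θ) := by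
    show Over.mk ((𝟙 A'' ≫ β) ≫ θ) = _
    rw [Category.id_comp]
  refine (map_conj d.1 ((Over.map θ).op.map (Quiver.Hom.op (Over.homMk β)))
    (congrArg op hA.symm) (congrArg op hB) h1 h2).trans ?_
  exact congrArg d.1.map (Quiver.Hom.unop_inj (Over.OverMorphism.ext (by simp)))

/-- Spheres are filled by any object of the class over the point. -/
theorem exists_fill {U W : D} (hW : W ∈ B) (g : W ⟶ U) {m : ℕ}
    (v : ∀ a : SimplexCategory, a.len ≤ m → (a ⟶ ⦋m + 1⦌) → ((FormalCoproduct.incl D).obj U ⟶ (UObj B).obj (op a)))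
    (hv : ∀ (a b : SimplexCategory) (ha : a.len ≤ m) (hb : b.len ≤ m) (β : b ⟶ a) (θ : a ⟶ ⦋m + 1⦌),
      v a ha θ ≫ (UObj B).map β.op = v b hb (β ≫ θ)) :
    ∃ e : (FormalCoproduct.incl D).obj W ⟶ (UObj B).obj (op ⦋m + 1⦌),
      ∀ (a : SimplexCategory) (ha : a.len ≤ m) (θ : a ⟶ ⦋m + 1⦌),
        e ≫ (UObj B).map θ.op = (FormalCoproduct.incl D).map g ≫ v a ha θ := by
  classical
  obtain ⟨w, hw, hwv⟩ := exists_sphere_extension (UObj B) v hv
  let F : UIdx B ⦋m + 1⦌ := ⟨filler (UObj B) g w hw, fun j => by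
    show fillO (UObj B) w j.unop ∈ B
    by_cases h : Function.Surjective j.unop.hom.toOrderHom
    · rw [fillO_pos _ _ h]; exact hW
    · rw [fillO_neg _ _ h]; exact UObj_mem _ _⟩
  have hid : Function.Surjective (Over.mk (𝟙 ⦋m + 1⦌)).hom.toOrderHom := fun y => ⟨y, rfl⟩
  refine ⟨{ f := fun _ => F, φ := fun _ => eqToHom (fillO_pos (UObj B) w hid).symm }, fun a ha θ => ?_⟩
  let d : UIdx B a := (v a ha θ).f PUnit.unit
  have hidx : ∀ (j : Over a) (h : ¬ Function.Surjective (j.hom ≫ θ).toOrderHom),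
      upull j.hom d = (w j.left (j.hom ≫ θ) h).f PUnit.unit := fun j h => by
    rw [← hw a j.left j.hom θ (not_surjective_of_le ha θ) h, hwv a ha θ]
    rfl
  have hns : ∀ j : Over a, ¬ Function.Surjective (j.hom ≫ θ).toOrderHom := fun j hj =>
    not_surjective_of_le ha θ fun y => by
      obtain ⟨x, hx⟩ := hj y
      exact ⟨j.hom.toOrderHom x, hx⟩
  have hobj : ∀ j : Over a, d.1.obj (op j) = utop (B := B) ((w j.left (j.hom ≫ θ) (hns j)).f PUnit.unit) := fun j => by
    have e1 : (Over.map j.hom).obj (Over.mk (𝟙 j.left)) = j := congrArg Over.mk (Category.id_comp j.hom)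
    exact (congrArg (fun t => d.1.obj (op t)) e1).symm.trans (congrArg utop (hidx j (hns j)))
  have hO : ∀ j : Over a, F.1.obj (op ((Over.map θ).obj j)) = d.1.obj (op j) := fun j =>
    (fillO_neg (UObj B) w (j := (Over.map θ).obj j) (hns j)).trans (hobj j).symm
  have key : upull θ F = d := by
    refine Subtype.ext ?_
    refine CategoryTheory.Functor.ext (fun j => hO j.unop) fun j j' β => ?_
    obtain ⟨j⟩ := j
    obtain ⟨j'⟩ := j'
    obtain ⟨β, rfl⟩ : ∃ β' : j' ⟶ j, β'.op = β := ⟨β.unop, rfl⟩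
    show fillM (UObj B) g w hw ((Over.map θ).map β) = _
    rw [fillM, dif_neg (show ¬ Function.Surjective ((Over.map θ).obj j).hom.toOrderHom from hns j)]
    have hb : Over.mk (β.left ≫ j.hom) = j' := congrArg Over.mk (Over.w β)
    have h := uφ_eq j.hom β.left d ((w j.left (j.hom ≫ θ) (hns j)).f PUnit.unit) (hidx j (hns j))
      ((w j'.left (j'.hom ≫ θ) (hns j')).f PUnit.unit) (by rw [← hidx j' (hns j'), Over.w β])
      (hobj j)
      (by
        refine (congrArg utop ?_).trans (hobj (Over.mk (β.left ≫ j.hom))).symm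
        rw [← hidx j (hns j), ← upull_comp]
        exact hidx (Over.mk (β.left ≫ j.hom)) (hns _))
    have hβ : d.1.map β.op = d.1.map (Quiver.Hom.op (Over.homMk β.left : Over.mk (β.left ≫ j.hom) ⟶ j)) ≫
        eqToHom (congrArg (fun t => d.1.obj (op t)) hb) := by
      rw [show eqToHom _ = d.1.map (eqToHom (congrArg op hb)) from (eqToHom_map d.1 (congrArg op hb)).symm,
        ← d.1.map_comp]
      exact congrArg d.1.map (Quiver.Hom.unop_inj (Over.OverMorphism.ext (by simp)))
    have h' : d.1.map (Quiver.Hom.op (Over.homMk β.left : Over.mk (β.left ≫ j.hom) ⟶ j)) =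
        eqToHom (hobj j) ≫ uφ β.left ((w j.left (j.hom ≫ θ) (hns j)).f PUnit.unit) ≫ eqToHom _ := h.symm
    rw [hβ, h']
    simp only [Category.assoc, eqToHom_trans, eqToHom_trans_assoc]
    rfl
  refine (FormalCoproduct.hom_ext_iff' _ _).2 fun _ => ⟨key, ?_⟩
  show (eqToHom (fillO_pos (UObj B) w hid).symm ≫
    fillM (UObj B) g w hw (Over.homMk θ : (Over.map θ).obj (Over.mk (𝟙 a)) ⟶ Over.mk (𝟙 ⦋m + 1⦌))) ≫ eqToHom _ =
      g ≫ (v a ha θ).φ PUnit.unit
  rw [fillM, dif_pos (show Function.Surjective (Over.mk (𝟙 ⦋m + 1⦌)).hom.toOrderHom from hid)]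
  have hns1 : ¬ Function.Surjective ((Over.map θ).obj (Over.mk (𝟙 a))).hom.toOrderHom := hns (Over.mk (𝟙 a))
  simp only [fillT, dif_neg hns1, Category.assoc, eqToHom_trans, eqToHom_trans_assoc]
  have e2 : w a (𝟙 a ≫ θ) (hns (Over.mk (𝟙 a))) = v a ha θ := by
    rw [← hwv a ha θ]
    congr 1
    exact Category.id_comp θ
  obtain ⟨hf, hφ⟩ := (FormalCoproduct.hom_ext_iff' _ _).1 e2 PUnit.unit
  rw [← hφ]
  simp
  rfl

end HypercovLib
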