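import Groth.Agent.HypercovLib.HomotObj
import Groth.Agent.HypercovLib.Refine
import Groth.Agent.HypercovLib.UnivFill
import Mathlib

/-! # The homotopy equalizer of hypercoverings is a hypercovering -/

set_option autoImplicit false
set_option backward.isDefEq.respectTransparency false
universe u v w

open CategoryTheory CategoryTheory.Limits Opposite Simplicial

noncomputable section

namespace HypercovLib
namespace Prism

theorem side_injective {p : ℕ} {i j : Fin (p + 1)} (h : side i = side j) : i = j := by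
  have key : ∀ i j : Fin (p + 1), side i = side j → i.val ≤ j.val := fun i j h => by
    have h' := congrArg (fun f : ⦋p + 1⦌ ⟶ ⦋1⦌ => (f.toOrderHom (i.castSucc : Fin (p + 2))).val) h
    simp only [val_side, Fin.val_castSucc] at h'
    simp only [le_refl, if_true] at h'
    by_contra hc
    rw [if_neg hc] at h'
    exact absurd h' (by omega)
  exact Fin.ext (le_antisymm (key i j h) (key j i h.symm))

/-- A simplex of the boundary of a prism. -/
def Bd {A P : SimplexCategory} (σ : A ⟶ P) (ε : A ⟶ ⦋1⦌) : Prop :=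
  ¬ Function.Surjective σ.toOrderHom ∨ ∃ c, ε = SimplexCategory.const A ⦋1⦌ c

theorem not_surjective_comp {A A' P : SimplexCategory} (β : A' ⟶ A) {σ : A ⟶ P}
    (h : ¬ Function.Surjective σ.toOrderHom) : ¬ Function.Surjective (β ≫ σ).toOrderHom := fun hs => h fun y => by
  obtain ⟨x, hx⟩ := hs y
  exact ⟨β.toOrderHom x, hx⟩

theorem Bd.precomp {A A' P : SimplexCategory} {σ : A ⟶ P} {ε : A ⟶ ⦋1⦌} (h : Bd σ ε) (β : A' ⟶ A) :
    Bd (β ≫ σ) (β ≫ ε) := by
  rcases h with h | ⟨c, rfl⟩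
  · exact Or.inl (not_surjective_comp β h)
  · exact Or.inr ⟨c, rfl⟩

theorem exists_side {A : SimplexCategory} {m : ℕ} (hA : A.len ≤ m + 1) {σ : A ⟶ ⦋m + 1⦌} {ε : A ⟶ ⦋1⦌}
    (h : ¬ Bd σ ε) : ∃ i : Fin (m + 1), σ ≫ side i = ε := by
  classical
  obtain ⟨hs, hc⟩ := not_or.1 h
  have hs : Function.Surjective σ.toOrderHom := not_not.1 hs
  have hcard := Fintype.card_le_of_surjective σ.toOrderHom hs
  simp only [Fintype.card_fin, SimplexCategory.len_mk] at hcard
  have hinj : Function.Injective σ.toOrderHom :=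
    ((Fintype.bijective_iff_surjective_and_card _).2 ⟨hs, by
      simp only [Fintype.card_fin, SimplexCategory.len_mk]; omega⟩).1
  have hmono : StrictMono σ.toOrderHom := σ.toOrderHom.monotone.strictMono_of_injective hinj
  have hne : ∀ c : Fin 2, ∃ l, (ε.toOrderHom l).val ≠ c.val := fun c => by
    by_contra hall
    exact hc ⟨c, hom_ext fun l => by
      by_contra hl
      exact hall ⟨l, hl⟩⟩
  obtain ⟨l1, hl1⟩ := hne 0
  obtain ⟨l0, hl0⟩ := hne 1
  let S := Finset.univ.filter fun l : Fin (A.len + 1) => (ε.toOrderHom l).val = 0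
  have hS : S.Nonempty := ⟨l0, Finset.mem_filter.2 ⟨Finset.mem_univ _, by
    have := (ε.toOrderHom l0).isLt
    change (ε.toOrderHom l0).val < 2 at this
    simp at hl0
    omega⟩⟩
  let lm := S.max' hS
  have hlm : (ε.toOrderHom lm).val = 0 := (Finset.mem_filter.1 (S.max'_mem hS)).2
  have hlt : lm < l1 := by
    by_contra hge
    have : (ε.toOrderHom l1).val ≤ (ε.toOrderHom lm).val := ε.toOrderHom.monotone (not_lt.1 hge)
    simp at hl1
    omega
  have hi : (σ.toOrderHom lm).val < m + 1 := by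
    have h1 : (σ.toOrderHom lm).val < (σ.toOrderHom l1).val := hmono hlt
    have h2 : (σ.toOrderHom l1).val < m + 1 + 1 := (σ.toOrderHom l1).isLt
    omega
  refine ⟨⟨_, hi⟩, hom_ext fun l => ?_⟩
  show ((side (⟨_, hi⟩ : Fin (m + 1))).toOrderHom (σ.toOrderHom l)).val = _
  rw [val_side]
  show (if (σ.toOrderHom l).val ≤ (σ.toOrderHom lm).val then 0 else 1) = _
  rcases le_or_gt l lm with hl | hl
  · rw [if_pos (Fin.le_def.1 (σ.toOrderHom.monotone hl))]
    have : (ε.toOrderHom l).val ≤ (ε.toOrderHom lm).val := ε.toOrderHom.monotone hl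
    omega
  · rw [if_neg (not_le.2 (Fin.lt_def.1 (hmono hl)))]
    have h1 : (ε.toOrderHom l).val < 2 := (ε.toOrderHom l).isLt
    have h2 : (ε.toOrderHom l).val ≠ 0 := fun h0 =>
      absurd (S.le_max' l (Finset.mem_filter.2 ⟨Finset.mem_univ _, h0⟩)) (not_le.2 hl)
    omega

section Value

variable {E : Type w} [Category.{v} E] [HasFiniteLimits E] {K L : SimplicialObject E} (a b : K ⟶ L)

theorem map_val_hπ {p q : ℕ} (τ : ⦋q⦌ ⟶ ⦋p⦌) {A : SimplexCategory} (σ : A ⟶ ⦋q⦌) (ε : A ⟶ ⦋1⦌) :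
    (hEq a b).map τ.op ≫ val (hπ a b q) σ ε = val (hπ a b p) (σ ≫ τ) ε := by
  rw [comp_val, ← val_pull (glued_hπ a b p) τ]
  exact congrArg (fun h => val (L := L) h σ ε) (funext fun j => map_hπ a b τ j)

theorem exists_boundary_value {T : E} {m : ℕ} (x : T ⟶ K.obj (op ⦋m + 1⦌))
    (v : ∀ A : SimplexCategory, A.len ≤ m → (A ⟶ ⦋m + 1⦌) → (T ⟶ (hEq a b).obj (op A)))
    (hv : ∀ (A A' : SimplexCategory) (hA : A.len ≤ m) (hA' : A'.len ≤ m) (β : A' ⟶ A) (θ : A ⟶ ⦋m + 1⦌),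
      v A hA θ ≫ (hEq a b).map β.op = v A' hA' (β ≫ θ))
    (hx : ∀ (A : SimplexCategory) (hA : A.len ≤ m) (θ : A ⟶ ⦋m + 1⦌),
      x ≫ K.map θ.op = v A hA θ ≫ (hFst a b).app (op A)) :
    ∃ G : ∀ (A : SimplexCategory), (A ⟶ ⦋m + 1⦌) → (A ⟶ ⦋1⦌) → (T ⟶ L.obj (op A)),
      (∀ (A A' : SimplexCategory) (β : A' ⟶ A) (σ : A ⟶ ⦋m + 1⦌) (ε : A ⟶ ⦋1⦌), Bd σ ε →
        G A σ ε ≫ L.map β.op = G A' (β ≫ σ) (β ≫ ε)) ∧
      (∀ (A : SimplexCategory) (σ : A ⟶ ⦋m + 1⦌), G A σ (SimplexCategory.const A ⦋1⦌ 0) = x ≫ K.map σ.op ≫ a.app (op A) ∧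
        G A σ (SimplexCategory.const A ⦋1⦌ 1) = x ≫ K.map σ.op ≫ b.app (op A)) ∧
      ∀ (p q : ℕ) (hp : p ≤ m) (θ : ⦋p⦌ ⟶ ⦋m + 1⦌) (σ : ⦋q⦌ ⟶ ⦋p⦌) (ε : ⦋q⦌ ⟶ ⦋1⦌),
        G ⦋q⦌ (σ ≫ θ) ε = v ⦋p⦌ hp θ ≫ val (hπ a b p) σ ε := by
  classical
  obtain ⟨w, hw, hwv⟩ := exists_sphere_extension (hEq a b) v hv
  have hwx : ∀ (A : SimplexCategory) (σ : A ⟶ ⦋m + 1⦌) (h : ¬ Function.Surjective σ.toOrderHom),
      w A σ h ≫ (hFst a b).app (op A) = x ≫ K.map σ.op := fun A σ h => by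
    obtain ⟨k, hk⟩ := exists_omitted h
    have hf := SimplexCategory.factor_δ_spec (m := A.len) σ k hk
    have e := hw ⦋m⦌ A (SimplexCategory.factor_δ (m := A.len) σ k) (SimplexCategory.δ k)
      (not_surjective_of_le (m := m) (A := ⦋m⦌) le_rfl _) (by rwa [hf])
    rw [hwv ⦋m⦌ le_rfl] at e
    have e' : w A σ h = v ⦋m⦌ le_rfl (SimplexCategory.δ k) ≫
        (hEq a b).map (SimplexCategory.factor_δ (m := A.len) σ k).op := by
      rw [e]
      congr 1
      exact hf.symm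
    rw [e', Category.assoc, (hFst a b).naturality, ← Category.assoc, ← hx, Category.assoc, ← K.map_comp, ← op_comp]
    exact congrArg (fun t => x ≫ K.map t.op) hf
  let G : ∀ (A : SimplexCategory), (A ⟶ ⦋m + 1⦌) → (A ⟶ ⦋1⦌) → (T ⟶ L.obj (op A)) := fun A σ ε =>
    if h : ¬ Function.Surjective σ.toOrderHom then w A σ h ≫ val (hπ a b A.len) (𝟙 A) ε
    else if ε = SimplexCategory.const A ⦋1⦌ 0 then x ≫ K.map σ.op ≫ a.app (op A)
    else x ≫ K.map σ.op ≫ b.app (op A)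
  have hconst : ∀ (A : SimplexCategory) (σ : A ⟶ ⦋m + 1⦌), G A σ (SimplexCategory.const A ⦋1⦌ 0) = x ≫ K.map σ.op ≫ a.app (op A) ∧
      G A σ (SimplexCategory.const A ⦋1⦌ 1) = x ≫ K.map σ.op ≫ b.app (op A) := fun A σ => by
    by_cases h : ¬ Function.Surjective σ.toOrderHom
    · simp only [G, dif_pos h]
      refine ⟨?_, ?_⟩
      · erw [val_hπ_zero a b A.len, ← Category.assoc, hwx A σ h, Category.assoc]
      · erw [val_hπ_one a b A.len, ← Category.assoc, hwx A σ h, Category.assoc]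
    · simp only [G, dif_neg h, if_true]
      refine ⟨trivial, if_neg fun h01 => ?_⟩
      exact absurd (congrArg (fun f : A ⟶ ⦋1⦌ => f.toOrderHom 0) h01) (show ((1 : Fin 2) ≠ 0) by decide)
  refine ⟨G, fun A A' β σ ε hb => ?_, hconst, fun p q hp θ σ ε => ?_⟩
  · by_cases h : ¬ Function.Surjective σ.toOrderHom
    · have h' := not_surjective_comp β h
      simp only [G, dif_pos h, dif_pos h']
      rw [← hw A A' β σ h h', Category.assoc, Category.assoc]
      refine congrArg (w A σ h ≫ ·) ?_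
      erw [map_val_hπ a b (p := A.len) (q := A'.len) β (𝟙 A') (β ≫ ε), val_map (glued_hπ a b A.len)]
      simp
    · obtain ⟨c, rfl⟩ := hb.resolve_left h
      show _ = G A' (β ≫ σ) (SimplexCategory.const A' ⦋1⦌ c)
      fin_cases c
      · refine Eq.trans (congrArg (· ≫ L.map β.op) (hconst A σ).1) (Eq.trans ?_ (hconst A' (β ≫ σ)).1.symm)
        rw [Category.assoc, Category.assoc, ← a.naturality, op_comp, K.map_comp, Category.assoc]
      · refine Eq.trans (congrArg (· ≫ L.map β.op) (hconst A σ).2) (Eq.trans ?_ (hconst A' (β ≫ σ)).2.symm)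
        rw [Category.assoc, Category.assoc, ← b.naturality, op_comp, K.map_comp, Category.assoc]
  · have h : ¬ Function.Surjective θ.toOrderHom := not_surjective_of_le (m := m) (A := ⦋p⦌) hp θ
    have h' : ¬ Function.Surjective (σ ≫ θ).toOrderHom := not_surjective_comp σ h
    simp only [G, dif_pos h']
    rw [← hw ⦋p⦌ ⦋q⦌ σ θ h h', hwv ⦋p⦌ hp, Category.assoc]
    refine congrArg (v ⦋p⦌ hp θ ≫ ·) ?_
    erw [map_val_hπ a b (p := p) (q := q) σ (𝟙 _) ε]
    rw [Category.id_comp]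

end Value

end Prism

section Fill

open Prism

variable {C : Type u} [SmallCategory C] [HasPullbacks C] {X : C} (J : GrothendieckTopology C)
  {K L : SimplicialObject (FormalCoproduct.{u} (Over X))} (a b : K ⟶ L)

theorem hEq_fills {m : ℕ} (hK : Fills J K m) (hL : Fills J L m) (hL' : Fills J L (m + 1)) :
    Fills J (hEq a b) m := by
  classical
  intro U v hv
  obtain ⟨R, hR, hx⟩ := hK U (fun A hA θ => v A hA θ ≫ (hFst a b).app (op A)) fun A A' hA hA' β θ => by
    rw [Category.assoc, ← (hFst a b).naturality, ← Category.assoc, hv A A' hA hA' β θ]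
  choose ex hex using hx
  have hG := fun (V : Over X) (g : V ⟶ U) (hg : R g) =>
    exists_boundary_value a b (ex V g hg) (fun A hA θ => Pt.res g (v A hA θ))
      (fun A A' hA hA' β θ => (Category.assoc _ _ _).trans (congrArg (_ ≫ ·) (hv A A' hA hA' β θ)))
      (fun A hA θ => (hex V g hg A hA θ).trans (Category.assoc _ _ _).symm)
  choose G hGnat hGc hGv using hG
  have hT : ∀ (V : Over X) (g : V ⟶ U) (hg : R g), ∃ S ∈ (J.over X) V, ∀ (W : Over X) (r : W ⟶ V), S r →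
      ∀ i : Fin (m + 1), ∃ z : Pt W (L.obj (op ⦋m + 1⦌)), ∀ (A : SimplexCategory) (_ : A.len ≤ m) (θ : A ⟶ ⦋m + 1⦌),
        z ≫ L.map θ.op = Pt.res r (G V g hg A θ (θ ≫ side i)) := fun V g hg => by
    choose T hT hfill using fun i : Fin (m + 1) => hL V (fun A _ θ => G V g hg A θ (θ ≫ side i))
      fun A A' hA hA' β θ => by
        rw [hGnat V g hg A A' β θ _ (Or.inl (not_surjective_of_le hA θ)), Category.assoc]
    obtain ⟨S, hS, hle⟩ := exists_inter_covering' (J.over X) Finset.univ T fun i _ => hT i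
    exact ⟨S, hS, fun W r hr i => hfill i W r (hle i (Finset.mem_univ i) r hr)⟩
  choose S hS hz using hT
  choose z hz using hz
  have hG1 : ∀ (V : Over X) (g : V ⟶ U) (hg : R g) (W : Over X) (r : W ⟶ V) (hr : S V g hg r),
      ∃ G1 : ∀ (A : SimplexCategory), (A ⟶ ⦋m + 1⦌) → (A ⟶ ⦋1⦌) → Pt W (L.obj (op A)),
        (∀ (A A' : SimplexCategory) (β : A' ⟶ A) (σ : A ⟶ ⦋m + 1⦌) (ε : A ⟶ ⦋1⦌), A.len ≤ m + 1 → A'.len ≤ m + 1 →
          G1 A σ ε ≫ L.map β.op = G1 A' (β ≫ σ) (β ≫ ε)) ∧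
        ∀ (A : SimplexCategory) (σ : A ⟶ ⦋m + 1⦌) (ε : A ⟶ ⦋1⦌), Bd σ ε → G1 A σ ε = Pt.res r (G V g hg A σ ε) := by
    intro V g hg W r hr
    let G1 : ∀ (A : SimplexCategory), (A ⟶ ⦋m + 1⦌) → (A ⟶ ⦋1⦌) → Pt W (L.obj (op A)) := fun A σ ε =>
      if Bd σ ε then Pt.res r (G V g hg A σ ε)
      else if h : ∃ i : Fin (m + 1), σ ≫ side i = ε then z V g hg W r hr h.choose ≫ L.map σ.op
      else Pt.res r (G V g hg A σ ε)
    refine ⟨G1, fun A A' β σ ε hA hA' => ?_, fun A σ ε h => by simp only [G1, if_pos h]⟩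
    by_cases h : Bd σ ε
    · simp only [G1, if_pos h, if_pos (h.precomp β)]
      rw [Category.assoc, hGnat V g hg A A' β σ ε h]
    · have hi := exists_side hA h
      simp only [G1, if_neg h, dif_pos hi]
      rw [Category.assoc, ← L.map_comp, ← op_comp]
      have hiε := hi.choose_spec
      generalize hi.choose = i at hiε ⊢
      subst hiε
      by_cases hs : Function.Surjective (β ≫ σ).toOrderHom
      · have hnb : ¬ Bd (β ≫ σ) (β ≫ σ ≫ side i) := by
          rintro (h' | ⟨c, hc⟩)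
          · exact h' hs
          · obtain ⟨l0, hl0⟩ := hs 0
            obtain ⟨l1, hl1⟩ := hs (Fin.last (m + 1))
            have e0 := congrArg (fun f : A' ⟶ ⦋1⦌ => (f.toOrderHom l0).val) hc
            have e1 := congrArg (fun f : A' ⟶ ⦋1⦌ => (f.toOrderHom l1).val) hc
            change ((side i).toOrderHom ((β ≫ σ).toOrderHom l0)).val = c.val at e0
            change ((side i).toOrderHom ((β ≫ σ).toOrderHom l1)).val = c.val at e1
            rw [hl0, val_side] at e0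
            rw [hl1, val_side] at e1
            have hlt : i.val < m + 1 := i.isLt
            rw [if_pos (by simp)] at e0
            rw [if_neg (by simp; omega)] at e1
            omega
        have hi' : ∃ j : Fin (m + 1), (β ≫ σ) ≫ side j = β ≫ σ ≫ side i := ⟨i, Category.assoc _ _ _⟩
        simp only [if_neg hnb, dif_pos hi']
        congr 1
        congr 1
        refine side_injective (SimplexCategory.Hom.ext _ _ (OrderHom.ext _ _ (funext fun y => ?_)))
        obtain ⟨l, rfl⟩ := hs y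
        exact (congrArg (fun f : A' ⟶ ⦋1⦌ => f.toOrderHom l) (hi'.choose_spec.trans (Category.assoc _ _ _).symm)).symm
      · simp only [if_pos (show Bd (β ≫ σ) (β ≫ σ ≫ side i) from Or.inl hs)]
        obtain ⟨k, hk⟩ := exists_omitted hs
        have hf := SimplexCategory.factor_δ_spec (m := A'.len) (β ≫ σ) k hk
        rw [← hf, op_comp, L.map_comp, ← Category.assoc (z V g hg W r hr i), hz V g hg W r hr i ⦋m⦌ le_rfl, Category.assoc,
          hGnat V g hg _ _ _ _ _ (Or.inl (not_surjective_of_le (m := m) (A := ⦋m⦌) le_rfl _))]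
        congr 2
        rw [← Category.assoc _ _ (side i), hf, Category.assoc]
  choose G1 hG1n hG1b using hG1
  have hT2 : ∀ (V : Over X) (g : V ⟶ U) (hg : R g) (W : Over X) (r : W ⟶ V) (hr : S V g hg r),
      ∃ Q ∈ (J.over X) W, ∀ (Y : Over X) (s : Y ⟶ W), Q s → ∀ k : Fin (m + 2),
        ∃ y : Pt Y (L.obj (op ⦋m + 1 + 1⦌)), ∀ (A : SimplexCategory) (_ : A.len ≤ m + 1) (θ : A ⟶ ⦋m + 1 + 1⦌),
          y ≫ L.map θ.op = Pt.res s (G1 V g hg W r hr A (θ ≫ SimplexCategory.σ k) (θ ≫ side k)) := by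
    intro V g hg W r hr
    choose T hT hfill using fun k : Fin (m + 2) => hL' W
      (fun A _ θ => G1 V g hg W r hr A (θ ≫ SimplexCategory.σ k) (θ ≫ side k))
      fun A A' hA hA' β θ => by
        rw [hG1n V g hg W r hr A A' β _ _ hA hA', Category.assoc, Category.assoc]
    obtain ⟨Q, hQ, hle⟩ := exists_inter_covering' (J.over X) Finset.univ T fun i _ => hT i
    exact ⟨Q, hQ, fun Y s hs k => hfill k Y s (hle k (Finset.mem_univ k) s hs)⟩
  choose Q hQ hy using hT2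
  refine ⟨Sieve.bind R.arrows fun V g hg => Sieve.bind (S V g hg).arrows fun W r hr => Q V g hg W r hr,
    (J.over X).bind_covering hR fun V g hg => (J.over X).bind_covering (hS V g hg) fun W r hr => hQ V g hg W r hr,
    fun Y w hw => ?_⟩
  obtain ⟨V, sr, g, hg, ⟨W, s, r, hr, hs, rfl⟩, rfl⟩ := hw
  choose h hh using hy V g hg W r hr Y s hs
  have hval : ∀ {A : SimplexCategory} (_ : A.len ≤ m + 1) (σ : A ⟶ ⦋m + 1⦌) (ε : A ⟶ ⦋1⦌) (k : Fin (m + 2)),
      Valid σ ε k → h k ≫ L.map (ι σ ε).op = Pt.res s (G1 V g hg W r hr A σ ε) := fun {A} hA σ ε k hk => by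
    rw [hh k A hA (ι σ ε), ι_σ hk, ι_side hk]
  have hglue : Glued h := fun i => by
    obtain ⟨h1, h2, h3⟩ := glue_simplex i
    rw [SimplicialObject.δ, hh i.castSucc ⦋m + 1⦌ le_rfl, hh i.succ ⦋m + 1⦌ le_rfl, h1, h2, h3]
  have hend : ∀ c : Fin 2, val h (𝟙 _) (SimplexCategory.const ⦋m + 1⦌ ⦋1⦌ c) =
      Pt.res s (Pt.res r (G V g hg ⦋m + 1⦌ (𝟙 _) (SimplexCategory.const ⦋m + 1⦌ ⦋1⦌ c))) := fun c => by
    refine (hval (A := ⦋m + 1⦌) le_rfl _ _ _ (exists_valid _ _).choose_spec).trans ?_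
    rw [hG1b V g hg W r hr ⦋m + 1⦌ _ _ (Or.inr ⟨c, rfl⟩)]
  obtain ⟨y, hy1, hy2⟩ := exists_hEq_point a b (Pt.res s (Pt.res r (ex V g hg))) h hglue
    (by rw [hend 0, (hGc V g hg ⦋m + 1⦌ (𝟙 _)).1, op_id, K.map_id, Category.id_comp]; simp [Pt.res])
    (by rw [hend 1, (hGc V g hg ⦋m + 1⦌ (𝟙 _)).2, op_id, K.map_id, Category.id_comp]; simp [Pt.res])
  refine ⟨y, fun A hA θ => hEq_ext a b (p := A.len) ?_ fun j => ?_⟩
  · rw [Category.assoc]
    erw [(hFst a b).naturality, reassoc_of% hy1]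
    simp only [Pt.res, Category.assoc]
    erw [hex V g hg A hA θ]
    simp [Pt.res, Functor.map_comp, Category.assoc]
  · rw [Category.assoc]
    erw [map_hπ a b (p := m + 1) (q := A.len) θ j, comp_pull]
    rw [show (fun k => y ≫ hπ a b (m + 1) k) = h from funext hy2]
    show h _ ≫ L.map _ = _
    rw [hval (A := ⦋A.len + 1⦌) (Nat.succ_le_succ hA) _ _ _ ((valid_cut j).postcomp θ),
      hG1b V g hg W r hr ⦋A.len + 1⦌ _ _
        (Or.inl (not_surjective_comp _ (not_surjective_of_le (m := m) hA θ)))]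
    erw [hGv V g hg A.len (A.len + 1) hA θ (SimplexCategory.σ j) (side j), val_cut (glued_hπ a b A.len) j]
    simp [Pt.res, Functor.map_comp, Category.assoc]

variable [∀ (n : ℕ) (F : (SimplexCategory.Truncated n)ᵒᵖ ⥤ Limits.FormalCoproduct.{u} (Over X)),
  (SimplexCategory.Truncated.inclusion n).op.HasRightKanExtension F]

/-- **The homotopy equalizer of two maps of hypercoverings is a hypercovering.** -/
theorem hEq_isHypercovering (hK : Hyper.IsHypercovering J X K) (hL : Hyper.IsHypercovering J X L) :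
    Hyper.IsHypercovering J X (hEq a b) := by
  classical
  obtain ⟨hK0, hKf⟩ := (isHypercovering_iff J K).1 hK
  obtain ⟨-, hLf⟩ := (isHypercovering_iff J L).1 hL
  refine (isHypercovering_iff J _).2 ⟨?_, fun m => hEq_fills J a b (hKf m) (hLf m) (hLf (m + 1))⟩
  refine J.transitive hK0 _ fun Y f hf => ?_
  obtain ⟨_, γ, _, ⟨i⟩, rfl⟩ := hf
  let U : Over X := (K.obj (op ⦋0⦌)).obj i
  let k : Pt U (K.obj (op ⦋0⦌)) := { f := fun _ => i, φ := fun _ => 𝟙 _ }
  let c : ∀ A : SimplexCategory, A ⟶ ⦋0⦌ := fun A => SimplexCategory.const A ⦋0⦌ 0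
  let e : Fin 2 → Pt U (L.obj (op ⦋0⦌)) := fun t => if t = 0 then k ≫ a.app (op ⦋0⦌) else k ≫ b.app (op ⦋0⦌)
  obtain ⟨S, hS, hlift⟩ := hLf 0 U (fun A _ θ => e (θ.toOrderHom 0) ≫ L.map (c A).op) fun A A' hA hA' β θ => by
    rw [Category.assoc, ← L.map_comp, ← op_comp]
    have h0 : β.toOrderHom 0 = 0 := Fin.ext (by
      have : (β.toOrderHom 0).val < A.len + 1 := (β.toOrderHom 0).isLt
      show (β.toOrderHom 0).val = 0
      omega)
    show e (θ.toOrderHom 0) ≫ L.map (c A').op = e (θ.toOrderHom (β.toOrderHom 0)) ≫ L.map (c A').op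
    rw [h0]
  rw [GrothendieckTopology.mem_over_iff] at hS
  rw [Sieve.pullback_comp]
  refine J.pullback_stable γ (J.superset_covering ?_ hS)
  intro W h hh
  rw [Sieve.overEquiv_iff] at hh
  obtain ⟨z, hz⟩ := hlift _ _ hh
  have hend : ∀ t : Fin 2, val (fun _ : Fin 1 => z) (𝟙 ⦋0⦌) (SimplexCategory.const ⦋0⦌ ⦋1⦌ t) =
      Pt.res (Over.homMk h : Over.mk (h ≫ U.hom) ⟶ U) (e t) := fun t => by
    show z ≫ L.map _ = _
    rw [hz ⦋0⦌ le_rfl]
    rw [show c ⦋0⦌ = 𝟙 _ from hom_ext fun l => by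
      have hl : l.val < 0 + 1 := l.isLt
      show (0 : ℕ) = l.val
      omega, op_id, L.map_id, Category.comp_id]
    congr 2
    exact Fin.ext (by show (0 : ℕ) + t.val = t.val; omega)
  obtain ⟨x, -, -⟩ := exists_hEq_point a b (p := 0) (Pt.res (Over.homMk h : Over.mk (h ≫ U.hom) ⟶ U) k) (fun _ => z)
    (fun i => i.elim0) (by rw [hend 0, Category.assoc]; simp [e]) (by rw [hend 1, Category.assoc]; simp [e])
  show Sieve.ofArrows _ _ (h ≫ ((K.obj (op ⦋0⦌)).obj i).hom)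
  rw [show h ≫ U.hom = (x.φ PUnit.unit).left ≫ (((hEq a b).obj (op ⦋0⦌)).obj (x.f PUnit.unit)).hom from
    (Over.w (x.φ PUnit.unit)).symm]
  exact Sieve.downward_closed _ (Sieve.ofArrows_mk _ _ _) _

/-- **A product of hypercoverings is a hypercovering.** -/
theorem prod_isHypercovering (hK : Hyper.IsHypercovering J X K) (hL : Hyper.IsHypercovering J X L) :
    Hyper.IsHypercovering J X (K ⨯ L) := by
  obtain ⟨hK0, hKf⟩ := (isHypercovering_iff J K).1 hK
  obtain ⟨hL0, hLf⟩ := (isHypercovering_iff J L).1 hL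
  let pr : ∀ A : SimplexCategory, IsLimit (BinaryFan.mk ((prod.fst : K ⨯ L ⟶ K).app (op A)) ((prod.snd : K ⨯ L ⟶ L).app (op A))) :=
    fun A => mapIsLimitOfPreservesOfIsLimit ((evaluation SimplexCategoryᵒᵖ _).obj (op A)) _ _ (prodIsProd K L)
  refine (isHypercovering_iff J _).2 ⟨?_, fun m U v hv => ?_⟩
  · refine J.superset_covering (fun Y g hg => ?_) (J.intersection_covering hK0 hL0)
    obtain ⟨hg1, hg2⟩ := hg
    obtain ⟨i, u₁, hi⟩ := Sieve.ofArrows.exists hg1
    obtain ⟨j, u₂, hj⟩ := Sieve.ofArrows.exists hg2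
    let p : Pt (Over.mk g) (K.obj (op ⦋0⦌)) := { f := fun _ => i, φ := fun _ => Over.homMk u₁ hi.symm }
    let q : Pt (Over.mk g) (L.obj (op ⦋0⦌)) := { f := fun _ => j, φ := fun _ => Over.homMk u₂ hj.symm }
    obtain ⟨x, -, -⟩ := BinaryFan.IsLimit.lift' (pr ⦋0⦌) p q
    show Sieve.ofArrows _ _ g
    rw [show g = (x.φ PUnit.unit).left ≫ (((K ⨯ L).obj (op ⦋0⦌)).obj (x.f PUnit.unit)).hom from
      (Over.w (x.φ PUnit.unit)).symm]
    exact Sieve.downward_closed _ (Sieve.ofArrows_mk _ _ _) _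
  · obtain ⟨R1, hR1, h1⟩ := hKf m U (fun A hA θ => v A hA θ ≫ (prod.fst : K ⨯ L ⟶ K).app (op A)) fun A A' hA hA' β θ => by
      rw [Category.assoc, ← NatTrans.naturality, ← Category.assoc, hv A A' hA hA' β θ]
    obtain ⟨R2, hR2, h2⟩ := hLf m U (fun A hA θ => v A hA θ ≫ (prod.snd : K ⨯ L ⟶ L).app (op A)) fun A A' hA hA' β θ => by
      rw [Category.assoc, ← NatTrans.naturality, ← Category.assoc, hv A A' hA hA' β θ]
    refine ⟨R1 ⊓ R2, (J.over X).intersection_covering hR1 hR2, fun V g hg => ?_⟩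
    obtain ⟨e1, he1⟩ := h1 V g hg.1
    obtain ⟨e2, he2⟩ := h2 V g hg.2
    obtain ⟨e, r1, r2⟩ := BinaryFan.IsLimit.lift' (pr ⦋m + 1⦌) e1 e2
    refine ⟨e, fun A hA θ => BinaryFan.IsLimit.hom_ext (pr A) ?_ ?_⟩
    · show (e ≫ (K ⨯ L).map θ.op) ≫ (prod.fst : K ⨯ L ⟶ K).app (op A) = Pt.res g (v A hA θ) ≫ (prod.fst : K ⨯ L ⟶ K).app (op A)
      rw [Category.assoc, NatTrans.naturality, ← Category.assoc]
      refine (congrArg (· ≫ K.map θ.op) r1).trans ?_
      rw [he1 A hA θ, Pt.res, Pt.res, Category.assoc]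
    · show (e ≫ (K ⨯ L).map θ.op) ≫ (prod.snd : K ⨯ L ⟶ L).app (op A) = Pt.res g (v A hA θ) ≫ (prod.snd : K ⨯ L ⟶ L).app (op A)
      rw [Category.assoc, NatTrans.naturality, ← Category.assoc]
      refine (congrArg (· ≫ L.map θ.op) r2).trans ?_
      rw [he2 A hA θ, Pt.res, Pt.res, Category.assoc]

end Fill
end HypercovLib
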