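import Groth.Agent.HypercovLib.Prism
import Mathlib

/-! # The homotopy equalizer of two maps of simplicial objects -/

set_option autoImplicit false
set_option backward.isDefEq.respectTransparency false
universe v u

open CategoryTheory CategoryTheory.Limits Opposite Simplicial

noncomputable section

namespace HypercovLib
namespace Prism

variable {E : Type u} [Category.{v} E] [HasFiniteLimits E] (L : SimplicialObject E)

/-- The first gluing map. -/
def glueL (p : ℕ) : (∏ᶜ fun _ : Fin (p + 1) => L.obj (op ⦋p + 1⦌)) ⟶ ∏ᶜ fun _ : Fin p => L.obj (op ⦋p⦌) :=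
  Pi.lift fun i : Fin p => Pi.π (fun _ : Fin (p + 1) => L.obj (op ⦋p + 1⦌)) i.castSucc ≫ L.δ i.succ.castSucc

/-- The second gluing map. -/
def glueR (p : ℕ) : (∏ᶜ fun _ : Fin (p + 1) => L.obj (op ⦋p + 1⦌)) ⟶ ∏ᶜ fun _ : Fin p => L.obj (op ⦋p⦌) :=
  Pi.lift fun i : Fin p => Pi.π (fun _ : Fin (p + 1) => L.obj (op ⦋p + 1⦌)) i.succ ≫ L.δ i.succ.castSucc

/-- Glued families of prisms. -/
abbrev PObj (p : ℕ) : E :=
  equalizer (glueL L p) (glueR L p)

/-- The prisms. -/
def Pπ (p : ℕ) (k : Fin (p + 1)) : PObj L p ⟶ L.obj (op ⦋p + 1⦌) :=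
  equalizer.ι (glueL L p) (glueR L p) ≫ Pi.π (fun _ : Fin (p + 1) => L.obj (op ⦋p + 1⦌)) k

theorem glued_Pπ (p : ℕ) : Glued (Pπ L p) := fun i => by
  have h := congrArg (fun t => t ≫ Pi.π (fun _ : Fin p => L.obj (op ⦋p⦌)) i) (equalizer.condition (glueL L p) (glueR L p))
  simp only [Category.assoc] at h
  rw [show glueL L p ≫ Pi.π _ i = Pi.π (fun _ : Fin (p + 1) => L.obj (op ⦋p + 1⦌)) i.castSucc ≫ L.δ i.succ.castSucc from Pi.lift_π _ _,
    show glueR L p ≫ Pi.π _ i = Pi.π (fun _ : Fin (p + 1) => L.obj (op ⦋p + 1⦌)) i.succ ≫ L.δ i.succ.castSucc from Pi.lift_π _ _] at h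
  exact (Category.assoc _ _ _).trans (h.trans (Category.assoc _ _ _).symm)

theorem P_ext {p : ℕ} {T : E} {x y : T ⟶ PObj L p} (h : ∀ k, x ≫ Pπ L p k = y ≫ Pπ L p k) : x = y :=
  equalizer.hom_ext (Pi.hom_ext _ _ fun k => by
    rw [Category.assoc, Category.assoc]
    exact h k)

variable {L}

/-- A glued family gives a map. -/
def plift {p : ℕ} {T : E} (h : Fin (p + 1) → (T ⟶ L.obj (op ⦋p + 1⦌))) (hh : Glued h) : T ⟶ PObj L p :=
  equalizer.lift (Pi.lift h) (Pi.hom_ext _ _ fun i => by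
    simp only [glueL, glueR, Category.assoc, Pi.lift_π, Pi.lift_π_assoc]
    exact hh i)

theorem plift_π {p : ℕ} {T : E} (h : Fin (p + 1) → (T ⟶ L.obj (op ⦋p + 1⦌))) (hh : Glued h) (k : Fin (p + 1)) :
    plift h hh ≫ Pπ L p k = h k := by
  rw [plift, Pπ, equalizer.lift_ι_assoc, Pi.lift_π]

/-- The operators. -/
def Pmap {p q : ℕ} (τ : ⦋q⦌ ⟶ ⦋p⦌) : PObj L p ⟶ PObj L q :=
  plift (pull (Pπ L p) τ) (glued_pull (glued_Pπ L p) τ)

theorem Pmap_π {p q : ℕ} (τ : ⦋q⦌ ⟶ ⦋p⦌) (j : Fin (q + 1)) : Pmap τ ≫ Pπ L q j = pull (Pπ L p) τ j :=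
  plift_π _ _ _

theorem Pmap_val {p q : ℕ} (τ : ⦋q⦌ ⟶ ⦋p⦌) {a : SimplexCategory} (σ : a ⟶ ⦋q⦌) (ε : a ⟶ ⦋1⦌) :
    Pmap τ ≫ val (Pπ L q) σ ε = val (Pπ L p) (σ ≫ τ) ε := by
  rw [comp_val, ← val_pull (glued_Pπ L p) τ]
  exact congrArg (fun h => val (L := L) h σ ε) (funext fun j => Pmap_π τ j)

variable (L)

/-- Glued families of prisms as a simplicial object. -/
def P : SimplicialObject E where
  obj p := PObj L p.unop.len
  map τ := Pmap τ.unop
  map_id p := P_ext L fun k => by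
    rw [Category.id_comp, Pmap_π]
    exact pull_id _ k
  map_comp {p q r} τ τ' := P_ext L fun k => by
    rw [Category.assoc, Pmap_π, Pmap_π, comp_pull, show (fun j => Pmap τ.unop ≫ Pπ L q.unop.len j) = pull (Pπ L p.unop.len) τ.unop from
      funext fun j => Pmap_π _ j, pull_comp (glued_Pπ L p.unop.len)]
    rfl

/-- The two ends of a family of prisms. -/
def ends (c : Fin 2) : P L ⟶ L where
  app p := val (Pπ L p.unop.len) (𝟙 _) (SimplexCategory.const p.unop ⦋1⦌ c)
  naturality p q τ := by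
    show Pmap τ.unop ≫ val (Pπ L q.unop.len) (𝟙 _) _ = val (Pπ L p.unop.len) (𝟙 _) _ ≫ L.map τ.unop.op
    rw [Pmap_val, val_map (glued_Pπ L p.unop.len), Category.id_comp, Category.comp_id]
    rfl

variable {L} {K : SimplicialObject E} (a b : K ⟶ L)

/-- The pair of ends. -/
def evEnds : P L ⟶ L ⨯ L :=
  prod.lift (ends L 0) (ends L 1)

/-- The homotopy equalizer. -/
def hEq : SimplicialObject E :=
  pullback (prod.lift a b) (evEnds (L := L))

/-- Forgetting the homotopy. -/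
def hFst : hEq a b ⟶ K :=
  pullback.fst _ _

/-- The homotopy part. -/
def hSnd : hEq a b ⟶ P L :=
  pullback.snd _ _

/-- The prisms of the homotopy equalizer. -/
def hπ (p : ℕ) (k : Fin (p + 1)) : (hEq a b).obj (op ⦋p⦌) ⟶ L.obj (op ⦋p + 1⦌) :=
  (hSnd a b).app (op ⦋p⦌) ≫ Pπ L p k

theorem glued_hπ (p : ℕ) : Glued (hπ a b p) :=
  (glued_Pπ L p).precomp _

theorem hSnd_ends0 : hFst a b ≫ a = hSnd a b ≫ ends L 0 := by
  have h := congrArg (fun t => t ≫ prod.fst) (pullback.condition (f := prod.lift a b) (g := evEnds (L := L)))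
  simp only [Category.assoc, evEnds] at h
  rw [prod.lift_fst, prod.lift_fst] at h
  exact h

theorem hSnd_ends1 : hFst a b ≫ b = hSnd a b ≫ ends L 1 := by
  have h := congrArg (fun t => t ≫ prod.snd) (pullback.condition (f := prod.lift a b) (g := evEnds (L := L)))
  simp only [Category.assoc, evEnds] at h
  rw [prod.lift_snd, prod.lift_snd] at h
  exact h

theorem val_hπ_zero (p : ℕ) : val (hπ a b p) (𝟙 ⦋p⦌) (SimplexCategory.const ⦋p⦌ ⦋1⦌ 0) =
    (hFst a b).app (op ⦋p⦌) ≫ a.app (op ⦋p⦌) :=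
  (comp_val _ _ _ _).symm.trans (NatTrans.congr_app (hSnd_ends0 a b) (op ⦋p⦌)).symm

theorem val_hπ_one (p : ℕ) : val (hπ a b p) (𝟙 ⦋p⦌) (SimplexCategory.const ⦋p⦌ ⦋1⦌ 1) =
    (hFst a b).app (op ⦋p⦌) ≫ b.app (op ⦋p⦌) :=
  (comp_val _ _ _ _).symm.trans (NatTrans.congr_app (hSnd_ends1 a b) (op ⦋p⦌)).symm

theorem map_hπ {p q : ℕ} (τ : ⦋q⦌ ⟶ ⦋p⦌) (j : Fin (q + 1)) :
    (hEq a b).map τ.op ≫ hπ a b q j = pull (hπ a b p) τ j := by
  show (hEq a b).map τ.op ≫ (hSnd a b).app (op ⦋q⦌) ≫ Pπ L q j = _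
  rw [← Category.assoc, (hSnd a b).naturality τ.op, Category.assoc]
  show (hSnd a b).app (op ⦋p⦌) ≫ (Pmap (L := L) τ ≫ Pπ L q j) = _
  rw [Pmap_π, comp_pull]
  rfl

theorem hEq_ext {p : ℕ} {T : E} {x y : T ⟶ (hEq a b).obj (op ⦋p⦌)}
    (h1 : x ≫ (hFst a b).app (op ⦋p⦌) = y ≫ (hFst a b).app (op ⦋p⦌))
    (h2 : ∀ k, x ≫ hπ a b p k = y ≫ hπ a b p k) : x = y :=
  ((IsPullback.of_hasPullback (prod.lift a b) (evEnds (L := L))).map ((evaluation _ _).obj (op ⦋p⦌))).hom_ext h1
    (P_ext L fun k => (Category.assoc _ _ _).trans ((h2 k).trans (Category.assoc _ _ _).symm))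

theorem exists_hEq_point {p : ℕ} {T : E} (x : T ⟶ K.obj (op ⦋p⦌)) (h : Fin (p + 1) → (T ⟶ L.obj (op ⦋p + 1⦌)))
    (hh : Glued h) (h0 : val h (𝟙 ⦋p⦌) (SimplexCategory.const ⦋p⦌ ⦋1⦌ 0) = x ≫ a.app (op ⦋p⦌))
    (h1 : val h (𝟙 ⦋p⦌) (SimplexCategory.const ⦋p⦌ ⦋1⦌ 1) = x ≫ b.app (op ⦋p⦌)) :
    ∃ y : T ⟶ (hEq a b).obj (op ⦋p⦌), y ≫ (hFst a b).app (op ⦋p⦌) = x ∧ ∀ k, y ≫ hπ a b p k = h k := by
  have H := (IsPullback.of_hasPullback (prod.lift a b) (evEnds (L := L))).map ((evaluation _ _).obj (op ⦋p⦌))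
  have he : ∀ c : Fin 2, plift h hh ≫ (ends L c).app (op ⦋p⦌) = val h (𝟙 ⦋p⦌) (SimplexCategory.const ⦋p⦌ ⦋1⦌ c) :=
    fun c => (comp_val _ _ _ _).trans (congrArg (fun h => val (L := L) h _ _) (funext fun k => plift_π h hh k))
  haveI : PreservesLimitsOfShape (Discrete WalkingPair) ((evaluation SimplexCategoryᵒᵖ E).obj (op ⦋p⦌)) := inferInstance
  have w : x ≫ (prod.lift a b).app (op ⦋p⦌) = plift h hh ≫ (evEnds (L := L)).app (op ⦋p⦌) := by
    let ev := (evaluation SimplexCategoryᵒᵖ E).obj (op ⦋p⦌)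
    refine (cancel_mono (prodComparison ev L L)).1 (prod.hom_ext ?_ ?_) <;>
      simp only [Category.assoc, prodComparison_fst, prodComparison_snd]
    · show x ≫ (prod.lift a b).app _ ≫ (prod.fst : L ⨯ L ⟶ L).app _ = (plift h hh : T ⟶ (P L).obj (op ⦋p⦌)) ≫ (evEnds (L := L)).app (op ⦋p⦌) ≫ (prod.fst : L ⨯ L ⟶ L).app _
      rw [← NatTrans.comp_app, ← NatTrans.comp_app, prod.lift_fst, evEnds, prod.lift_fst]
      exact h0.symm.trans (he 0).symm
    · show x ≫ (prod.lift a b).app _ ≫ (prod.snd : L ⨯ L ⟶ L).app _ = (plift h hh : T ⟶ (P L).obj (op ⦋p⦌)) ≫ (evEnds (L := L)).app (op ⦋p⦌) ≫ (prod.snd : L ⨯ L ⟶ L).app _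
      rw [← NatTrans.comp_app, ← NatTrans.comp_app, prod.lift_snd, evEnds, prod.lift_snd]
      exact h1.symm.trans (he 1).symm
  exact ⟨H.lift x (plift h hh) w, H.lift_fst _ _ _, fun k => (Category.assoc _ _ _).symm.trans
    ((congrArg (fun t => t ≫ Pπ L p k) (H.lift_snd x (plift h hh) w)).trans (plift_π h hh k))⟩

/-- The tautological homotopy. -/
def hHomotopy : SimplicialObject.Homotopy (hFst a b ≫ a) (hFst a b ≫ b) where
  h {n} i := hπ a b n i
  h_zero_comp_δ_zero n := by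
    refine Eq.trans ?_ ((val_hπ_one a b n).trans (NatTrans.comp_app _ _ _).symm)
    rw [SimplicialObject.δ, ← val_cut (glued_hπ a b n) 0, val_map (glued_hπ a b n)]
    congr 1
  h_last_comp_δ_last n := by
    refine Eq.trans ?_ ((val_hπ_zero a b n).trans (NatTrans.comp_app _ _ _).symm)
    rw [SimplicialObject.δ, ← val_cut (glued_hπ a b n) (Fin.last n), val_map (glued_hπ a b n)]
    congr 1
    · exact SimplexCategory.δ_comp_σ_succ' (by simp)
    · refine hom_ext fun l => ?_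
      show ((side (Fin.last n)).toOrderHom ((SimplexCategory.δ (Fin.last (n + 1))).toOrderHom l)).val = 0
      rw [val_side, val_δ]
      simp only [Fin.val_last]
      have hl : l.val < n + 1 := l.isLt
      split_ifs <;> omega
  h_succ_comp_δ_castSucc_of_lt {n} i j hij := by
    rw [SimplicialObject.δ, SimplicialObject.δ, map_hπ, pull_eq_val (glued_hπ a b _),
      ← val_cut (glued_hπ a b _) j.succ, val_map (glued_hπ a b _)]
    have hij' : i.val ≤ j.val := hij
    congr 1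
    · exact (SimplexCategory.δ_comp_σ_of_le hij).trans rfl
    · refine hom_ext fun l => ?_
      show ((side j.succ).toOrderHom ((SimplexCategory.δ i.castSucc).toOrderHom l)).val = ((side j).toOrderHom l).val
      rw [val_side, val_side, val_δ]
      simp only [Fin.val_castSucc, Fin.val_succ]
      split_ifs <;> omega
  h_succ_comp_δ_castSucc_succ {n} j := by
    have h := glued_hπ a b (n + 1) j
    rw [show j.castSucc.succ = j.succ.castSucc from Fin.succ_castSucc j]
    exact h.symm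
  h_castSucc_comp_δ_succ_of_lt {n} i j hji := by
    rw [SimplicialObject.δ, SimplicialObject.δ, map_hπ, pull_eq_val (glued_hπ a b _),
      ← val_cut (glued_hπ a b _) j.castSucc, val_map (glued_hπ a b _)]
    have hji' : j.val < i.val := hji
    congr 1
    · exact SimplexCategory.δ_comp_σ_of_gt hji
    · refine hom_ext fun l => ?_
      show ((side j.castSucc).toOrderHom ((SimplexCategory.δ i.succ).toOrderHom l)).val = ((side j).toOrderHom l).val
      rw [val_side, val_side, val_δ]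
      simp only [Fin.val_castSucc, Fin.val_succ]
      split_ifs <;> omega
  h_comp_σ_castSucc_of_le {n} i j hij := by
    rw [SimplicialObject.σ, SimplicialObject.σ, map_hπ, pull_eq_val (glued_hπ a b _),
      ← val_cut (glued_hπ a b _) j, val_map (glued_hπ a b _)]
    have hij' : i.val ≤ j.val := hij
    congr 1
    · exact (SimplexCategory.σ_comp_σ hij).trans rfl
    · refine hom_ext fun l => ?_
      show ((side j).toOrderHom ((SimplexCategory.σ i.castSucc).toOrderHom l)).val = ((side j.succ).toOrderHom l).val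
      rw [val_side, val_side, val_σ]
      simp only [Fin.val_castSucc, Fin.val_succ]
      split_ifs <;> omega
  h_comp_σ_succ_of_lt {n} i j hji := by
    rw [SimplicialObject.σ, SimplicialObject.σ, map_hπ, pull_eq_val (glued_hπ a b _),
      ← val_cut (glued_hπ a b _) j, val_map (glued_hπ a b _)]
    have hji' : j.val ≤ i.val := hji
    congr 1
    · exact (SimplexCategory.σ_comp_σ hji).symm.trans rfl
    · refine hom_ext fun l => ?_
      show ((side j).toOrderHom ((SimplexCategory.σ i.succ).toOrderHom l)).val = ((side j.castSucc).toOrderHom l).val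
      rw [val_side, val_side, val_σ]
      simp only [Fin.val_castSucc, Fin.val_succ]
      split_ifs <;> omega

end Prism
end HypercovLib
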