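import Mathlib

/-! # Simplices of a prism and glued families -/

set_option autoImplicit false
universe v u

open CategoryTheory CategoryTheory.Limits Opposite Simplicial

noncomputable section

namespace HypercovLib
namespace Prism

variable {a b : SimplexCategory} {p q : ℕ}

/-- The simplex of dimension one more. -/
def ι (σ : a ⟶ ⦋p⦌) (ε : a ⟶ ⦋1⦌) : a ⟶ ⦋p + 1⦌ :=
  SimplexCategory.Hom.mk
    { toFun := fun l => ⟨(σ.toOrderHom l).val + (ε.toOrderHom l).val, by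
        have h1 : (σ.toOrderHom l).val < p + 1 := (σ.toOrderHom l).isLt
        have h2 : (ε.toOrderHom l).val < 2 := (ε.toOrderHom l).isLt
        show _ < p + 1 + 1
        omega⟩
      monotone' := fun l l' h => by
        have h1 : (σ.toOrderHom l).val ≤ (σ.toOrderHom l').val := σ.toOrderHom.monotone h
        have h2 : (ε.toOrderHom l).val ≤ (ε.toOrderHom l').val := ε.toOrderHom.monotone h
        exact Fin.mk_le_mk.2 (Nat.add_le_add h1 h2) }

theorem val_ι (σ : a ⟶ ⦋p⦌) (ε : a ⟶ ⦋1⦌) (l : Fin (a.len + 1)) :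
    ((ι σ ε).toOrderHom l).val = (σ.toOrderHom l).val + (ε.toOrderHom l).val := rfl

/-- The side of the cut. -/
def side (k : Fin (p + 1)) : ⦋p + 1⦌ ⟶ ⦋1⦌ :=
  SimplexCategory.Hom.mk
    { toFun := fun l => if l.val ≤ k.val then (0 : Fin 2) else 1
      monotone' := fun l l' h => by
        show (if l.val ≤ k.val then (0 : Fin 2) else 1) ≤ if l'.val ≤ k.val then (0 : Fin 2) else 1
        have h' : l.val ≤ l'.val := h
        split_ifs with h1 h2 h3 <;> first | omega | simp }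

theorem val_side (k : Fin (p + 1)) (l : Fin (p + 2)) :
    ((side k).toOrderHom l).val = if l.val ≤ k.val then 0 else 1 := by
  show (if l.val ≤ k.val then (0 : Fin 2) else 1).val = _
  split_ifs <;> rfl

theorem val_σ (k : Fin (p + 1)) (l : Fin (p + 2)) :
    ((SimplexCategory.σ k).toOrderHom l).val = if l.val ≤ k.val then l.val else l.val - 1 := by
  show (Fin.predAbove k l).val = _
  rcases lt_or_ge k.val l.val with h | h
  · rw [if_neg (not_le.2 h), Fin.predAbove_of_castSucc_lt k l h]; rfl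
  · rw [if_pos h, Fin.predAbove_of_le_castSucc k l h]; rfl

theorem val_δ (k : Fin (p + 2)) (l : Fin (p + 1)) :
    ((SimplexCategory.δ k).toOrderHom l).val = if l.val < k.val then l.val else l.val + 1 := by
  show (Fin.succAbove k l).val = _
  rcases lt_or_ge l.val k.val with h | h
  · rw [if_pos h, Fin.succAbove_of_castSucc_lt k l h]; rfl
  · rw [if_neg (not_lt.2 h), Fin.succAbove_of_le_castSucc k l h]; rfl

theorem hom_ext {r : ℕ} {f g : a ⟶ ⦋r⦌} (h : ∀ l, (f.toOrderHom l).val = (g.toOrderHom l).val) : f = g :=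
  SimplexCategory.Hom.ext _ _ (OrderHom.ext _ _ (funext fun l => Fin.ext (h l)))

/-- The simplex lies in the prism with this cut. -/
def Valid (σ : a ⟶ ⦋p⦌) (ε : a ⟶ ⦋1⦌) (k : Fin (p + 1)) : Prop :=
  ∀ l, ((ε.toOrderHom l).val = 0 → (σ.toOrderHom l).val ≤ k.val) ∧
    ((ε.toOrderHom l).val = 1 → k.val ≤ (σ.toOrderHom l).val)

theorem exists_valid (σ : a ⟶ ⦋p⦌) (ε : a ⟶ ⦋1⦌) : ∃ k, Valid σ ε k := by
  classical
  let S := Finset.univ.filter fun l : Fin (a.len + 1) => (ε.toOrderHom l).val = 0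
  by_cases hS : S.Nonempty
  · refine ⟨σ.toOrderHom (S.max' hS), fun l => ⟨fun hl => ?_, fun hl => ?_⟩⟩
    · exact Fin.le_def.1 (σ.toOrderHom.monotone (Finset.le_max' S l (Finset.mem_filter.2 ⟨Finset.mem_univ _, hl⟩)))
    · refine Fin.le_def.1 (σ.toOrderHom.monotone ?_)
      by_contra h
      have h1 : (ε.toOrderHom l).val ≤ (ε.toOrderHom (S.max' hS)).val :=
        ε.toOrderHom.monotone (not_le.1 h).le
      have h2 := (Finset.mem_filter.1 (S.max'_mem hS)).2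
      omega
  · exact ⟨0, fun l => ⟨fun hl => absurd ⟨l, Finset.mem_filter.2 ⟨Finset.mem_univ _, hl⟩⟩ hS, fun _ => Nat.zero_le _⟩⟩

theorem Valid.precomp {σ : a ⟶ ⦋p⦌} {ε : a ⟶ ⦋1⦌} {k : Fin (p + 1)} (h : Valid σ ε k) (β : b ⟶ a) :
    Valid (β ≫ σ) (β ≫ ε) k :=
  fun l => h (β.toOrderHom l)

theorem Valid.postcomp {σ : a ⟶ ⦋q⦌} {ε : a ⟶ ⦋1⦌} {j : Fin (q + 1)} (h : Valid σ ε j) (τ : ⦋q⦌ ⟶ ⦋p⦌) :
    Valid (σ ≫ τ) ε (τ.toOrderHom j) :=
  fun l => ⟨fun hl => τ.toOrderHom.monotone (Fin.le_def.2 ((h l).1 hl)),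
    fun hl => τ.toOrderHom.monotone (Fin.le_def.2 ((h l).2 hl))⟩

theorem valid_cut (k : Fin (p + 1)) : Valid (SimplexCategory.σ k) (side k) k := fun l => by
  rw [val_σ, val_side]
  split_ifs with h <;> simp <;> omega

theorem comp_ι (β : b ⟶ a) (σ : a ⟶ ⦋p⦌) (ε : a ⟶ ⦋1⦌) : β ≫ ι σ ε = ι (β ≫ σ) (β ≫ ε) :=
  hom_ext fun _ => rfl

theorem ι_cut (k : Fin (p + 1)) : ι (SimplexCategory.σ k) (side k) = 𝟙 ⦋p + 1⦌ := hom_ext fun l => by
  rw [val_ι, val_σ, val_side]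
  show _ = l.val
  split_ifs <;> omega

theorem ι_σ {σ : a ⟶ ⦋p⦌} {ε : a ⟶ ⦋1⦌} {k : Fin (p + 1)} (h : Valid σ ε k) :
    ι σ ε ≫ SimplexCategory.σ k = σ := hom_ext fun l => by
  show ((SimplexCategory.σ k).toOrderHom ((ι σ ε).toOrderHom l)).val = _
  rw [val_σ, val_ι]
  have h1 := h l
  have h2 : (ε.toOrderHom l).val < 2 := (ε.toOrderHom l).isLt
  split_ifs <;> omega

theorem ι_side {σ : a ⟶ ⦋p⦌} {ε : a ⟶ ⦋1⦌} {k : Fin (p + 1)} (h : Valid σ ε k) :
    ι σ ε ≫ side k = ε := hom_ext fun l => by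
  show ((side k).toOrderHom ((ι σ ε).toOrderHom l)).val = _
  rw [val_side, val_ι]
  have h1 := h l
  have h2 : (ε.toOrderHom l).val < 2 := (ε.toOrderHom l).isLt
  split_ifs <;> omega

variable {E : Type u} [Category.{v} E] {L : SimplicialObject E} {T T' : E}

/-- Consecutive prisms agree on their common face. -/
def Glued (h : Fin (p + 1) → (T ⟶ L.obj (op ⦋p + 1⦌))) : Prop :=
  ∀ i : Fin p, h i.castSucc ≫ L.δ i.succ.castSucc = h i.succ ≫ L.δ i.succ.castSucc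

theorem Glued.precomp {h : Fin (p + 1) → (T ⟶ L.obj (op ⦋p + 1⦌))} (hh : Glued h) (r : T' ⟶ T) :
    Glued (L := L) fun k => r ≫ h k := fun i => by
  rw [Category.assoc, Category.assoc, hh i]

theorem indep_le {h : Fin (p + 1) → (T ⟶ L.obj (op ⦋p + 1⦌))} (hh : Glued h) {σ : a ⟶ ⦋p⦌} {ε : a ⟶ ⦋1⦌}
    (k : Fin (p + 1)) (hk : Valid σ ε k) (k' : Fin (p + 1)) (hk' : Valid σ ε k') (hle : k.val ≤ k'.val) :
    h k ≫ L.map (ι σ ε).op = h k' ≫ L.map (ι σ ε).op := by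
  induction k' using Fin.induction with
  | zero =>
    obtain rfl : k = 0 := Fin.ext (Nat.le_zero.1 hle)
    rfl
  | succ i ih =>
    rcases Nat.lt_or_ge k.val i.succ.val with hlt | hge
    · have hv : i.succ.val = i.val + 1 := rfl
      have hm : ∀ l, (ι σ ε).toOrderHom l ≠ i.succ.castSucc := fun l he => by
        have he' : (σ.toOrderHom l).val + (ε.toOrderHom l).val = i.val + 1 := congrArg Fin.val he
        have h1 := hk l
        have h2 := hk' l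
        have h3 : (ε.toOrderHom l).val < 2 := (ε.toOrderHom l).isLt
        omega
      have hmid : Valid σ ε i.castSucc := fun l => ⟨fun hl => le_trans ((hk l).1 hl) (by simp; omega),
        fun hl => le_trans (by simp [hv]) ((hk' l).2 hl)⟩
      refine (ih hmid (by simp; omega)).trans ?_
      have hf := SimplexCategory.factor_δ_spec (m := a.len) (ι σ ε) i.succ.castSucc hm
      rw [← hf, op_comp, L.map_comp, ← Category.assoc, ← Category.assoc]
      exact congrArg (· ≫ _) (hh i)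
    · rw [Fin.ext (le_antisymm hle hge)]

theorem indep {h : Fin (p + 1) → (T ⟶ L.obj (op ⦋p + 1⦌))} (hh : Glued h) {σ : a ⟶ ⦋p⦌} {ε : a ⟶ ⦋1⦌}
    (k k' : Fin (p + 1)) (hk : Valid σ ε k) (hk' : Valid σ ε k') :
    h k ≫ L.map (ι σ ε).op = h k' ≫ L.map (ι σ ε).op := by
  rcases Nat.le_total k.val k'.val with h' | h'
  · exact indep_le hh k hk k' hk' h'
  · exact (indep_le hh k' hk' k hk h').symm

/-- The value of a glued family at a simplex of the prism. -/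
def val (h : Fin (p + 1) → (T ⟶ L.obj (op ⦋p + 1⦌))) (σ : a ⟶ ⦋p⦌) (ε : a ⟶ ⦋1⦌) : T ⟶ L.obj (op a) :=
  h (exists_valid σ ε).choose ≫ L.map (ι σ ε).op

theorem val_eq {h : Fin (p + 1) → (T ⟶ L.obj (op ⦋p + 1⦌))} (hh : Glued h) {σ : a ⟶ ⦋p⦌} {ε : a ⟶ ⦋1⦌}
    {k : Fin (p + 1)} (hk : Valid σ ε k) : val h σ ε = h k ≫ L.map (ι σ ε).op :=
  indep hh _ k (exists_valid σ ε).choose_spec hk

theorem val_cut {h : Fin (p + 1) → (T ⟶ L.obj (op ⦋p + 1⦌))} (hh : Glued h) (k : Fin (p + 1)) :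
    val h (SimplexCategory.σ k) (side k) = h k := by
  rw [val_eq hh (valid_cut k), ι_cut, op_id, L.map_id, Category.comp_id]

theorem val_map {h : Fin (p + 1) → (T ⟶ L.obj (op ⦋p + 1⦌))} (hh : Glued h) (σ : a ⟶ ⦋p⦌) (ε : a ⟶ ⦋1⦌)
    (β : b ⟶ a) : val h σ ε ≫ L.map β.op = val h (β ≫ σ) (β ≫ ε) := by
  obtain ⟨k, hk⟩ := exists_valid σ ε
  rw [val_eq hh hk, val_eq hh (hk.precomp β), Category.assoc, ← L.map_comp, ← op_comp, comp_ι]

theorem comp_val (r : T' ⟶ T) (h : Fin (p + 1) → (T ⟶ L.obj (op ⦋p + 1⦌))) (σ : a ⟶ ⦋p⦌) (ε : a ⟶ ⦋1⦌) :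
    r ≫ val h σ ε = val (L := L) (fun k => r ≫ h k) σ ε :=
  (Category.assoc _ _ _).symm

/-- Pulling back a family along an operator. -/
def pull (h : Fin (p + 1) → (T ⟶ L.obj (op ⦋p + 1⦌))) (τ : ⦋q⦌ ⟶ ⦋p⦌) (j : Fin (q + 1)) :
    T ⟶ L.obj (op ⦋q + 1⦌) :=
  h (τ.toOrderHom j) ≫ L.map (ι (SimplexCategory.σ j ≫ τ) (side j)).op

theorem pull_eq_val {h : Fin (p + 1) → (T ⟶ L.obj (op ⦋p + 1⦌))} (hh : Glued h) (τ : ⦋q⦌ ⟶ ⦋p⦌)
    (j : Fin (q + 1)) : pull h τ j = val h (SimplexCategory.σ j ≫ τ) (side j) :=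
  (val_eq hh ((valid_cut j).postcomp τ)).symm

theorem glue_simplex (i : Fin q) :
    SimplexCategory.δ i.succ.castSucc ≫ SimplexCategory.σ i.castSucc = 𝟙 ⦋q⦌ ∧
    SimplexCategory.δ i.succ.castSucc ≫ SimplexCategory.σ i.succ = 𝟙 ⦋q⦌ ∧
    SimplexCategory.δ i.succ.castSucc ≫ side i.castSucc = SimplexCategory.δ i.succ.castSucc ≫ side i.succ := by
  refine ⟨hom_ext fun l => ?_, hom_ext fun l => ?_, hom_ext fun l => ?_⟩
  · show ((SimplexCategory.σ i.castSucc).toOrderHom ((SimplexCategory.δ i.succ.castSucc).toOrderHom l)).val = l.val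
    rw [val_σ, val_δ]
    simp only [Fin.val_castSucc, Fin.val_succ]
    split_ifs <;> omega
  · show ((SimplexCategory.σ i.succ).toOrderHom ((SimplexCategory.δ i.succ.castSucc).toOrderHom l)).val = l.val
    rw [val_σ, val_δ]
    simp only [Fin.val_castSucc, Fin.val_succ]
    split_ifs <;> omega
  · show ((side i.castSucc).toOrderHom ((SimplexCategory.δ i.succ.castSucc).toOrderHom l)).val =
      ((side i.succ).toOrderHom ((SimplexCategory.δ i.succ.castSucc).toOrderHom l)).val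
    rw [val_side, val_side, val_δ]
    simp only [Fin.val_castSucc, Fin.val_succ]
    split_ifs <;> omega

theorem glued_pull {h : Fin (p + 1) → (T ⟶ L.obj (op ⦋p + 1⦌))} (hh : Glued h) (τ : ⦋q⦌ ⟶ ⦋p⦌) :
    Glued (pull h τ) := fun i => by
  obtain ⟨h1, h2, h3⟩ := glue_simplex i
  rw [pull_eq_val hh, pull_eq_val hh, SimplicialObject.δ, val_map hh, val_map hh, ← Category.assoc, h1,
    ← Category.assoc, h2, h3]

theorem val_pull {h : Fin (p + 1) → (T ⟶ L.obj (op ⦋p + 1⦌))} (hh : Glued h) (τ : ⦋q⦌ ⟶ ⦋p⦌)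
    (σ : a ⟶ ⦋q⦌) (ε : a ⟶ ⦋1⦌) : val (pull h τ) σ ε = val h (σ ≫ τ) ε := by
  obtain ⟨j, hj⟩ := exists_valid σ ε
  rw [val_eq (glued_pull hh τ) hj, pull_eq_val hh, val_map hh, ← Category.assoc, ι_σ hj, ι_side hj]

theorem pull_id (h : Fin (p + 1) → (T ⟶ L.obj (op ⦋p + 1⦌))) (j : Fin (p + 1)) : pull h (𝟙 ⦋p⦌) j = h j := by
  show h j ≫ L.map (ι (SimplexCategory.σ j ≫ 𝟙 _) (side j)).op = _
  rw [Category.comp_id, ι_cut, op_id, L.map_id, Category.comp_id]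

theorem pull_comp {r : ℕ} {h : Fin (p + 1) → (T ⟶ L.obj (op ⦋p + 1⦌))} (hh : Glued h) (τ : ⦋q⦌ ⟶ ⦋p⦌)
    (τ' : ⦋r⦌ ⟶ ⦋q⦌) (j : Fin (r + 1)) : pull (pull h τ) τ' j = pull h (τ' ≫ τ) j := by
  rw [pull_eq_val (glued_pull hh τ), pull_eq_val hh, val_pull hh, Category.assoc]

theorem comp_pull (τ : ⦋q⦌ ⟶ ⦋p⦌) (j : Fin (q + 1)) (r : T' ⟶ T)
    (h : Fin (p + 1) → (T ⟶ L.obj (op ⦋p + 1⦌))) : r ≫ pull h τ j = pull (L := L) (fun k => r ≫ h k) τ j :=
  (Category.assoc _ _ _).symm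

end Prism
end HypercovLib
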