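import Groth.Agent.HypercovLib.SSetKer
import Groth.Agent.HypercovLib.Acyclic
import Mathlib

/-! # Local acyclicity of the kernel of a special morphism of coskeletal simplicial presheaves -/

set_option autoImplicit false
universe u

open CategoryTheory Opposite Simplicial

noncomputable section

namespace HypercovLib

variable {C : Type u} [SmallCategory C]

instance (a b : SimplexCategory) : Finite (a ⟶ b) :=
  Finite.of_injective (fun θ => ⇑θ.toOrderHom) fun θ θ' h => SimplexCategory.Hom.ext θ θ' (OrderHom.ext _ _ h)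

/-- A finite family of covering sieves has a covering intersection. -/
theorem exists_inter_covering (J : GrothendieckTopology C) {U : C} {ι : Type*} (s : Finset ι) (T : ι → Sieve U)
    (hT : ∀ i ∈ s, T i ∈ J U) : ∃ R ∈ J U, ∀ i ∈ s, R ≤ T i := by
  classical
  induction s using Finset.induction with
  | empty => exact ⟨⊤, J.top_mem U, by simp⟩
  | insert a s _ ih =>
    obtain ⟨R, hR, h⟩ := ih fun i hi => hT i (Finset.mem_insert_of_mem hi)
    refine ⟨T a ⊓ R, J.intersection_covering (hT a (Finset.mem_insert_self a s)) hR, fun i hi => ?_⟩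
    rcases Finset.mem_insert.1 hi with rfl | hi
    · exact inf_le_left
    · exact inf_le_right.trans (h i hi)

variable (S : SimplicialObject (Cᵒᵖ ⥤ Type u))

/-- The simplicial set of sections over an object. -/
abbrev sect (U : C) : SimplicialObject (Type u) :=
  S ⋙ (evaluation Cᵒᵖ (Type u)).obj (op U)

/-- Restriction of simplices. -/
abbrev resS {U V : C} (g : V ⟶ U) {p : SimplexCategory} (x : (sect S U).obj (op p)) : (sect S V).obj (op p) :=
  (S.obj (op p)).map g.op x

theorem map_resS {U V : C} (g : V ⟶ U) {p q : SimplexCategory} (θ : q ⟶ p) (x : (sect S U).obj (op p)) :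
    (sect S V).map θ.op (resS S g x) = resS S g ((sect S U).map θ.op x) :=
  NatTrans.naturality_apply (S.map θ.op) g.op x

variable {S} {L K : SimplicialObject (Cᵒᵖ ⥤ Type u)} (φ : L ⟶ K)

/-- The map on sections over an object. -/
abbrev sectMap (U : C) : sect L U ⟶ sect K U :=
  Functor.whiskerRight φ ((evaluation Cᵒᵖ (Type u)).obj (op U))

theorem app_resS {U V : C} (g : V ⟶ U) {p : SimplexCategory} (x : (sect L U).obj (op p)) :
    (sectMap φ V).app (op p) (resS L g x) = resS K g ((sectMap φ U).app (op p) x) :=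
  NatTrans.naturality_apply (φ.app (op p)) g.op x

/-- Restriction of tuples. -/
def powRes {U V : C} (g : V ⟶ U) {m : ℕ} {p : SimplexCategory} (x : Pow (sectMap φ U) m p) : Pow (sectMap φ V) m p :=
  ⟨fun i => resS L g (x.1 i), fun i => by rw [app_resS, app_resS, x.2 i]⟩

/-- Restriction of chains. -/
abbrev chRes {U V : C} (g : V ⟶ U) {m : ℕ} {p : SimplexCategory} (c : FreeAbelianGroup (Pow (sectMap φ U) m p)) :
    FreeAbelianGroup (Pow (sectMap φ V) m p) :=
  FreeAbelianGroup.map (powRes φ g) c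

theorem InZ.res {U V : C} (g : V ⟶ U) {m : ℕ} {p : SimplexCategory} {c : FreeAbelianGroup (Pow (sectMap φ U) m p)}
    (hc : InZ (sectMap φ U) p c) : InZ (sectMap φ V) p (chRes φ g c) := fun j => by
  rw [← FreeAbelianGroup.map_comp_apply]
  refine map_eq_zero_of_factor _ _ (fun x y h => ?_) c (hc j)
  simp only [omit', Prod.mk.injEq, funext_iff, Function.comp_apply, powRes] at h ⊢
  exact ⟨(app_resS φ g _).trans ((congrArg (resS K g) h.1).trans (app_resS φ g _).symm),
    fun i => congrArg (resS L g) (h.2 i)⟩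

theorem InA.res {U V : C} (g : V ⟶ U) {m : ℕ} {p : SimplexCategory} {c : FreeAbelianGroup (Pow (sectMap φ U) (m + 1) p)}
    (hc : InA (sectMap φ U) p c) : InA (sectMap φ V) p (chRes φ g c) := fun j => by
  rw [← FreeAbelianGroup.map_comp_apply]
  refine map_eq_zero_of_factor _ _ (fun x y h => ?_) c (hc j)
  simp only [omit', Prod.mk.injEq, funext_iff, Function.comp_apply, powRes] at h ⊢
  exact ⟨(app_resS φ g _).trans ((congrArg (resS K g) h.1).trans (app_resS φ g _).symm),
    fun i => congrArg (resS L g) (h.2 i)⟩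

theorem ddS_res {U V : C} (g : V ⟶ U) {m k : ℕ} (c : FreeAbelianGroup (Pow (sectMap φ U) m ⦋k + 1⦌)) :
    ddS (powObj (sectMap φ V) m) k (chRes φ g c) = chRes φ g (ddS (powObj (sectMap φ U) m) k c) :=
  ddS_comm (powObj (sectMap φ U) m) (T := powObj (sectMap φ V) m) (powRes φ g) (powRes φ g)
    (fun i x => Subtype.ext (funext fun l => map_resS L g (SimplexCategory.δ i) (x.1 l))) c

theorem tail_chRes {U V : C} (g : V ⟶ U) {m : ℕ} {p : SimplexCategory}
    (c : FreeAbelianGroup (Pow (sectMap φ U) (m + 1) p)) :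
    FreeAbelianGroup.map (tail (sectMap φ V)) (chRes φ g c) = chRes φ g (FreeAbelianGroup.map (tail (sectMap φ U)) c) := by
  rw [← FreeAbelianGroup.map_comp_apply]
  exact FreeAbelianGroup.map_comp_apply (f := tail (sectMap φ U)) (g := powRes φ g) c

theorem ddS_tail {U : C} {m k : ℕ} (c : FreeAbelianGroup (Pow (sectMap φ U) (m + 1) ⦋k + 1⦌)) :
    ddS (powObj (sectMap φ U) m) k (FreeAbelianGroup.map (tail (sectMap φ U)) c) =
      FreeAbelianGroup.map (tail (sectMap φ U)) (ddS (powObj (sectMap φ U) (m + 1)) k c) :=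
  ddS_comm (powObj (sectMap φ U) (m + 1)) (T := powObj (sectMap φ U) m) (tail _) (tail _)
    (fun i x => tail_δ (sectMap φ U) i x) c

theorem InZ.tail_eq_zero {U : C} {m : ℕ} {p : SimplexCategory} {c : FreeAbelianGroup (Pow (sectMap φ U) (m + 1) p)}
    (hc : InZ (sectMap φ U) p c) : FreeAbelianGroup.map (tail (sectMap φ U)) c = 0 :=
  map_eq_zero_of_factor _ _ (fun x y h => by
    simp only [omit', Prod.mk.injEq, funext_iff, Fin.succAbove_zero] at h
    exact Subtype.ext (funext h.2)) c (hc 0)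

theorem chRes_chRes {U V W : C} (g : V ⟶ U) (h : W ⟶ V) {m : ℕ} {p : SimplexCategory}
    (c : FreeAbelianGroup (Pow (sectMap φ U) m p)) : chRes φ h (chRes φ g c) = chRes φ (h ≫ g) c := by
  refine (FreeAbelianGroup.map_comp_apply (f := powRes φ g) (g := powRes φ h) c).symm.trans ?_
  refine congrArg (fun F => FreeAbelianGroup.map F c) (funext fun x => Subtype.ext (funext fun i => ?_))
  show (L.obj (op p)).map h.op ((L.obj (op p)).map g.op (x.1 i)) = (L.obj (op p)).map (h ≫ g).op (x.1 i)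
  rw [op_comp, Functor.map_comp]
  rfl

variable (J : GrothendieckTopology C) {n : ℕ}
  (hL : ∀ U, Det (sect L U) n) (hK : ∀ U, Det (sect K U) n)
  (hbij : ∀ (U : C) (a : SimplexCategory), a.len < n → Function.Bijective ((sectMap φ U).app (op a)))
  (hn : Presheaf.IsLocallySurjective J (φ.app (op ⦋n⦌)))

include hL hK hbij hn in
/-- A special morphism is locally surjective in every degree. -/
theorem isLocallySurjective_app (p : SimplexCategory) : Presheaf.IsLocallySurjective J (φ.app (op p)) := by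
  refine ⟨fun {U} y => ?_⟩
  haveI := Fintype.ofFinite (⦋n⦌ ⟶ p)
  obtain ⟨R, hR, hle⟩ := exists_inter_covering J Finset.univ
    (fun θ : ⦋n⦌ ⟶ p => Presheaf.imageSieve (φ.app (op ⦋n⦌)) ((sect K U).map θ.op y))
    fun θ _ => Presheaf.imageSieve_mem J (φ.app (op ⦋n⦌)) (U := op U) _
  refine J.superset_covering (fun V g hg => ?_) hR
  obtain ⟨x, hx⟩ := exists_preimage n (sectMap φ V) (hL V) (hK V) (hbij V) (resS K g y) fun θ => by
    obtain ⟨z, hz⟩ := hle θ (Finset.mem_univ θ) g hg
    exact ⟨z, hz.trans (map_resS K g θ y).symm⟩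
  exact ⟨x, hx⟩

include hL hK hbij hn in
theorem exists_liftable (k : ℕ) {m : ℕ} {U : C} (c : FreeAbelianGroup (Pow (sectMap φ U) m ⦋k⦌)) :
    ∃ R ∈ J U, ∀ (V : C) (g : V ⟶ U), R g → chRes φ g c ∈ AddSubgroup.closure (FreeAbelianGroup.of ''
      setOf fun x : Pow (sectMap φ V) m ⦋k⦌ =>
        ∃ y, (sectMap φ V).app (op ⦋k⦌) y = (sectMap φ V).app (op ⦋k⦌) (x.1 0)) := by
  haveI := isLocallySurjective_app φ J hL hK hbij hn ⦋k⦌
  obtain ⟨s, hs⟩ := exists_finite c
  obtain ⟨R, hR, hle⟩ := exists_inter_covering J s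
    (fun x : Pow (sectMap φ U) m ⦋k⦌ => Presheaf.imageSieve (φ.app (op ⦋k⦌)) ((sectMap φ U).app (op ⦋k⦌) (x.1 0)))
    fun x _ => Presheaf.imageSieve_mem J (φ.app (op ⦋k⦌)) (U := op U) _
  refine ⟨R, hR, fun V g hg => ?_⟩
  refine (AddSubgroup.closure_le ((AddSubgroup.closure _).comap (FreeAbelianGroup.map (powRes φ g)))).2 ?_ hs
  rintro _ ⟨x, hx, rfl⟩
  rw [SetLike.mem_coe, AddSubgroup.mem_comap]
  rw [FreeAbelianGroup.map_of_apply]
  obtain ⟨y, hy⟩ := hle x hx g hg
  exact AddSubgroup.subset_closure ⟨powRes φ g x, ⟨y, hy.trans (app_resS φ g _).symm⟩, rfl⟩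

include hL hK hbij hn in
/-- **The chains killed by all projections are locally acyclic.** -/
theorem InZ.exists_boundary (k : ℕ) : ∀ {m : ℕ} {U : C} {c : FreeAbelianGroup (Pow (sectMap φ U) m ⦋k⦌)},
    InZ (sectMap φ U) ⦋k⦌ c → Cyc (powObj (sectMap φ U) m) k c →
    ∃ R ∈ J U, ∀ (V : C) (g : V ⟶ U), R g → ∃ e : FreeAbelianGroup (Pow (sectMap φ V) m ⦋k + 1⦌),
      InZ (sectMap φ V) ⦋k + 1⦌ e ∧ ddS (powObj (sectMap φ V) m) k e = chRes φ g c := by
  induction k with
  | zero =>
    intro m U c hc _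
    obtain ⟨R, hR, hlift⟩ := exists_liftable φ J hL hK hbij hn 0 c
    refine ⟨R, hR, fun V g hg => ?_⟩
    obtain ⟨a, ha, hac⟩ := (hc.res φ g).exists_lift _ (hlift V g hg)
    obtain ⟨e, he, hde⟩ := ha.exists_boundary _ (hL V) (hK V) (fun b hb => (hbij V b hb).1) (cyc_zero (powObj (sectMap φ V) (m + 1)) a)
    exact ⟨_, he.tail _, (ddS_tail φ e).trans ((congrArg _ hde).trans hac)⟩
  | succ k ih =>
    intro m U c hc hcyc
    obtain ⟨R, hR, hlift⟩ := exists_liftable φ J hL hK hbij hn (k + 1) c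
    have h1 : ∀ (V : C) (g : V ⟶ U), R g → ∃ a, InA (sectMap φ V) ⦋k + 1⦌ a ∧
        FreeAbelianGroup.map (tail (sectMap φ V)) a = chRes φ g c := fun V g hg =>
      (hc.res φ g).exists_lift _ (hlift V g hg)
    choose a ha hac using h1
    let b : ∀ (V : C) (g : V ⟶ U), R g → FreeAbelianGroup (Pow (sectMap φ V) (m + 1) ⦋k⦌) :=
      fun V g hg => ddS (powObj (sectMap φ V) (m + 1)) k (a V g hg)
    have hb : ∀ (V : C) (g : V ⟶ U) (hg : R g), InZ (sectMap φ V) ⦋k⦌ (b V g hg) := fun V g hg => by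
      refine InA.inZ _ (fun j => omit_kills_ddS _ k _ _ (ha V g hg j)) ((ddS_tail φ _).symm.trans ?_)
      rw [hac]
      refine (ddS_res φ g c).trans ?_
      rw [(cyc_succ (powObj (sectMap φ U) m)).1 hcyc]
      exact map_zero _
    have h2 := fun (V : C) (g : V ⟶ U) (hg : R g) => ih (hb V g hg) (fun l hl => by
      subst hl
      exact ddS_ddS _ l _)
    choose R' hR' h2 using h2
    refine ⟨Sieve.bind R.arrows R', J.bind_covering hR hR', fun W w hw => ?_⟩
    obtain ⟨V, r, g, hg, hr, rfl⟩ := hw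
    obtain ⟨e', he', hde'⟩ := h2 V g hg W r hr
    let a' : FreeAbelianGroup (Pow (sectMap φ W) (m + 1) ⦋k + 1⦌) := chRes φ r (a V g hg) - e'
    have ha' : InA (sectMap φ W) ⦋k + 1⦌ a' := fun j => by
      rw [map_sub, (ha V g hg).res φ r j, he' j.succ, sub_zero]
    have hda' : Cyc (powObj (sectMap φ W) (m + 1)) (k + 1) a' := (cyc_succ (powObj (sectMap φ W) (m + 1))).2 (by
      refine (map_sub (ddS (powObj (sectMap φ W) (m + 1)) k) _ e').trans ?_
      rw [sub_eq_zero]
      exact (ddS_res φ r _).trans hde'.symm)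
    obtain ⟨e, he, hde⟩ := ha'.exists_boundary _ (hL W) (hK W) (fun d hd => (hbij W d hd).1) hda'
    refine ⟨_, he.tail _, (ddS_tail φ e).trans ((congrArg _ hde).trans ?_)⟩
    rw [map_sub, he'.tail_eq_zero φ, sub_zero, tail_chRes, hac, chRes_chRes]

end HypercovLib
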