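import Groth.Prelude.Def_Hyper
import Mathlib

/-! # Coverings of semi-representable objects as local lifting of points -/

set_option autoImplicit false
universe u

open CategoryTheory CategoryTheory.Limits Opposite

namespace HypercovLib

variable {D : Type u} [SmallCategory D]

/-- Every point of the target lifts locally to the source. -/
def LocLift (J : GrothendieckTopology D) {A B : FormalCoproduct.{u} D} (m : A ⟶ B) : Prop :=
  ∀ (U : D) (b : (FormalCoproduct.incl D).obj U ⟶ B), ∃ S : Sieve U, S ∈ J U ∧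
    ∀ (V : D) (h : V ⟶ U), S h → ∃ a : (FormalCoproduct.incl D).obj V ⟶ A,
      a ≫ m = (FormalCoproduct.incl D).map h ≫ b

theorem locLift_iff (J : GrothendieckTopology D) {A B : FormalCoproduct.{u} D} (m : A ⟶ B) :
    LocLift J m ↔ Hyper.IsSRCovering J m := by
  refine ⟨fun hm j => ?_, fun hm U b => ?_⟩
  · obtain ⟨S, hS, h⟩ := hm (B.obj j) { f := fun _ => j, φ := fun _ => 𝟙 _ }
    refine J.superset_covering (fun V g hg => ?_) hS
    obtain ⟨a, ha⟩ := h V g hg
    obtain ⟨hf, hφ⟩ := (FormalCoproduct.hom_ext_iff' _ _).1 ha PUnit.unit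
    refine (Sieve.mem_ofArrows_iff _ _ _).2 ⟨⟨a.f PUnit.unit, hf⟩, a.φ PUnit.unit, ?_⟩
    refine Eq.trans ?_ (hφ.symm.trans ?_)
    · exact (Category.comp_id g).symm
    · exact Category.assoc _ _ _
  · refine ⟨_, J.pullback_stable (b.φ PUnit.unit) (hm (b.f PUnit.unit)), fun V g hg => ?_⟩
    obtain ⟨i, γ, hγ⟩ := (Sieve.mem_ofArrows_iff _ _ _).1 hg
    refine ⟨{ f := fun _ => i.1, φ := fun _ => γ }, (FormalCoproduct.hom_ext_iff' _ _).2 fun _ => ⟨i.2, ?_⟩⟩
    exact (Category.assoc _ _ _).trans hγ.symm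

end HypercovLib
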