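import Groth.Agent.HypercovLib.SSetDet
import Mathlib

/-! # The fibre powers of a map of coskeletal simplicial sets contract onto the diagonal -/

set_option autoImplicit false
universe u

open CategoryTheory Opposite Simplicial

noncomputable section

namespace HypercovLib

variable {L K : SimplicialObject (Type u)} (f : L ⟶ K)

/-- Tuples of simplices in one fibre. -/
abbrev Pow (m : ℕ) (p : SimplexCategory) : Type u :=
  {x : Fin (m + 1) → L.obj (op p) // ∀ i, f.app _ (x i) = f.app _ (x 0)}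

/-- Simplicial operators on tuples. -/
def powMap (m : ℕ) {a b : SimplexCategory} (θ : a ⟶ b) (x : Pow f m b) : Pow f m a :=
  ⟨fun i => L.map θ.op (x.1 i), fun i => by rw [app_map, app_map, x.2 i]⟩

/-- The fibre power as a simplicial set. -/
def powObj (m : ℕ) : SimplicialObject (Type u) where
  obj p := Pow f m p.unop
  map θ := TypeCat.ofHom (powMap f m θ.unop)
  map_id p := by
    refine ConcreteCategory.hom_ext _ _ fun x => Subtype.ext (funext fun i => ?_)
    exact map_one L (x.1 i)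
  map_comp θ θ' := by
    refine ConcreteCategory.hom_ext _ _ fun x => Subtype.ext (funext fun i => ?_)
    exact (map_map L θ'.unop θ.unop (x.1 i)).symm

/-- The projection to the diagonal. -/
def diag {m : ℕ} {a : SimplexCategory} (x : Pow f m a) : Pow f m a :=
  ⟨fun _ => x.1 0, fun _ => rfl⟩

/-- The diagonal projection as a map of simplicial sets. -/
def diagHom (m : ℕ) : powObj f m ⟶ powObj f m where
  app p := TypeCat.ofHom (diag f)
  naturality p q θ := by
    refine ConcreteCategory.hom_ext _ _ fun x => rfl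

variable {n : ℕ} (hL : Det L n) (hK : Det K n)
  (hinj : ∀ a : SimplexCategory, a.len < n → Function.Injective (f.app (op a)))

open scoped Classical in
/-- One of two simplices according to a condition. -/
def pick {a b : SimplexCategory} (s : a ⟶ b) (c : Prop) (x₀ x₁ : L.obj (op b)) : L.obj (op a) :=
  if c then L.map s.op x₁ else L.map s.op x₀

theorem pick_congr {a b : SimplexCategory} {s s' : a ⟶ b} {c c' : Prop} (hs : s = s') (hc : c ↔ c')
    (x₀ x₁ : L.obj (op b)) : pick s c x₀ x₁ = pick s' c' x₀ x₁ := by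
  subst hs
  rw [propext hc]

theorem pick_pos {a b : SimplexCategory} {s : a ⟶ b} {c : Prop} (hc : c) (x₀ x₁ : L.obj (op b)) :
    pick s c x₀ x₁ = L.map s.op x₁ := by
  rw [pick, if_pos hc]

theorem pick_neg {a b : SimplexCategory} {s : a ⟶ b} {c : Prop} (hc : ¬ c) (x₀ x₁ : L.obj (op b)) :
    pick s c x₀ x₁ = L.map s.op x₀ := by
  rw [pick, if_neg hc]

theorem pick_map {a b d : SimplexCategory} (s : a ⟶ b) (c : Prop) (τ : b ⟶ d) (x₀ x₁ : L.obj (op d)) :
    pick s c (L.map τ.op x₀) (L.map τ.op x₁) = pick (s ≫ τ) c x₀ x₁ := by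
  simp only [pick, map_map]

include hL hinj in
theorem exists_mix {b p : SimplexCategory} (s : p ⟶ b) (ε : Fin (p.len + 1) → Prop) (x₀ x₁ : L.obj (op b))
    (he : f.app _ x₁ = f.app _ x₀) :
    ∃ z : L.obj (op p), ∀ (a : SimplexCategory), a.len ≤ n → ∀ θ : a ⟶ p,
      L.map θ.op z = pick (θ ≫ s) (∀ v, ε (θ.toOrderHom v)) x₀ x₁ := by
  classical
  obtain ⟨z, hz, -⟩ := hL p (fun a _ θ => pick (θ ≫ s) (∀ v, ε (θ.toOrderHom v)) x₀ x₁) fun a c ha hc β θ => by
    rw [← pick_map, ← pick_map (β ≫ θ)]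
    have e : ∀ t : c ⟶ b, c.len < n → L.map t.op x₁ = L.map t.op x₀ := fun t h =>
      hinj c h (by rw [app_map, app_map, he])
    have key : L.map ((β ≫ θ) ≫ s).op x₁ = L.map ((β ≫ θ) ≫ s).op x₀ ∨ ∃ h : c = a, β = eqToHom h := by
      by_cases hc' : c.len < n
      · exact Or.inl (e _ hc')
      · by_cases ha' : a.len < n
        · refine Or.inl ?_
          rw [Category.assoc, ← map_map, ← map_map L β (θ ≫ s) x₀, hinj a ha' (a₁ := L.map (θ ≫ s).op x₁)
            (a₂ := L.map (θ ≫ s).op x₀) (by rw [app_map, app_map, he])]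
        · obtain rfl : c = a := SimplexCategory.ext (by omega)
          by_cases hi : Function.Injective β.toOrderHom
          · haveI := SimplexCategory.mono_iff_injective.mpr hi
            exact Or.inr ⟨rfl, SimplexCategory.eq_id_of_mono β⟩
          · refine Or.inl ?_
            induction c using SimplexCategory.rec with
            | _ N =>
            cases N with
            | zero => exact absurd (fun x y _ => Subsingleton.elim (α := Fin 1) x y) hi
            | succ N =>
              obtain ⟨i, θ', rfl⟩ := SimplexCategory.eq_σ_comp_of_not_injective β hi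
              have hN : N < n := by simp at hc; omega
              simp only [Category.assoc, ← map_map L (SimplexCategory.σ i)]
              exact congrArg _ (hinj ⦋N⦌ hN (by rw [app_map, app_map, he]))
    rw [pick_map, pick_map]
    rcases key with h | ⟨h, rfl⟩
    · by_cases h1 : ∀ v, ε (θ.toOrderHom v)
      · rw [pick_pos h1, pick_pos (show ∀ v, ε ((β ≫ θ).toOrderHom v) from fun v => h1 _), map_map, ← Category.assoc]
      · rw [pick_neg h1, map_map, ← Category.assoc]
        by_cases h2 : ∀ v, ε ((β ≫ θ).toOrderHom v)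
        · rw [pick_pos h2, h]
        · rw [pick_neg h2]
    · subst h
      rw [eqToHom_refl, map_one, Category.id_comp]
  exact ⟨z, hz⟩

/-- The mixed simplex. -/
def mix {b p : SimplexCategory} (s : p ⟶ b) (ε : Fin (p.len + 1) → Prop) (x₀ x₁ : L.obj (op b))
    (he : f.app _ x₁ = f.app _ x₀) : L.obj (op p) :=
  (exists_mix f hL hinj s ε x₀ x₁ he).choose

theorem mix_spec {b p : SimplexCategory} (s : p ⟶ b) (ε : Fin (p.len + 1) → Prop) (x₀ x₁ : L.obj (op b))
    (he : f.app _ x₁ = f.app _ x₀) {a : SimplexCategory} (ha : a.len ≤ n) (θ : a ⟶ p) :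
    L.map θ.op (mix f hL hinj s ε x₀ x₁ he) = pick (θ ≫ s) (∀ v, ε (θ.toOrderHom v)) x₀ x₁ :=
  (exists_mix f hL hinj s ε x₀ x₁ he).choose_spec a ha θ

include hK in
theorem app_mix {b p : SimplexCategory} (s : p ⟶ b) (ε : Fin (p.len + 1) → Prop) (x₀ x₁ : L.obj (op b))
    (he : f.app _ x₁ = f.app _ x₀) : f.app _ (mix f hL hinj s ε x₀ x₁ he) = K.map s.op (f.app _ x₀) := by
  refine hK.ext fun a ha θ => ?_
  rw [← app_map, mix_spec f hL hinj s ε x₀ x₁ he ha, map_map]
  by_cases h : ∀ v, ε (θ.toOrderHom v)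
  · rw [pick_pos h, app_map, he]
  · rw [pick_neg h, app_map]

theorem mix_eq {b p : SimplexCategory} (s : p ⟶ b) (ε : Fin (p.len + 1) → Prop) (x₀ x₁ : L.obj (op b))
    (he : f.app _ x₁ = f.app _ x₀) (z : L.obj (op p))
    (h : ∀ (a : SimplexCategory), a.len ≤ n → ∀ θ : a ⟶ p,
      L.map θ.op z = pick (θ ≫ s) (∀ v, ε (θ.toOrderHom v)) x₀ x₁) : mix f hL hinj s ε x₀ x₁ he = z :=
  hL.ext fun a ha θ => by rw [mix_spec f hL hinj s ε x₀ x₁ he ha, h a ha θ]

theorem map_mix {b p p' : SimplexCategory} (s : p ⟶ b) (ε : Fin (p.len + 1) → Prop) (x₀ x₁ : L.obj (op b))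
    (he : f.app _ x₁ = f.app _ x₀) (τ : p' ⟶ p) :
    L.map τ.op (mix f hL hinj s ε x₀ x₁ he) = mix f hL hinj (τ ≫ s) (fun v => ε (τ.toOrderHom v)) x₀ x₁ he :=
  (mix_eq f hL hinj _ _ x₀ x₁ he _ fun a ha θ => by
    rw [map_map, mix_spec f hL hinj s ε x₀ x₁ he ha, Category.assoc]
    rfl).symm

theorem mix_congr {b b' p : SimplexCategory} (s : p ⟶ b) (τ : b ⟶ b') (s' : p ⟶ b') {ε ε' : Fin (p.len + 1) → Prop}
    (hs : s ≫ τ = s') (hε : ∀ v, ε v ↔ ε' v) (x₀ x₁ : L.obj (op b')) (he : f.app _ x₁ = f.app _ x₀)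
    (he' : f.app _ (L.map τ.op x₁) = f.app _ (L.map τ.op x₀)) :
    mix f hL hinj s ε (L.map τ.op x₀) (L.map τ.op x₁) he' = mix f hL hinj s' ε' x₀ x₁ he :=
  mix_eq f hL hinj _ _ _ _ he' _ fun a ha θ => by
    rw [mix_spec f hL hinj s' ε' x₀ x₁ he ha, pick_map, Category.assoc, hs]
    exact pick_congr rfl (forall_congr' fun v => (hε _).symm) x₀ x₁

theorem mix_congr' {b p : SimplexCategory} {s s' : p ⟶ b} {ε ε' : Fin (p.len + 1) → Prop}
    (hs : s = s') (hε : ∀ v, ε v ↔ ε' v) (x₀ x₁ : L.obj (op b)) (he : f.app _ x₁ = f.app _ x₀) :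
    mix f hL hinj s ε x₀ x₁ he = mix f hL hinj s' ε' x₀ x₁ he := by
  subst hs
  rw [show ε = ε' from funext fun v => propext (hε v)]

theorem mix_true {p : SimplexCategory} {ε : Fin (p.len + 1) → Prop} (hε : ∀ v, ε v) (x₀ x₁ : L.obj (op p))
    (he : f.app _ x₁ = f.app _ x₀) : mix f hL hinj (𝟙 p) ε x₀ x₁ he = x₁ :=
  mix_eq f hL hinj _ _ x₀ x₁ he _ fun a _ θ => by rw [pick_pos fun v => hε _, Category.comp_id]

theorem mix_false {p : SimplexCategory} {ε : Fin (p.len + 1) → Prop} (hε : ∀ v, ¬ ε v) (x₀ x₁ : L.obj (op p))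
    (he : f.app _ x₁ = f.app _ x₀) : mix f hL hinj (𝟙 p) ε x₀ x₁ he = x₀ :=
  mix_eq f hL hinj _ _ x₀ x₁ he _ fun a _ θ => by rw [pick_neg fun h => hε _ (h 0), Category.comp_id]

theorem val_succAbove {m : ℕ} (i : Fin (m + 1)) (v : Fin m) :
    ((i.succAbove v : Fin (m + 1)) : ℕ) = if (v : ℕ) < (i : ℕ) then (v : ℕ) else (v : ℕ) + 1 := by
  rcases lt_or_ge (v : ℕ) (i : ℕ) with h | h
  · rw [if_pos h, Fin.succAbove_of_castSucc_lt i v h]; rfl
  · rw [if_neg (not_lt.2 h), Fin.succAbove_of_le_castSucc i v h]; rfl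

theorem val_predAbove {m : ℕ} (p : Fin m) (v : Fin (m + 1)) :
    ((p.predAbove v : Fin m) : ℕ) = if (p : ℕ) < (v : ℕ) then (v : ℕ) - 1 else (v : ℕ) := by
  rcases lt_or_ge (p : ℕ) (v : ℕ) with h | h
  · rw [if_pos h, Fin.predAbove_of_castSucc_lt p v h]; rfl
  · rw [if_neg (not_lt.2 h), Fin.predAbove_of_le_castSucc p v h]; rfl

/-- The homotopy components: move the coordinates to the zeroth one. -/
def hcomp (m : ℕ) {k : ℕ} (j : Fin (k + 1)) (x : Pow f m ⦋k⦌) : Pow f m ⦋k + 1⦌ :=
  ⟨fun i => mix f hL hinj (SimplexCategory.σ j) (fun v => (j : ℕ) < (v : ℕ)) (x.1 0) (x.1 i) (x.2 i), fun i => by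
    rw [app_mix f hL hK hinj, app_mix f hL hK hinj]⟩

/-- The fibre powers contract onto the diagonal. -/
def powHomotopy (m : ℕ) : SimplicialObject.Homotopy (diagHom f m) (𝟙 (powObj f m)) where
  h j := TypeCat.ofHom (hcomp f hL hK hinj m j)
  h_zero_comp_δ_zero k := by
    refine ConcreteCategory.hom_ext _ _ fun x => Subtype.ext (funext fun i => ?_)
    show (powMap f m (SimplexCategory.δ 0) (hcomp f hL hK hinj m 0 x)).1 i = x.1 i
    simp only [powMap, hcomp]
    erw [map_mix]
    refine (mix_congr' f hL hinj (SimplexCategory.δ_comp_σ_self (n := k) (i := 0)) (fun _ => Iff.rfl) _ _ _).trans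
      (mix_true f hL hinj (fun v => ?_) _ _ _)
    show (0 : ℕ) < ((Fin.succAbove 0 v : Fin (k + 2)) : ℕ)
    simp
  h_last_comp_δ_last k := by
    refine ConcreteCategory.hom_ext _ _ fun x => Subtype.ext (funext fun i => ?_)
    show (powMap f m (SimplexCategory.δ (Fin.last (k + 1))) (hcomp f hL hK hinj m (Fin.last k) x)).1 i = x.1 0
    simp only [powMap, hcomp]
    erw [map_mix]
    refine (mix_congr' f hL hinj (SimplexCategory.δ_comp_σ_succ' (H := (Fin.succ_last k).symm)) (fun _ => Iff.rfl)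
      _ _ _).trans (mix_false f hL hinj (fun v => ?_) _ _ _)
    show ¬ ((Fin.last k : Fin (k + 1)) : ℕ) < ((Fin.succAbove (Fin.last (k + 1)) v : Fin (k + 2)) : ℕ)
    have : (v : ℕ) < k + 1 := v.isLt
    simp
    omega
  h_succ_comp_δ_castSucc_of_lt {k} i j hij := by
    refine ConcreteCategory.hom_ext _ _ fun x => Subtype.ext (funext fun l => ?_)
    show (powMap f m (SimplexCategory.δ i.castSucc) (hcomp f hL hK hinj m j.succ x)).1 l = (hcomp f hL hK hinj m j (powMap f m (SimplexCategory.δ i) x)).1 l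
    simp only [powMap, hcomp]
    erw [map_mix]
    refine (mix_congr f hL hinj (SimplexCategory.σ j) (SimplexCategory.δ i) _
      (SimplexCategory.δ_comp_σ_of_le hij).symm (fun v => ?_) _ _ (x.2 l) _).symm
    show ((j : Fin (k + 1)) : ℕ) < (v : ℕ) ↔ ((j.succ : Fin (k + 2)) : ℕ) < ((Fin.succAbove i.castSucc v : Fin (k + 3)) : ℕ)
    rw [val_succAbove]
    simp only [Fin.val_succ, Fin.coe_castSucc, Fin.le_def] at hij ⊢
    split_ifs <;> omega
  h_succ_comp_δ_castSucc_succ {k} j := by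
    refine ConcreteCategory.hom_ext _ _ fun x => Subtype.ext (funext fun l => ?_)
    show (powMap f m (SimplexCategory.δ j.castSucc.succ) (hcomp f hL hK hinj m j.succ x)).1 l = (powMap f m (SimplexCategory.δ j.castSucc.succ) (hcomp f hL hK hinj m j.castSucc x)).1 l
    simp only [powMap, hcomp]
    erw [map_mix, map_mix]
    refine mix_congr' f hL hinj ?_ (fun v => ?_) _ _ _
    · rw [SimplexCategory.δ_comp_σ_self' (H := (Fin.succ_castSucc j).symm), SimplexCategory.δ_comp_σ_succ' (H := rfl)]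
    · show ((j.succ : Fin (k + 2)) : ℕ) < ((Fin.succAbove j.castSucc.succ v : Fin (k + 3)) : ℕ) ↔
        ((j.castSucc : Fin (k + 2)) : ℕ) < ((Fin.succAbove j.castSucc.succ v : Fin (k + 3)) : ℕ)
      rw [val_succAbove]
      simp only [Fin.val_succ, Fin.coe_castSucc]
      split_ifs <;> omega
  h_castSucc_comp_δ_succ_of_lt {k} i j hji := by
    refine ConcreteCategory.hom_ext _ _ fun x => Subtype.ext (funext fun l => ?_)
    show (powMap f m (SimplexCategory.δ i.succ) (hcomp f hL hK hinj m j.castSucc x)).1 l = (hcomp f hL hK hinj m j (powMap f m (SimplexCategory.δ i) x)).1 l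
    simp only [powMap, hcomp]
    erw [map_mix]
    refine (mix_congr f hL hinj (SimplexCategory.σ j) (SimplexCategory.δ i) _
      (SimplexCategory.δ_comp_σ_of_gt hji).symm (fun v => ?_) _ _ (x.2 l) _).symm
    show ((j : Fin (k + 1)) : ℕ) < (v : ℕ) ↔ ((j.castSucc : Fin (k + 2)) : ℕ) < ((Fin.succAbove i.succ v : Fin (k + 3)) : ℕ)
    rw [val_succAbove]
    simp only [Fin.val_succ, Fin.coe_castSucc, Fin.lt_def] at hji ⊢
    split_ifs <;> omega
  h_comp_σ_castSucc_of_le {k} i j hij := by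
    refine ConcreteCategory.hom_ext _ _ fun x => Subtype.ext (funext fun l => ?_)
    show (powMap f m (SimplexCategory.σ i.castSucc) (hcomp f hL hK hinj m j x)).1 l = (hcomp f hL hK hinj m j.succ (powMap f m (SimplexCategory.σ i) x)).1 l
    simp only [powMap, hcomp]
    erw [map_mix]
    refine (mix_congr f hL hinj (SimplexCategory.σ j.succ) (SimplexCategory.σ i) _
      (SimplexCategory.σ_comp_σ hij).symm (fun v => ?_) _ _ (x.2 l) _).symm
    show ((j.succ : Fin (k + 2)) : ℕ) < (v : ℕ) ↔ ((j : Fin (k + 1)) : ℕ) < ((Fin.predAbove i.castSucc v : Fin (k + 2)) : ℕ)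
    rw [val_predAbove]
    simp only [Fin.val_succ, Fin.coe_castSucc, Fin.le_def] at hij ⊢
    split_ifs <;> omega
  h_comp_σ_succ_of_lt {k} i j hji := by
    refine ConcreteCategory.hom_ext _ _ fun x => Subtype.ext (funext fun l => ?_)
    show (powMap f m (SimplexCategory.σ i.succ) (hcomp f hL hK hinj m j x)).1 l = (hcomp f hL hK hinj m j.castSucc (powMap f m (SimplexCategory.σ i) x)).1 l
    simp only [powMap, hcomp]
    erw [map_mix]
    refine (mix_congr f hL hinj (SimplexCategory.σ j.castSucc) (SimplexCategory.σ i) _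
      (SimplexCategory.σ_comp_σ hji) (fun v => ?_) _ _ (x.2 l) _).symm
    show ((j.castSucc : Fin (k + 2)) : ℕ) < (v : ℕ) ↔ ((j : Fin (k + 1)) : ℕ) < ((Fin.predAbove i.succ v : Fin (k + 2)) : ℕ)
    rw [val_predAbove]
    simp only [Fin.val_succ, Fin.coe_castSucc, Fin.le_def] at hji ⊢
    split_ifs <;> omega

end HypercovLib
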