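import Groth.Agent.HypercovLib.SSetHomot
import Mathlib

/-! # Chains on the fibre powers -/

set_option autoImplicit false
universe u

open CategoryTheory Opposite Simplicial AlgebraicTopology

noncomputable section

namespace HypercovLib

theorem lift_eq_zero_of_factor {X Y G : Type*} [AddCommGroup G] (g : X → Y) (v : X → G)
    (h : ∀ x y, g x = g y → v x = v y) (c : FreeAbelianGroup X) (hc : FreeAbelianGroup.map g c = 0) :
    FreeAbelianGroup.lift v c = 0 := by
  classical
  have e : (FreeAbelianGroup.lift fun y => if he : ∃ x, g x = y then v he.choose else 0).comp (FreeAbelianGroup.map g) =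
      FreeAbelianGroup.lift v := FreeAbelianGroup.lift_ext _ _ fun x => by
    rw [AddMonoidHom.comp_apply, FreeAbelianGroup.map_of_apply, FreeAbelianGroup.lift_apply_of,
      FreeAbelianGroup.lift_apply_of, dif_pos (⟨x, rfl⟩ : ∃ x', g x' = g x)]
    exact h _ _ (⟨x, rfl⟩ : ∃ x', g x' = g x).choose_spec
  rw [← e, AddMonoidHom.comp_apply, hc, map_zero]

theorem map_eq_zero_of_factor {X Y Z : Type*} (g : X → Y) (v : X → Z) (h : ∀ x y, g x = g y → v x = v y)
    (c : FreeAbelianGroup X) (hc : FreeAbelianGroup.map g c = 0) : FreeAbelianGroup.map v c = 0 := by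
  have e : FreeAbelianGroup.map v = FreeAbelianGroup.lift fun x => FreeAbelianGroup.of (v x) :=
    FreeAbelianGroup.lift_ext _ _ fun x => by rw [FreeAbelianGroup.map_of_apply, FreeAbelianGroup.lift_apply_of]
  rw [e]
  exact lift_eq_zero_of_factor g _ (fun x y hxy => congrArg _ (h x y hxy)) c hc

variable (S : SimplicialObject (Type u))

/-- The differential of the free simplicial abelian group. -/
def ddS (k : ℕ) : FreeAbelianGroup (S _⦋k + 1⦌) →+ FreeAbelianGroup (S _⦋k⦌) :=
  ∑ i : Fin (k + 2), ((-1 : ℤ) ^ (i : ℕ)) • FreeAbelianGroup.map (S.δ i)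

theorem ddS_apply (k : ℕ) (c : FreeAbelianGroup (S _⦋k + 1⦌)) :
    ddS S k c = ∑ i : Fin (k + 2), ((-1 : ℤ) ^ (i : ℕ)) • FreeAbelianGroup.map (S.δ i) c := by
  simp only [ddS, AddMonoidHom.finset_sum_apply, AddMonoidHom.smul_apply]

/-- Cycles (everything in degree zero). -/
def Cyc (k : ℕ) (c : FreeAbelianGroup (S _⦋k⦌)) : Prop :=
  ∀ (l : ℕ) (h : k = l + 1), ddS S l (h ▸ c) = 0

theorem cyc_zero (c : FreeAbelianGroup (S _⦋0⦌)) : Cyc S 0 c := fun l h => absurd h (Nat.succ_ne_zero l).symm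

theorem cyc_succ {k : ℕ} {c : FreeAbelianGroup (S _⦋k + 1⦌)} : Cyc S (k + 1) c ↔ ddS S k c = 0 :=
  ⟨fun h => h k rfl, fun h l e => by obtain rfl : k = l := Nat.succ.inj e; exact h⟩

theorem sum_hom_apply' {ι : Type*} (s : Finset ι) {A B : AddCommGrpCat.{u}} (f : ι → (A ⟶ B)) (x : A) :
    (∑ i ∈ s, f i) x = ∑ i ∈ s, f i x := by
  classical
  induction s using Finset.induction with
  | empty => simp
  | insert a s ha ih => rw [Finset.sum_insert ha, Finset.sum_insert ha, ← ih]; rfl

/-- The free simplicial abelian group. -/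
abbrev freeS : SimplicialObject AddCommGrpCat.{u} :=
  ((SimplicialObject.whiskering _ _).obj AddCommGrpCat.free.{u}).obj S

theorem d_freeS (k : ℕ) (c : FreeAbelianGroup (S _⦋k + 1⦌)) :
    ((alternatingFaceMapComplex AddCommGrpCat.{u}).obj (freeS S)).d (k + 1) k c = ddS S k c := by
  rw [alternatingFaceMapComplex_obj_d]
  simp only [AlternatingFaceMapComplex.objD]
  refine (sum_hom_apply' (A := (freeS S) _⦋k + 1⦌) (B := (freeS S) _⦋k⦌) Finset.univ _ c).trans ?_
  rw [ddS_apply]
  rfl

theorem ddS_comm {T : SimplicialObject (Type u)} {k : ℕ} (φ₁ : S _⦋k + 1⦌ → T _⦋k + 1⦌) (φ₀ : S _⦋k⦌ → T _⦋k⦌)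
    (h : ∀ i x, T.δ i (φ₁ x) = φ₀ (S.δ i x)) (c : FreeAbelianGroup (S _⦋k + 1⦌)) :
    ddS T k (FreeAbelianGroup.map φ₁ c) = FreeAbelianGroup.map φ₀ (ddS S k c) := by
  rw [ddS_apply, ddS_apply, map_sum]
  refine Finset.sum_congr rfl fun i _ => ?_
  rw [map_zsmul, ← FreeAbelianGroup.map_comp_apply, ← FreeAbelianGroup.map_comp_apply]
  exact congrArg (fun g => _ • FreeAbelianGroup.map g c) (funext (h i))

theorem ddS_ddS (k : ℕ) (c : FreeAbelianGroup (S _⦋k + 1 + 1⦌)) : ddS S k (ddS S (k + 1) c) = 0 := by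
  rw [← d_freeS, ← d_freeS, ← ConcreteCategory.comp_apply, HomologicalComplex.d_comp_d]
  rfl

variable {L K : SimplicialObject (Type u)} (f : L ⟶ K)

/-- Forgetting one coordinate of a tuple but keeping the common image. -/
def omit' {m : ℕ} (p : SimplexCategory) (j : Fin (m + 1)) (x : Pow f m p) : K.obj (op p) × (Fin m → L.obj (op p)) :=
  (f.app _ (x.1 0), fun i => x.1 (j.succAbove i))

/-- Chains killed by all the projections. -/
def InZ {m : ℕ} (p : SimplexCategory) (c : FreeAbelianGroup (Pow f m p)) : Prop :=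
  ∀ j, FreeAbelianGroup.map (omit' f p j) c = 0

/-- Chains killed by all the projections but one. -/
def InA {m : ℕ} (p : SimplexCategory) (c : FreeAbelianGroup (Pow f (m + 1) p)) : Prop :=
  ∀ j : Fin (m + 1), FreeAbelianGroup.map (omit' f p j.succ) c = 0

theorem omit_powMap {m : ℕ} {p q : SimplexCategory} (θ : q ⟶ p) (j : Fin (m + 1)) (x y : Pow f m p)
    (h : omit' f p j x = omit' f p j y) : omit' f q j (powMap f m θ x) = omit' f q j (powMap f m θ y) := by
  simp only [omit', Prod.mk.injEq, funext_iff] at h ⊢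
  exact ⟨(app_map f θ _).trans ((congrArg _ h.1).trans (app_map f θ _).symm), fun i => congrArg (L.map θ.op) (h.2 i)⟩

theorem omit_kills_map {m : ℕ} {p q : SimplexCategory} (θ : q ⟶ p) (j : Fin (m + 1))
    (c : FreeAbelianGroup (Pow f m p)) (hc : FreeAbelianGroup.map (omit' f p j) c = 0) :
    FreeAbelianGroup.map (omit' f q j) (FreeAbelianGroup.map (powMap f m θ) c) = 0 := by
  rw [← FreeAbelianGroup.map_comp_apply]
  exact map_eq_zero_of_factor _ _ (omit_powMap f θ j) c hc

theorem ddS_pow {m : ℕ} (k : ℕ) (c : FreeAbelianGroup (Pow f m ⦋k + 1⦌)) :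
    (show FreeAbelianGroup (Pow f m ⦋k⦌) from ddS (powObj f m) k c) =
      ∑ i : Fin (k + 2), ((-1 : ℤ) ^ (i : ℕ)) • FreeAbelianGroup.map (powMap f m (SimplexCategory.δ i)) c :=
  ddS_apply (powObj f m) k c

theorem omit_kills_ddS {m : ℕ} (k : ℕ) (j : Fin (m + 1)) (c : FreeAbelianGroup (Pow f m ⦋k + 1⦌))
    (hc : FreeAbelianGroup.map (omit' f ⦋k + 1⦌ j) c = 0) :
    FreeAbelianGroup.map (omit' f ⦋k⦌ j) (show FreeAbelianGroup (Pow f m ⦋k⦌) from ddS (powObj f m) k c) = 0 := by
  rw [ddS_pow, map_sum]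
  exact Finset.sum_eq_zero fun i _ => by rw [map_zsmul, omit_kills_map f _ j c hc, zsmul_zero]

/-- Dropping the zeroth coordinate. -/
def tail {m : ℕ} {p : SimplexCategory} (x : Pow f (m + 1) p) : Pow f m p :=
  ⟨fun i => x.1 i.succ, fun i => (x.2 i.succ).trans (x.2 _).symm⟩

theorem tail_δ {m k : ℕ} (i : Fin (k + 2)) (x : Pow f (m + 1) ⦋k + 1⦌) :
    (powObj f m).δ i (tail f x) = tail f ((powObj f (m + 1)).δ i x) :=
  rfl

theorem InA.tail {m : ℕ} {p : SimplexCategory} {c : FreeAbelianGroup (Pow f (m + 1) p)} (hc : InA f p c) :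
    InZ f p (FreeAbelianGroup.map (HypercovLib.tail f) c) := fun j => by
  rw [← FreeAbelianGroup.map_comp_apply]
  refine map_eq_zero_of_factor (omit' f p j.succ) _ (fun x y h => ?_) c (hc j)
  simp only [omit', Prod.mk.injEq, funext_iff, Function.comp_apply, HypercovLib.tail] at h ⊢
  refine ⟨?_, fun i => ?_⟩
  · exact (x.2 _).trans (h.1.trans (y.2 _).symm)
  · rw [← Fin.succ_succAbove_succ]
    exact h.2 i.succ

theorem InA.inZ {m : ℕ} {p : SimplexCategory} {c : FreeAbelianGroup (Pow f (m + 1) p)} (hc : InA f p c)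
    (h0 : FreeAbelianGroup.map (HypercovLib.tail f) c = 0) : InZ f p c := fun j => by
  refine Fin.cases ?_ hc j
  refine map_eq_zero_of_factor (HypercovLib.tail f) _ (fun x y h => ?_) c h0
  simp only [omit', Prod.mk.injEq, funext_iff, Fin.succAbove_zero, HypercovLib.tail, Subtype.mk.injEq] at h ⊢
  exact ⟨(x.2 _).symm.trans ((congrArg _ (h 0)).trans (y.2 _)), h⟩

/-- Prepending a chosen preimage of the common image. -/
def ins {m : ℕ} {p : SimplexCategory} (x : Pow f m p) : FreeAbelianGroup (Pow f (m + 1) p) :=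
  open scoped Classical in
  if h : ∃ y, f.app _ y = f.app _ (x.1 0) then
    FreeAbelianGroup.of ⟨Fin.cons h.choose x.1, fun i => Fin.cases rfl (fun i => (x.2 i).trans h.choose_spec.symm) i⟩
  else 0

theorem map_ins_congr {m : ℕ} {p : SimplexCategory} (j : Fin (m + 1)) (x y : Pow f m p)
    (h : omit' f p j x = omit' f p j y) :
    FreeAbelianGroup.map (omit' f p j.succ) (ins f x) = FreeAbelianGroup.map (omit' f p j.succ) (ins f y) := by
  classical
  simp only [omit', Prod.mk.injEq, funext_iff] at h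
  by_cases hx : ∃ z, f.app _ z = f.app _ (x.1 0)
  · have hy : ∃ z, f.app _ z = f.app _ (y.1 0) := h.1 ▸ hx
    have hc : hx.choose = hy.choose := by congr 1; exact funext fun z => by rw [h.1]
    rw [ins, ins, dif_pos hx, dif_pos hy, FreeAbelianGroup.map_of_apply, FreeAbelianGroup.map_of_apply]
    refine congrArg _ (Prod.ext ?_ (funext fun i => ?_))
    · show f.app _ ((Fin.cons hx.choose x.1 : Fin (m + 2) → L.obj (op p)) 0) =
        f.app _ ((Fin.cons hy.choose y.1 : Fin (m + 2) → L.obj (op p)) 0)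
      rw [Fin.cons_zero, Fin.cons_zero, hc]
    · show (Fin.cons hx.choose x.1 : Fin (m + 2) → L.obj (op p)) (j.succ.succAbove i) =
        (Fin.cons hy.choose y.1 : Fin (m + 2) → L.obj (op p)) (j.succ.succAbove i)
      refine Fin.cases ?_ (fun i' => ?_) i
      · rw [Fin.succAbove_ne_zero_zero (Fin.succ_ne_zero j), Fin.cons_zero, Fin.cons_zero, hc]
      · rw [Fin.succ_succAbove_succ, Fin.cons_succ, Fin.cons_succ, h.2 i']
  · have hy : ¬ ∃ z, f.app _ z = f.app _ (y.1 0) := h.1 ▸ hx
    rw [ins, ins, dif_neg hx, dif_neg hy]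

theorem InZ.exists_lift {m : ℕ} {p : SimplexCategory} {c : FreeAbelianGroup (Pow f m p)} (hc : InZ f p c)
    (hsupp : c ∈ AddSubgroup.closure (FreeAbelianGroup.of '' {x | ∃ y, f.app _ y = f.app _ (x.1 0)})) :
    ∃ a, InA f p a ∧ FreeAbelianGroup.map (HypercovLib.tail f) a = c := by
  classical
  refine ⟨FreeAbelianGroup.lift (ins f) c, fun j => ?_, ?_⟩
  · have e : (FreeAbelianGroup.map (omit' f p j.succ)).comp (FreeAbelianGroup.lift (ins f)) =
        FreeAbelianGroup.lift fun x => FreeAbelianGroup.map (omit' f p j.succ) (ins f x) :=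
      FreeAbelianGroup.lift_ext _ _ fun x => by
        rw [AddMonoidHom.comp_apply, FreeAbelianGroup.lift_apply_of, FreeAbelianGroup.lift_apply_of]
    rw [← AddMonoidHom.comp_apply, e]
    exact lift_eq_zero_of_factor _ _ (map_ins_congr f j) c (hc j)
  · refine AddSubgroup.closure_induction (fun z hz => ?_) (by simp) (fun a b _ _ ha hb => by simp [map_add, ha, hb])
      (fun a _ ha => by simp [map_neg, ha]) hsupp
    obtain ⟨x, hx, rfl⟩ := hz
    rw [FreeAbelianGroup.lift_apply_of, ins, dif_pos (show ∃ y, f.app _ y = f.app _ (x.1 0) from hx),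
      FreeAbelianGroup.map_of_apply]
    refine congrArg _ (Subtype.ext (funext fun i => ?_))
    simp [HypercovLib.tail]

variable {n : ℕ} (hL : Det L n) (hK : Det K n)
  (hinj : ∀ a : SimplexCategory, a.len < n → Function.Injective (f.app (op a)))

include hL hK hinj in
/-- **The chains killed by all projections but one are acyclic.** -/
theorem InA.exists_boundary {m k : ℕ} {c : FreeAbelianGroup (Pow f (m + 1) ⦋k⦌)} (hc : InA f _ c)
    (hcyc : Cyc (powObj f (m + 1)) k c) :
    ∃ e : FreeAbelianGroup (Pow f (m + 1) ⦋k + 1⦌), InA f _ e ∧ ddS (powObj f (m + 1)) k e = c := by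
  let H := (powHomotopy f hL hK hinj (m + 1)).whiskerRight AddCommGrpCat.free.{u}
  let e : FreeAbelianGroup (Pow f (m + 1) ⦋k + 1⦌) :=
    ∑ l : Fin (k + 1), ((-1 : ℤ) ^ (l : ℕ)) • FreeAbelianGroup.map (hcomp f hL hK hinj (m + 1) l) c
  refine ⟨e, fun j => ?_, ?_⟩
  · rw [map_sum]
    refine Finset.sum_eq_zero fun l _ => ?_
    rw [map_zsmul, ← FreeAbelianGroup.map_comp_apply]
    refine (congrArg (fun z => ((-1 : ℤ) ^ (l : ℕ)) • z)
      (map_eq_zero_of_factor (omit' f _ j.succ) _ (fun x y h => ?_) c (hc j))).trans (zsmul_zero _)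
    simp only [omit', Prod.mk.injEq, funext_iff, Function.comp_apply] at h ⊢
    have h0 : x.1 0 = y.1 0 := by
      have := h.2 0
      rwa [Fin.succAbove_ne_zero_zero (Fin.succ_ne_zero j)] at this
    refine ⟨?_, fun i => ?_⟩
    · simp only [hcomp]
      rw [app_mix f hL hK hinj, app_mix f hL hK hinj, h0]
    · simp only [hcomp, h0, h.2 i]
  · have hdiag : FreeAbelianGroup.map (diag f : Pow f (m + 1) ⦋k⦌ → _) c = 0 := by
      refine map_eq_zero_of_factor (omit' f _ (0 : Fin (m + 1)).succ) _ (fun x y h => ?_) c (hc 0)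
      simp only [omit', Prod.mk.injEq, funext_iff] at h
      have := h.2 0
      rw [Fin.succAbove_ne_zero_zero (Fin.succ_ne_zero _)] at this
      exact Subtype.ext (funext fun _ => this)
    let P := (alternatingFaceMapComplex AddCommGrpCat.{u}).obj (freeS (powObj f (m + 1)))
    have hcomm := ConcreteCategory.congr_hom (H.toChainHomotopy.comm k) c
    have hhom : (H.toChainHomotopy.hom k (k + 1) c : FreeAbelianGroup (Pow f (m + 1) ⦋k + 1⦌)) = -e := by
      show SimplicialObject.Homotopy.ToChainHomotopy.hom H k (k + 1) c = -e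
      rw [SimplicialObject.Homotopy.ToChainHomotopy.hom_eq]
      show -((∑ l : Fin (k + 1), ((-1 : ℤ) ^ (l : ℕ)) • H.h l) c) = -e
      rw [sum_hom_apply']
      rfl
    rw [prevD_eq (j' := k + 1) (w := by simp)] at hcomm
    have hd : dNext k (fun i j => H.toChainHomotopy.hom i j) c = 0 := by
      cases k with
      | zero =>
        rw [dNext_eq_zero _ _ (by simp)]
        rfl
      | succ k =>
        rw [dNext_eq (i' := k) (w := by simp)]
        show H.toChainHomotopy.hom k (k + 1) (P.d (k + 1) k c) = 0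
        rw [show P.d (k + 1) k c = 0 from (d_freeS (powObj f (m + 1)) k c).trans ((cyc_succ (powObj f (m + 1))).1 hcyc)]
        exact map_zero _
    have h2 : FreeAbelianGroup.map (diag f : Pow f (m + 1) ⦋k⦌ → _) c =
        (show FreeAbelianGroup (Pow f (m + 1) ⦋k⦌) from dNext k (fun i j => H.toChainHomotopy.hom i j) c) +
          (show FreeAbelianGroup (Pow f (m + 1) ⦋k⦌) from P.d (k + 1) k (H.toChainHomotopy.hom k (k + 1) c)) +
          FreeAbelianGroup.map id c := hcomm
    have key : ∀ A B : FreeAbelianGroup (Pow f (m + 1) ⦋k⦌), A = 0 →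
        B = -(show FreeAbelianGroup (Pow f (m + 1) ⦋k⦌) from ddS (powObj f (m + 1)) k e) →
        0 = A + B + c → ddS (powObj f (m + 1)) k e = c := fun A B hA hB h => by
      rw [hA, hB, zero_add] at h
      exact neg_injective (eq_neg_of_add_eq_zero_left h.symm)
    refine key _ _ hd ?_ (hdiag.symm.trans (h2.trans (congrArg _ (FreeAbelianGroup.map_id_apply c))))
    refine (congrArg (P.d (k + 1) k) hhom).trans ?_
    exact (d_freeS (powObj f (m + 1)) k (-e)).trans (map_neg (ddS (powObj f (m + 1)) k) e)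

end HypercovLib
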