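import Groth.Agent.HypercovLib.PshKer
import Mathlib

/-! # Special morphisms of coskeletal simplicial presheaves induce isomorphisms on homology sheaves -/

set_option autoImplicit false
universe u

open CategoryTheory CategoryTheory.Limits Opposite Simplicial AlgebraicTopology

noncomputable section

namespace HypercovLib

variable {C : Type u} [SmallCategory C] (J : GrothendieckTopology C)

/-- The free simplicial abelian presheaf. -/
abbrev freeP : SimplicialObject (Cᵒᵖ ⥤ Type u) ⥤ SimplicialObject (Cᵒᵖ ⥤ AddCommGrpCat.{u}) :=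
  (SimplicialObject.whiskering _ _).obj ((Functor.whiskeringRight Cᵒᵖ (Type u) AddCommGrpCat.{u}).obj AddCommGrpCat.free.{u})

/-- Its chain complex. -/
abbrev FC (S : SimplicialObject (Cᵒᵖ ⥤ Type u)) : ChainComplex (Cᵒᵖ ⥤ AddCommGrpCat.{u}) ℕ :=
  (alternatingFaceMapComplex _).obj (freeP.obj S)

theorem FC_d_apply (S : SimplicialObject (Cᵒᵖ ⥤ Type u)) (k : ℕ) (U : C)
    (c : FreeAbelianGroup ((sect S U) _⦋k + 1⦌)) : ((FC S).d (k + 1) k).app (op U) c = ddS (sect S U) k c := by
  rw [alternatingFaceMapComplex_obj_d]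
  simp only [AlternatingFaceMapComplex.objD, NatTrans.app_sum, NatTrans.app_zsmul]
  refine (sum_hom_apply' (A := ((FC S).X (k + 1)).obj (op U)) (B := ((FC S).X k).obj (op U)) Finset.univ _ c).trans ?_
  rw [ddS_apply]
  rfl

theorem ev_exact {T : ShortComplex (Cᵒᵖ ⥤ AddCommGrpCat.{u})} (hT : T.Exact) (U : Cᵒᵖ) (x : T.X₂.obj U)
    (hx : T.g.app U x = 0) : ∃ y, T.f.app U y = x :=
  (ShortComplex.ab_exact_iff _).1 (hT.map ((evaluation Cᵒᵖ AddCommGrpCat.{u}).obj U)) x hx

variable {L K : SimplicialObject (Cᵒᵖ ⥤ Type u)} (φ : L ⟶ K) {n : ℕ}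

/-- The map of free complexes. -/
abbrev FCMap : FC L ⟶ FC K :=
  (alternatingFaceMapComplex _).map (freeP.map φ)

variable (hL : ∀ U, Det (sect L U) n) (hK : ∀ U, Det (sect K U) n)
  (hbij : ∀ (U : C) (a : SimplexCategory), a.len < n → Function.Bijective ((sectMap φ U).app (op a)))
  (hn : Presheaf.IsLocallySurjective J (φ.app (op ⦋n⦌)))

include hL hK hbij hn in
theorem exists_chain_lift (k : ℕ) {U : C} (c : FreeAbelianGroup ((sect K U) _⦋k⦌)) :
    ∃ R ∈ J U, ∀ (V : C) (g : V ⟶ U), R g → ∃ b : FreeAbelianGroup ((sect L V) _⦋k⦌),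
      FreeAbelianGroup.map ((sectMap φ V).app (op ⦋k⦌)) b = FreeAbelianGroup.map (resS K g) c := by
  haveI := isLocallySurjective_app φ J hL hK hbij hn ⦋k⦌
  induction c using FreeAbelianGroup.induction_on with
  | zero => exact ⟨⊤, J.top_mem U, fun V g _ => ⟨0, by simp⟩⟩
  | of y =>
    refine ⟨_, Presheaf.imageSieve_mem J (φ.app (op ⦋k⦌)) (U := op U) y, fun V g hg => ?_⟩
    obtain ⟨x, hx⟩ := hg
    exact ⟨FreeAbelianGroup.of x, by
      rw [FreeAbelianGroup.map_of_apply, FreeAbelianGroup.map_of_apply]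
      exact congrArg FreeAbelianGroup.of hx⟩
  | neg y ih =>
    obtain ⟨R, hR, h⟩ := ih
    refine ⟨R, hR, fun V g hg => ?_⟩
    obtain ⟨b, hb⟩ := h V g hg
    exact ⟨-b, by rw [map_neg, map_neg, hb]⟩
  | add y y' ih ih' =>
    obtain ⟨R, hR, h⟩ := ih
    obtain ⟨R', hR', h'⟩ := ih'
    refine ⟨R ⊓ R', J.intersection_covering hR hR', fun V g hg => ?_⟩
    obtain ⟨b, hb⟩ := h V g hg.1
    obtain ⟨b', hb'⟩ := h' V g hg.2
    exact ⟨b + b', by rw [map_add, map_add, hb, hb']⟩

include hL hK hbij hn in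
theorem exists_ker_boundary (k : ℕ) {U : C} (c : FreeAbelianGroup ((sect L U) _⦋k⦌))
    (hc : FreeAbelianGroup.map ((sectMap φ U).app (op ⦋k⦌)) c = 0) (hcyc : Cyc (sect L U) k c) :
    ∃ R ∈ J U, ∀ (V : C) (g : V ⟶ U), R g → ∃ e : FreeAbelianGroup ((sect L V) _⦋k + 1⦌),
      FreeAbelianGroup.map ((sectMap φ V).app (op ⦋k + 1⦌)) e = 0 ∧
        ddS (sect L V) k e = FreeAbelianGroup.map (resS L g) c := by
  let one : ∀ (V : C) (l : ℕ), (sect L V) _⦋l⦌ → Pow (sectMap φ V) 0 ⦋l⦌ := fun V l x =>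
    ⟨fun _ => x, fun _ => rfl⟩
  have h1 : InZ (sectMap φ U) ⦋k⦌ (FreeAbelianGroup.map (one U k) c) := fun j => by
    rw [← FreeAbelianGroup.map_comp_apply]
    refine map_eq_zero_of_factor _ _ (fun x y h => Prod.ext h (funext fun i => i.elim0)) c hc
  have h2 : Cyc (powObj (sectMap φ U) 0) k (FreeAbelianGroup.map (one U k) c) := by
    intro l hl
    subst hl
    refine (ddS_comm (sect L U) (T := powObj (sectMap φ U) 0) (one U (l + 1)) (one U l) (fun i x => rfl) c).trans ?_
    rw [(cyc_succ (sect L U)).1 hcyc, map_zero]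
  obtain ⟨R, hR, h⟩ := InZ.exists_boundary φ J hL hK hbij hn k h1 h2
  refine ⟨R, hR, fun V g hg => ?_⟩
  obtain ⟨e, he, hde⟩ := h V g hg
  refine ⟨FreeAbelianGroup.map (fun x : Pow (sectMap φ V) 0 ⦋k + 1⦌ => x.1 0) e, ?_, ?_⟩
  · refine Eq.trans (FreeAbelianGroup.map_comp_apply (f := fun x : Pow (sectMap φ V) 0 ⦋k + 1⦌ => x.1 0)
      (g := fun x => (sectMap φ V).app (op ⦋k + 1⦌) x) e).symm ?_
    exact map_eq_zero_of_factor (omit' (sectMap φ V) ⦋k + 1⦌ 0) _ (fun x y h => congrArg Prod.fst h) e (he 0)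
  · refine (ddS_comm (powObj (sectMap φ V) 0) (T := sect L V) (fun x : Pow (sectMap φ V) 0 ⦋k + 1⦌ => x.1 0)
      (fun x : Pow (sectMap φ V) 0 ⦋k⦌ => x.1 0) (fun i x => rfl) e).trans ?_
    refine (congrArg (FreeAbelianGroup.map fun x : Pow (sectMap φ V) 0 ⦋k⦌ => x.1 0) hde).trans ?_
    refine Eq.trans (congrArg _ (FreeAbelianGroup.map_comp_apply (f := one U k) (g := powRes φ g) c).symm) ?_
    exact (FreeAbelianGroup.map_comp_apply (f := powRes φ g ∘ one U k)
      (g := fun x : Pow (sectMap φ V) 0 ⦋k⦌ => x.1 0) c).symm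

theorem FCMap_app (k : ℕ) (U : C) (c : FreeAbelianGroup ((sect L U) _⦋k⦌)) :
    ((FCMap φ).f k).app (op U) c = FreeAbelianGroup.map ((sectMap φ U).app (op ⦋k⦌)) c :=
  rfl

theorem FC_map_apply (S : SimplicialObject (Cᵒᵖ ⥤ Type u)) (k : ℕ) {U V : C} (g : V ⟶ U)
    (c : FreeAbelianGroup ((sect S U) _⦋k⦌)) : ((FC S).X k).map g.op c = FreeAbelianGroup.map (resS S g) c :=
  rfl

theorem FCMap_dd (k : ℕ) (U : C) (c : FreeAbelianGroup ((sect L U) _⦋k + 1⦌)) :
    FreeAbelianGroup.map ((sectMap φ U).app (op ⦋k⦌)) (ddS (sect L U) k c) =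
      ddS (sect K U) k (FreeAbelianGroup.map ((sectMap φ U).app (op ⦋k + 1⦌)) c) :=
  (ddS_comm (sect L U) (T := sect K U) _ _ (fun i x => (app_map (sectMap φ U) (SimplexCategory.δ i) x).symm) c).symm

theorem dd_resS (S : SimplicialObject (Cᵒᵖ ⥤ Type u)) (k : ℕ) {U V : C} (g : V ⟶ U)
    (c : FreeAbelianGroup ((sect S U) _⦋k + 1⦌)) :
    ddS (sect S V) k (FreeAbelianGroup.map (resS S g) c) = FreeAbelianGroup.map (resS S g) (ddS (sect S U) k c) :=
  ddS_comm (sect S U) (T := sect S V) _ _ (fun i x => map_resS S g (SimplexCategory.δ i) x) c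

include hL hK hbij hn in
theorem isLocallyInjective_homologyMap (k : ℕ) :
    Presheaf.IsLocallyInjective J (HomologicalComplex.homologyMap (FCMap φ) k) := by
  refine ⟨fun {U} x y hxy => ?_⟩
  let P := FC L
  let Q := FC K
  haveI : Epi ((P.homologyπ k).app U) := (NatTrans.epi_iff_epi_app _).1 inferInstance U
  obtain ⟨z, hz⟩ := (AddCommGrpCat.epi_iff_surjective ((P.homologyπ k).app U)).1 inferInstance (x - y)
  have h0 : (Q.homologyπ k).app U ((HomologicalComplex.cyclesMap (FCMap φ) k).app U z) = 0 := by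
    rw [← NatTrans.comp_app_apply, ← HomologicalComplex.homologyπ_naturality, NatTrans.comp_app_apply, hz, map_sub,
      hxy, sub_self]
  obtain ⟨b, hb⟩ := ev_exact (ShortComplex.exact_of_g_is_cokernel
    (ShortComplex.mk (Q.toCycles (k + 1) k) (Q.homologyπ k) (Q.toCycles_comp_homologyπ (k + 1) k))
    (Q.homologyIsCokernel (k + 1) k (by simp))) U _ h0
  change (Q.toCycles (k + 1) k).app U b = _ at hb
  let c : FreeAbelianGroup ((sect L U.unop) _⦋k⦌) := (P.iCycles k).app U z
  have hc : FreeAbelianGroup.map ((sectMap φ U.unop).app (op ⦋k⦌)) c = ddS (sect K U.unop) k b := by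
    rw [← FCMap_app, ← FC_d_apply]
    show ((P.iCycles k) ≫ (FCMap φ).f k).app U z = _
    rw [← HomologicalComplex.cyclesMap_i, NatTrans.comp_app_apply, ← hb, ← NatTrans.comp_app_apply,
      HomologicalComplex.toCycles_i]
  obtain ⟨R, hR, hlift⟩ := exists_chain_lift J φ hL hK hbij hn (k + 1) (U := U.unop) b
  choose b' hb' using hlift
  have hd : ∀ (V : C) (g : V ⟶ U.unop) (hg : R g),
      ∃ R' ∈ J V, ∀ (W : C) (r : W ⟶ V), R' r → ∃ e : FreeAbelianGroup ((sect L W) _⦋k + 1⦌),
        FreeAbelianGroup.map ((sectMap φ W).app (op ⦋k + 1⦌)) e = 0 ∧ ddS (sect L W) k e =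
          FreeAbelianGroup.map (resS L r) (FreeAbelianGroup.map (resS L g) c - ddS (sect L V) k (b' V g hg)) := by
    intro V g hg
    refine exists_ker_boundary J φ hL hK hbij hn k _ ?_ ?_
    · rw [map_sub, FCMap_dd, hb', dd_resS, sub_eq_zero, ← hc, ← FreeAbelianGroup.map_comp_apply,
        ← FreeAbelianGroup.map_comp_apply]
      exact congrArg (fun F => FreeAbelianGroup.map F c) (funext fun t => app_resS φ g t)
    · intro l hl
      subst hl
      show ddS (sect L V) l _ = 0
      rw [map_sub, ddS_ddS, dd_resS, sub_zero]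
      have : ddS (sect L U.unop) l c = 0 := by
        rw [← FC_d_apply]
        show ((P.iCycles (l + 1)) ≫ P.d (l + 1) l).app U z = 0
        rw [HomologicalComplex.iCycles_d]
        rfl
      rw [this, map_zero]
  choose R' hR' he using hd
  refine J.superset_covering (fun W w hw => ?_) (J.bind_covering hR hR')
  obtain ⟨V, r, g, hg, hr, rfl⟩ := hw
  obtain ⟨e, -, hde⟩ := he V g hg W r hr
  show (P.homology k).map (r ≫ g).op x = (P.homology k).map (r ≫ g).op y
  rw [← sub_eq_zero, ← map_sub, ← hz, ← NatTrans.naturality_apply]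
  let a : FreeAbelianGroup ((sect L W) _⦋k + 1⦌) := e + FreeAbelianGroup.map (resS L r) (b' V g hg)
  have ha : (P.cycles k).map (r ≫ g).op z = (P.toCycles (k + 1) k).app (op W) a := by
    haveI : Mono ((P.iCycles k).app (op W)) := (NatTrans.mono_iff_mono_app _).1 inferInstance _
    refine (AddCommGrpCat.mono_iff_injective ((P.iCycles k).app (op W))).1 inferInstance ?_
    rw [NatTrans.naturality_apply, ← NatTrans.comp_app_apply, HomologicalComplex.toCycles_i]
    refine (FC_map_apply L k (r ≫ g) c).trans (Eq.trans ?_ (FC_d_apply L k W a).symm)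
    rw [map_add, hde, dd_resS, map_sub, sub_add_cancel]
    refine (congrArg (fun F => FreeAbelianGroup.map F c) (funext fun t => ?_)).trans (FreeAbelianGroup.map_comp_apply c)
    show (L.obj (op ⦋k⦌)).map (r ≫ g).op t = (L.obj (op ⦋k⦌)).map r.op ((L.obj (op ⦋k⦌)).map g.op t)
    rw [op_comp, Functor.map_comp]
    rfl
  rw [ha, ← NatTrans.comp_app_apply, HomologicalComplex.toCycles_comp_homologyπ]
  rfl

include hL hK hbij hn in
theorem isLocallySurjective_homologyMap (k : ℕ) :
    Presheaf.IsLocallySurjective J (HomologicalComplex.homologyMap (FCMap φ) k) := by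
  refine ⟨fun {U} y => ?_⟩
  let P := FC L
  let Q := FC K
  haveI : Epi ((Q.homologyπ k).app (op U)) := (NatTrans.epi_iff_epi_app _).1 inferInstance (op U)
  obtain ⟨z, rfl⟩ := (AddCommGrpCat.epi_iff_surjective ((Q.homologyπ k).app (op U))).1 inferInstance y
  let c : FreeAbelianGroup ((sect K U) _⦋k⦌) := (Q.iCycles k).app (op U) z
  obtain ⟨R, hR, hlift⟩ := exists_chain_lift J φ hL hK hbij hn k c
  choose a ha using hlift
  have hfix : ∀ (V : C) (g : V ⟶ U) (hg : R g), ∃ R' ∈ J V, ∀ (W : C) (r : W ⟶ V), R' r →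
      ∃ a' : FreeAbelianGroup ((sect L W) _⦋k⦌), Cyc (sect L W) k a' ∧
        FreeAbelianGroup.map ((sectMap φ W).app (op ⦋k⦌)) a' =
          FreeAbelianGroup.map (resS K r) (FreeAbelianGroup.map (resS K g) c) := by
    intro V g hg
    have hres : ∀ (W : C) (r : W ⟶ V), FreeAbelianGroup.map ((sectMap φ W).app (op ⦋k⦌))
        (FreeAbelianGroup.map (resS L r) (a V g hg)) =
          FreeAbelianGroup.map (resS K r) (FreeAbelianGroup.map (resS K g) c) := fun W r => by
      rw [← ha V g hg, ← FreeAbelianGroup.map_comp_apply, ← FreeAbelianGroup.map_comp_apply]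
      exact congrArg (fun F => FreeAbelianGroup.map F (a V g hg)) (funext fun t => app_resS φ r t)
    cases k with
    | zero =>
      exact ⟨⊤, J.top_mem V, fun W r _ => ⟨FreeAbelianGroup.map (resS L r) (a V g hg), cyc_zero _ _, hres W r⟩⟩
    | succ l =>
      have hcl : ddS (sect K U) l c = 0 := by
        rw [← FC_d_apply]
        show ((Q.iCycles (l + 1)) ≫ Q.d (l + 1) l).app (op U) z = 0
        rw [HomologicalComplex.iCycles_d]
        rfl
      obtain ⟨R', hR', he⟩ := exists_ker_boundary J φ hL hK hbij hn l (ddS (sect L V) l (a V g hg))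
        (by rw [FCMap_dd, ha, dd_resS, hcl, map_zero])
        (fun i hi => by subst hi; exact ddS_ddS _ i _)
      refine ⟨R', hR', fun W r hr => ?_⟩
      obtain ⟨e, he0, hde⟩ := he W r hr
      refine ⟨FreeAbelianGroup.map (resS L r) (a V g hg) - e, (cyc_succ _).2 ?_, ?_⟩
      · rw [map_sub, dd_resS, hde, sub_self]
      · rw [map_sub, he0, sub_zero, hres]
  choose R' hR' hfix using hfix
  refine J.superset_covering (fun W w hw => ?_) (J.bind_covering hR hR')
  obtain ⟨V, r, g, hg, hr, rfl⟩ := hw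
  obtain ⟨a', hcyc, haφ⟩ := hfix V g hg W r hr
  have hd : (P.d k ((ComplexShape.down ℕ).next k)).app (op W) a' = 0 := by
    cases k with
    | zero =>
      rw [HomologicalComplex.shape _ _ _ (by simp)]
      rfl
    | succ l =>
      obtain h : (ComplexShape.down ℕ).next (l + 1) = l := (ComplexShape.down ℕ).next_eq' rfl
      rw [h]
      exact (FC_d_apply L l W a').trans ((cyc_succ _).1 hcyc)
  obtain ⟨z', hz'⟩ := ev_exact (ShortComplex.exact_of_f_is_kernel
    (ShortComplex.mk (P.iCycles k) (P.d k ((ComplexShape.down ℕ).next k)) (P.iCycles_d _ _))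
    (P.cyclesIsKernel k _ rfl)) (op W) a' hd
  change (P.iCycles k).app (op W) z' = a' at hz'
  refine ⟨(P.homologyπ k).app (op W) z', ?_⟩
  rw [← NatTrans.comp_app_apply, HomologicalComplex.homologyπ_naturality, NatTrans.comp_app_apply,
    ← NatTrans.naturality_apply]
  refine congrArg ((Q.homologyπ k).app (op W)) ?_
  haveI : Mono ((Q.iCycles k).app (op W)) := (NatTrans.mono_iff_mono_app _).1 inferInstance _
  refine (AddCommGrpCat.mono_iff_injective ((Q.iCycles k).app (op W))).1 inferInstance ?_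
  rw [← NatTrans.comp_app_apply, HomologicalComplex.cyclesMap_i, NatTrans.comp_app_apply, hz', NatTrans.naturality_apply]
  refine (FCMap_app φ k W a').trans (haφ.trans (Eq.trans ?_ (FC_map_apply K k (r ≫ g) c).symm))
  refine (FreeAbelianGroup.map_comp_apply c).symm.trans (congrArg (fun F => FreeAbelianGroup.map F c) (funext fun t => ?_))
  show (K.obj (op ⦋k⦌)).map r.op ((K.obj (op ⦋k⦌)).map g.op t) = (K.obj (op ⦋k⦌)).map (r ≫ g).op t
  rw [op_comp, Functor.map_comp]
  rfl

include hL hK hbij hn in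
/-- **A special morphism induces isomorphisms on the homology sheaves of the free complexes.** -/
theorem isIso_homologyMap_sheafify (k : ℕ) :
    IsIso (HomologicalComplex.homologyMap ((alternatingFaceMapComplex (Sheaf J AddCommGrpCat.{u})).map
      (((SimplicialObject.whiskering _ _).obj (presheafToSheaf J AddCommGrpCat.{u})).map (freeP.map φ))) k) := by
  let a := presheafToSheaf J AddCommGrpCat.{u}
  haveI : PreservesFiniteColimits a := inferInstance
  haveI : a.PreservesHomology := inferInstance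
  haveI := isLocallyInjective_homologyMap J φ hL hK hbij hn k
  haveI := isLocallySurjective_homologyMap J φ hL hK hbij hn k
  have hW : IsIso (a.map (HomologicalComplex.homologyMap (FCMap φ) k)) :=
    (J.W_iff _).1 (J.W_of_isLocallyBijective _)
  have h := ShortComplex.mapHomologyIso_hom_naturality ((HomologicalComplex.shortComplexFunctor _ _ k).map (FCMap φ)) a
  haveI : IsIso (HomologicalComplex.homologyMap ((a.mapHomologicalComplex _).map (FCMap φ)) k) := by
    let g := (((FC K).sc k).mapHomologyIso a).hom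
    haveI : IsIso (HomologicalComplex.homologyMap ((a.mapHomologicalComplex _).map (FCMap φ)) k ≫ g) := by
      rw [show HomologicalComplex.homologyMap ((a.mapHomologicalComplex _).map (FCMap φ)) k ≫ g =
        (((FC L).sc k).mapHomologyIso a).hom ≫ a.map (HomologicalComplex.homologyMap (FCMap φ) k) from h]
      exact @IsIso.comp_isIso _ _ _ _ _ _ _ inferInstance hW
    exact IsIso.of_isIso_comp_right _ g
  rw [show ((alternatingFaceMapComplex (Sheaf J AddCommGrpCat.{u})).map
      (((SimplicialObject.whiskering _ _).obj a).map (freeP.map φ))) = _ ≫ ((a.mapHomologicalComplex _).map (FCMap φ)) ≫ _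
    from (Functor.congr_hom (map_alternatingFaceMapComplex a).symm (freeP.map φ)),
    HomologicalComplex.homologyMap_comp, HomologicalComplex.homologyMap_comp]
  infer_instance

end HypercovLib
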