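import Groth.Agent.HypercovLib.UnivFill
import Groth.Agent.HypercovLib.SRCov
import Groth.Agent.HypercovLib.Elem
import Groth.Agent.HypercovLib.Cone
import Groth.Agent.HypercovLib.Boundary
import Mathlib

/-! # The universal object is a hypercovering -/

set_option autoImplicit false
universe u

open CategoryTheory CategoryTheory.Limits Opposite Simplicial

noncomputable section

namespace HypercovLib

variable {D : Type u} [SmallCategory D]

theorem simp'_hom_ext (W : D) (N : ℕ) {n : SimplexCategoryᵒᵖ} {Y : FormalCoproduct.{u} D}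
    {x y : (simp' W N).obj n ⟶ Y} (h : ∀ p : n.unop ⟶ ⦋N⦌, simpι W n p ≫ x = simpι W n p ≫ y) : x = y := by
  refine (FormalCoproduct.hom_ext_iff' _ _).2 fun p => ?_
  obtain ⟨hf, hφ⟩ := (FormalCoproduct.hom_ext_iff' _ _).1 (h p.down) PUnit.unit
  refine ⟨hf, ?_⟩
  have hφ' : (𝟙 W ≫ x.φ ⟨p.down⟩) ≫ eqToHom (congrArg Y.obj hf) = 𝟙 W ≫ y.φ ⟨p.down⟩ := hφ
  rw [Category.id_comp, Category.id_comp] at hφ'
  exact hφ'

/-- The map out of the copies of a simplex given by a point. -/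
def simpLift {W : D} {N : ℕ} (G : SimplicialObject (FormalCoproduct.{u} D))
    (c : (FormalCoproduct.incl D).obj W ⟶ G.obj (op ⦋N⦌)) : simp' W N ⟶ G where
  app n := { f := fun p => (c ≫ G.map p.down.op).f PUnit.unit, φ := fun p => (c ≫ G.map p.down.op).φ PUnit.unit }
  naturality n n' θ := simp'_hom_ext W N fun p => by
    rw [← Category.assoc, simpι_map]
    refine FormalCoproduct.hom_ext_iff' _ _ |>.2 fun _ => ?_
    obtain ⟨hf, hφ⟩ := (FormalCoproduct.hom_ext_iff' _ _).1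
      (show c ≫ G.map (θ.unop ≫ p).op = (c ≫ G.map p.op) ≫ G.map θ from by
        rw [op_comp, G.map_comp, Category.assoc]; rfl) PUnit.unit
    refine ⟨hf, ?_⟩
    show (𝟙 W ≫ (c ≫ G.map (θ.unop ≫ p).op).φ PUnit.unit) ≫ _ =
      𝟙 W ≫ ((c ≫ G.map p.op).φ PUnit.unit ≫ (G.map θ).φ _)
    rw [Category.id_comp, Category.id_comp]
    exact hφ

theorem simpι_simpLift {W : D} {N : ℕ} (G : SimplicialObject (FormalCoproduct.{u} D))
    (c : (FormalCoproduct.incl D).obj W ⟶ G.obj (op ⦋N⦌)) (n : SimplexCategoryᵒᵖ) (p : n.unop ⟶ ⦋N⦌) :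
    simpι W n p ≫ (simpLift G c).app n = c ≫ G.map p.op := by
  refine FormalCoproduct.hom_ext rfl fun _ => ?_
  show (𝟙 W ≫ (c ≫ G.map p.op).φ PUnit.unit) ≫ eqToHom _ = (c ≫ G.map p.op).φ PUnit.unit
  simp

/-- A covering criterion for the comparison with the coskeleton: local filling of spheres. -/
theorem locLift_unit_of_fills (J : GrothendieckTopology D) (K : SimplicialObject (FormalCoproduct.{u} D)) (m : ℕ)
    [∀ F : (SimplexCategory.Truncated m)ᵒᵖ ⥤ FormalCoproduct.{u} D,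
      (SimplexCategory.Truncated.inclusion m).op.HasRightKanExtension F]
    (hF : ∀ (U : D) (v : ∀ a : SimplexCategory, a.len ≤ m → (a ⟶ ⦋m + 1⦌) →
        ((FormalCoproduct.incl D).obj U ⟶ K.obj (op a))),
      (∀ (a b : SimplexCategory) (ha : a.len ≤ m) (hb : b.len ≤ m) (β : b ⟶ a) (θ : a ⟶ ⦋m + 1⦌),
        v a ha θ ≫ K.map β.op = v b hb (β ≫ θ)) →
      ∃ R ∈ J U, ∀ (V : D) (g : V ⟶ U), R g → ∃ e : (FormalCoproduct.incl D).obj V ⟶ K.obj (op ⦋m + 1⦌),
        ∀ (a : SimplexCategory) (ha : a.len ≤ m) (θ : a ⟶ ⦋m + 1⦌),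
          e ≫ K.map θ.op = (FormalCoproduct.incl D).map g ≫ v a ha θ) :
    LocLift J (((SimplicialObject.coskAdj m).unit.app K).app (op (SimplexCategory.mk (m + 1)))) := by
  intro U b
  let I := (SimplexCategory.Truncated.inclusion m).op
  let T := (SimplicialObject.truncation m).obj K
  let ε := (SimplicialObject.coskAdj m).counit.app T
  let η := (SimplicialObject.coskAdj m).unit.app K
  let G := (SimplicialObject.cosk m).obj K
  let pr : ∀ (a : SimplexCategory), a.len ≤ m → (a ⟶ ⦋m + 1⦌) → (G.obj (op ⦋m + 1⦌) ⟶ K.obj (op a)) :=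
    fun a ha θ => G.map θ.op ≫ ε.app (op (⟨a, ha⟩ : SimplexCategory.Truncated m))
  have htri : (SimplicialObject.truncation m).map η ≫ ε = 𝟙 _ :=
    (SimplicialObject.coskAdj m).left_triangle_components K
  have hpr : ∀ (a : SimplexCategory) (ha : a.len ≤ m) (θ : a ⟶ ⦋m + 1⦌),
      η.app (op ⦋m + 1⦌) ≫ pr a ha θ = K.map θ.op := fun a ha θ => by
    show η.app _ ≫ G.map θ.op ≫ _ = _
    rw [← Category.assoc]
    erw [← η.naturality θ.op]
    rw [Category.assoc]
    have e1 : η.app (op a) ≫ ε.app (op (⟨a, ha⟩ : SimplexCategory.Truncated m)) = 𝟙 _ :=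
      NatTrans.congr_app htri (op (⟨a, ha⟩ : SimplexCategory.Truncated m))
    erw [e1, Category.comp_id]
    rfl
  obtain ⟨R, hR, h⟩ := hF U (fun a ha θ => b ≫ pr a ha θ) fun a b' ha hb β θ => by
    rw [Category.assoc]
    refine congrArg (b ≫ ·) ?_
    show (G.map θ.op ≫ _) ≫ K.map β.op = G.map (β ≫ θ).op ≫ _
    rw [op_comp, G.map_comp, Category.assoc, Category.assoc]
    refine congrArg (G.map θ.op ≫ ·) ?_
    exact ((ε.naturality (show op (⟨a, ha⟩ : SimplexCategory.Truncated m) ⟶ op ⟨b', hb⟩ from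
      (ObjectProperty.homMk β).op))).symm
  refine ⟨R, hR, fun V g hg => ?_⟩
  obtain ⟨e, he⟩ := h V g hg
  refine ⟨e, ?_⟩
  let c := e ≫ η.app (op ⦋m + 1⦌)
  let c' := (FormalCoproduct.incl D).map g ≫ b
  have hcc : simpLift G c = simpLift G c' := by
    refine ((SimplicialObject.coskAdj m).homEquiv _ _).symm.injective ?_
    rw [Adjunction.homEquiv_counit, Adjunction.homEquiv_counit]
    refine NatTrans.ext (funext fun A => simp'_hom_ext V (m + 1) fun p => ?_)
    show simpι V (op A.unop.obj) p ≫ (simpLift G c).app (op A.unop.obj) ≫ ε.app A =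
      simpι V (op A.unop.obj) p ≫ (simpLift G c').app (op A.unop.obj) ≫ ε.app A
    rw [← Category.assoc, ← Category.assoc]
    erw [simpι_simpLift, simpι_simpLift]
    show (c ≫ G.map p.op) ≫ _ = (c' ≫ G.map p.op) ≫ _
    refine (Category.assoc c _ _).trans (Eq.trans ?_ (Category.assoc c' _ _).symm)
    show (e ≫ η.app _) ≫ pr A.unop.obj A.unop.property p = ((FormalCoproduct.incl D).map g ≫ b) ≫ pr A.unop.obj A.unop.property p
    rw [Category.assoc, Category.assoc]
    erw [hpr]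
    exact he A.unop.obj A.unop.property p
  have h' := congrArg (fun t => simpι V (op ⦋m + 1⦌) (𝟙 ⦋m + 1⦌) ≫ NatTrans.app t (op ⦋m + 1⦌)) hcc
  simp only [simpι_simpLift, op_id] at h'
  erw [G.map_id, Category.comp_id, Category.comp_id] at h'
  exact h'

variable (J : GrothendieckTopology D) {B : Set D}
  (hB : ∀ U : D, ∃ (ι : Type u) (Y : ι → D) (f : ∀ i, Y i ⟶ U), Sieve.ofArrows Y f ∈ J U ∧ ∀ i, Y i ∈ B)

include hB in
theorem univ_fills (m : ℕ) (U : D)
    (v : ∀ a : SimplexCategory, a.len ≤ m → (a ⟶ ⦋m + 1⦌) → ((FormalCoproduct.incl D).obj U ⟶ (UObj B).obj (op a)))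
    (hv : ∀ (a b : SimplexCategory) (ha : a.len ≤ m) (hb : b.len ≤ m) (β : b ⟶ a) (θ : a ⟶ ⦋m + 1⦌),
      v a ha θ ≫ (UObj B).map β.op = v b hb (β ≫ θ)) :
    ∃ R ∈ J U, ∀ (V : D) (g : V ⟶ U), R g → ∃ e : (FormalCoproduct.incl D).obj V ⟶ (UObj B).obj (op ⦋m + 1⦌),
      ∀ (a : SimplexCategory) (ha : a.len ≤ m) (θ : a ⟶ ⦋m + 1⦌),
        e ≫ (UObj B).map θ.op = (FormalCoproduct.incl D).map g ≫ v a ha θ := by
  obtain ⟨ι, Y, f, hcov, hY⟩ := hB U
  refine ⟨_, hcov, fun V g hg => ?_⟩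
  obtain ⟨_, γ, _, ⟨i⟩, rfl⟩ := hg
  obtain ⟨e, he⟩ := exists_fill (hY i) (f i) v hv
  exact ⟨(FormalCoproduct.incl D).map γ ≫ e, fun a ha θ => by
    rw [Category.assoc, he a ha θ, Functor.map_comp, Category.assoc]⟩

/-- A vertex for every object of the class. -/
theorem exists_univ_vertex {W : D} (hW : W ∈ B) :
    ∃ d : ((UObj B).obj (op ⦋0⦌)).I, ((UObj B).obj (op ⦋0⦌)).obj d = W :=
  ⟨⟨(Functor.const _).obj W, fun _ => hW⟩, rfl⟩

include hB in
/-- **The universal object is a hypercovering of the final object.** -/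
theorem univ_isHypercoveringSite
    [∀ (n : ℕ) (F : (SimplexCategory.Truncated n)ᵒᵖ ⥤ Limits.FormalCoproduct.{u} D),
      (SimplexCategory.Truncated.inclusion n).op.HasRightKanExtension F] :
    Hyper.IsHypercoveringSite J (UObj B) := by
  classical
  refine ⟨⟨fun {U} s => ?_⟩, ⟨fun {U} s => ?_⟩, fun n _ =>
    isLocallySurjective J _ ((locLift_iff J _).1 (locLift_unit_of_fills J (UObj B) n (univ_fills J hB n)))⟩
  · obtain ⟨ι, Y, f, hcov, hY⟩ := hB U
    refine J.superset_covering (fun V g hg => ?_) hcov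
    obtain ⟨_, γ, _, ⟨i⟩, rfl⟩ := hg
    obtain ⟨d, hd⟩ := exists_univ_vertex (hY i)
    refine ⟨el _ d (γ ≫ eqToHom hd.symm), ?_⟩
    exact yonedaEquiv.symm.injective (terminal.hom_ext _ _)
  · let Y₀ := FormalCoproduct.yoneda.obj ((UObj B).obj (op ⦋0⦌))
    let ya := (prod.fst : Y₀ ⨯ Y₀ ⟶ Y₀).app (op U) s
    let yb := (prod.snd : Y₀ ⨯ Y₀ ⟶ Y₀).app (op U) s
    obtain ⟨a, ha⟩ := ofHom_surjective ((UObj B).obj (op ⦋0⦌)) U ya
    obtain ⟨b, hb⟩ := ofHom_surjective ((UObj B).obj (op ⦋0⦌)) U yb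
    let z : (p : ⦋0⦌ ⟶ ⦋0 + 1⦌) → ((FormalCoproduct.incl D).obj U ⟶ (UObj B).obj (op ⦋0⦌)) := fun p =>
      if p.toOrderHom 0 = 0 then a else b
    let toZero : ∀ (A : SimplexCategory), A.len ≤ 0 → A = ⦋0⦌ := fun A hA => SimplexCategory.ext (Nat.le_zero.1 hA)
    let v : ∀ A : SimplexCategory, A.len ≤ 0 → (A ⟶ ⦋0 + 1⦌) →
        ((FormalCoproduct.incl D).obj U ⟶ (UObj B).obj (op A)) := fun A hA θ =>
      z (eqToHom (toZero A hA).symm ≫ θ) ≫ (UObj B).map (eqToHom (toZero A hA)).op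
    have hv : ∀ (A A' : SimplexCategory) (hA : A.len ≤ 0) (hA' : A'.len ≤ 0) (β : A' ⟶ A) (θ : A ⟶ ⦋0 + 1⦌),
        v A hA θ ≫ (UObj B).map β.op = v A' hA' (β ≫ θ) := by
      intro A A' hA hA' β θ
      obtain rfl := toZero A hA
      obtain rfl := toZero A' hA'
      obtain rfl : β = 𝟙 _ := SimplexCategory.Hom.ext _ _ (OrderHom.ext _ _ (funext fun x => Subsingleton.elim (α := Fin 1) _ _))
      simp [v]
    obtain ⟨R, hR, h⟩ := univ_fills J hB 0 U v hv
    refine J.superset_covering (fun V g hg => ?_) hR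
    obtain ⟨e, he⟩ := h V g hg
    refine ⟨ofHom _ e, prod_ext ?_ ?_⟩
    · rw [← NatTrans.comp_app_apply, prod.lift_fst, ofHom_map, NatTrans.naturality_apply]
      refine Eq.trans ?_ ((congrArg ((Y₀).map g.op) ha).symm.trans rfl).symm
      rw [ofHom_restrict]
      refine congrArg (ofHom _) ((he ⦋0⦌ le_rfl (SimplexCategory.δ (1 : Fin 2))).trans ?_)
      simp [v, z, SimplexCategory.δ]
    · rw [← NatTrans.comp_app_apply, prod.lift_snd, ofHom_map, NatTrans.naturality_apply]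
      refine Eq.trans ?_ ((congrArg ((Y₀).map g.op) hb).symm.trans rfl).symm
      rw [ofHom_restrict]
      refine congrArg (ofHom _) ((he ⦋0⦌ le_rfl (SimplexCategory.δ (0 : Fin 2))).trans ?_)
      simp [v, z, SimplexCategory.δ]

end HypercovLib

namespace HypercovLib

variable {C : Type u} [SmallCategory C] (J : GrothendieckTopology C) (X : C) {B : Set C}

/-- Objects over `X` whose source is in the class. -/
abbrev classOver (B : Set C) : Set (Over X) :=
  {V | V.left ∈ B}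

/-- Every object over `X` is covered by objects of the class. -/
theorem classOver_cover
    (h1 : ∀ U : C, ∃ (ι : Type u) (V : ι → C) (f : ∀ i, V i ⟶ U), Sieve.ofArrows V f ∈ J U ∧ ∀ i, V i ∈ B)
    (U : Over X) : ∃ (ι : Type u) (Y : ι → Over X) (f : ∀ i, Y i ⟶ U),
      Sieve.ofArrows Y f ∈ (J.over X) U ∧ ∀ i, Y i ∈ classOver X B := by
  obtain ⟨ι, V, f, hcov, hV⟩ := h1 U.left
  refine ⟨ι, fun i => Over.mk (f i ≫ U.hom), fun i => Over.homMk (f i), ?_, hV⟩
  rw [GrothendieckTopology.mem_over_iff]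
  refine J.superset_covering (fun Z g hg => ?_) hcov
  obtain ⟨_, γ, _, ⟨i⟩, rfl⟩ := hg
  rw [Sieve.overEquiv_iff]
  refine (Sieve.mem_ofArrows_iff _ _ _).2 ⟨i, Over.homMk γ (Category.assoc _ _ _).symm, ?_⟩
  exact Over.OverMorphism.ext rfl

variable [HasPullbacks C]
  [∀ (n : ℕ) (F : (SimplexCategory.Truncated n)ᵒᵖ ⥤ Limits.FormalCoproduct.{u} (Over X)),
    (SimplexCategory.Truncated.inclusion n).op.HasRightKanExtension F]

/-- **Hypercoverings with terms in a covering class exist.** -/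
theorem exists_hypercovering_in_class
    (h1 : ∀ U : C, ∃ (ι : Type u) (V : ι → C) (f : ∀ i, V i ⟶ U), Sieve.ofArrows V f ∈ J U ∧ ∀ i, V i ∈ B) :
    ∃ K : SimplicialObject (FormalCoproduct.{u} (Over X)), Hyper.IsHypercovering J X K ∧
      ∀ (n : ℕ) (i : (K.obj (op (SimplexCategory.mk n))).I),
        ((K.obj (op (SimplexCategory.mk n))).obj i).left ∈ B := by
  refine ⟨UObj (classOver X B), ⟨?_, fun n => (locLift_iff _ _).1
    (locLift_unit_of_fills (J.over X) _ n (univ_fills (J.over X) (classOver_cover J X h1) n))⟩,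
    fun n i => UObj_mem _ i⟩
  obtain ⟨ι, V, f, hcov, hV⟩ := h1 X
  refine J.superset_covering ((Sieve.generate_le_iff _ _).2 ?_) hcov
  rintro Z g ⟨i⟩
  obtain ⟨d, hd⟩ := exists_univ_vertex (B := classOver X B) (W := Over.mk (f i)) (hV i)
  refine (Sieve.mem_ofArrows_iff _ _ _).2 ⟨d, (eqToHom hd.symm).left, ?_⟩
  exact (Over.w (eqToHom hd.symm)).symm

end HypercovLib
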