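import Groth.Agent.HypercovLib.UnivFill
import Groth.Agent.HypercovLib.UnivHyper
import Groth.Agent.HypercovLib.Refine
import Mathlib

/-! # A degreewise finite part of the universal simplicial object which fills spheres -/

set_option autoImplicit false
set_option backward.isDefEq.respectTransparency false
universe u

open CategoryTheory CategoryTheory.Limits Opposite Simplicial

noncomputable section

namespace HypercovLib

variable {D : Type u} [SmallCategory D] (B : Set D)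

/-- A degreewise finite family of decorations closed under pullback. -/
structure FinSub where
  T : ∀ A : SimplexCategory, Set (UIdx B A)
  finite : ∀ A, (T A).Finite
  closed : ∀ {A A' : SimplexCategory} (θ : A' ⟶ A) (d : UIdx B A), d ∈ T A → upull θ d ∈ T A'

variable {B}

/-- The family generated by finitely many decorations. -/
def FinSub.gen {P : SimplexCategory} (G : Set (UIdx B P)) (hG : G.Finite) : FinSub B where
  T A := ⋃ θ : A ⟶ P, upull θ '' G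
  finite A := Set.finite_iUnion fun θ => hG.image _
  closed {A A'} θ d hd := by
    obtain ⟨τ, e, he, rfl⟩ := Set.mem_iUnion.1 hd
    exact Set.mem_iUnion.2 ⟨θ ≫ τ, e, he, upull_comp τ θ e⟩

/-- The union of two families. -/
def FinSub.union (S S' : FinSub B) : FinSub B where
  T A := S.T A ∪ S'.T A
  finite A := (S.finite A).union (S'.finite A)
  closed θ d hd := hd.imp (S.closed θ d) (S'.closed θ d)

/-- Indices of spheres. -/
abbrev SphJ (m : ℕ) : Type :=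
  Σ a : Fin (m + 1), (⦋a.val⦌ ⟶ ⦋m + 1⦌)

/-- Spheres of decorations in a family. -/
abbrev Sph (S : FinSub B) (m : ℕ) : Type u :=
  {s : ∀ j : SphJ m, {d : UIdx B ⦋j.1.val⦌ // d ∈ S.T ⦋j.1.val⦌} //
    ∀ (j : SphJ m) (b : Fin (m + 1)) (β : ⦋b.val⦌ ⟶ ⦋j.1.val⦌), upull β (s j).1 = (s ⟨b, β ≫ j.2⟩).1}

instance finite_sph (S : FinSub B) (m : ℕ) : Finite (Sph S m) := by
  haveI : ∀ j : SphJ m, Finite {d : UIdx B ⦋j.1.val⦌ // d ∈ S.T ⦋j.1.val⦌} := fun j => (S.finite _).to_subtype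
  infer_instance

variable [HasFiniteLimits D] {S : FinSub B} {m : ℕ}

/-- Relations of a sphere. -/
abbrev SphR (m : ℕ) : Type :=
  Σ j : SphJ m, Σ b : Fin (m + 1), (⦋b.val⦌ ⟶ ⦋j.1.val⦌)

/-- First map. -/
def sphL (s : Sph S m) : (∏ᶜ fun j : SphJ m => utop (s.1 j).1) ⟶
    ∏ᶜ fun r : SphR m => utop (s.1 ⟨r.2.1, r.2.2 ≫ r.1.2⟩).1 :=
  Pi.lift fun r : SphR m => Pi.π (fun j : SphJ m => utop (s.1 j).1) r.1 ≫ uφ r.2.2 (s.1 r.1).1 ≫
    eqToHom (congrArg utop (s.2 r.1 r.2.1 r.2.2))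

/-- Second map. -/
def sphR (s : Sph S m) : (∏ᶜ fun j : SphJ m => utop (s.1 j).1) ⟶
    ∏ᶜ fun r : SphR m => utop (s.1 ⟨r.2.1, r.2.2 ≫ r.1.2⟩).1 :=
  Pi.lift fun r : SphR m => Pi.π (fun j : SphJ m => utop (s.1 j).1) ⟨r.2.1, r.2.2 ≫ r.1.2⟩

/-- The object of spheres with given decorations. -/
abbrev sphW (s : Sph S m) : D :=
  equalizer (sphL s) (sphR s)

/-- The components. -/
def sphπ (s : Sph S m) (j : SphJ m) : sphW s ⟶ utop (s.1 j).1 :=
  equalizer.ι (sphL s) (sphR s) ≫ Pi.π (fun j : SphJ m => utop (s.1 j).1) j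

theorem sphπ_rel (s : Sph S m) (j : SphJ m) (b : Fin (m + 1)) (β : ⦋b.val⦌ ⟶ ⦋j.1.val⦌) :
    sphπ s j ≫ uφ β (s.1 j).1 ≫ eqToHom (congrArg utop (s.2 j b β)) = sphπ s ⟨b, β ≫ j.2⟩ := by
  have h := congrArg (fun t => t ≫ Pi.π (fun r : SphR m => utop (s.1 ⟨r.2.1, r.2.2 ≫ r.1.2⟩).1) ⟨j, b, β⟩)
    (equalizer.condition (sphL s) (sphR s))
  simp only [Category.assoc, sphL, sphR, Pi.lift_π] at h
  exact (Category.assoc _ _ _).trans h

/-- The tautological sphere. -/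
def sphv (s : Sph S m) (a : SimplexCategory) (ha : a.len ≤ m) (θ : a ⟶ ⦋m + 1⦌) :
    (FormalCoproduct.incl D).obj (sphW s) ⟶ (UObj B).obj (op a) :=
  { f := fun _ => (s.1 ⟨⟨a.len, Nat.lt_succ_of_le ha⟩, θ⟩).1
    φ := fun _ => sphπ s ⟨⟨a.len, Nat.lt_succ_of_le ha⟩, θ⟩ }

theorem sphv_map (s : Sph S m) (a b : SimplexCategory) (ha : a.len ≤ m) (hb : b.len ≤ m) (β : b ⟶ a)
    (θ : a ⟶ ⦋m + 1⦌) : sphv s a ha θ ≫ (UObj B).map β.op = sphv s b hb (β ≫ θ) := by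
  refine FormalCoproduct.hom_ext
    (funext fun _ => s.2 ⟨⟨a.len, Nat.lt_succ_of_le ha⟩, θ⟩ ⟨b.len, Nat.lt_succ_of_le hb⟩ β) fun _ => ?_
  refine Eq.trans ?_ (sphπ_rel s ⟨⟨a.len, Nat.lt_succ_of_le ha⟩, θ⟩ ⟨b.len, Nat.lt_succ_of_le hb⟩ β)
  exact Category.assoc _ _ _

/-- A sphere of points with decorations `s` comes from a map to the object of spheres. -/
theorem exists_sph_lift (s : Sph S m) {U : D}
    (v : ∀ a : SimplexCategory, a.len ≤ m → (a ⟶ ⦋m + 1⦌) → ((FormalCoproduct.incl D).obj U ⟶ (UObj B).obj (op a)))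
    (hv : ∀ (a b : SimplexCategory) (ha : a.len ≤ m) (hb : b.len ≤ m) (β : b ⟶ a) (θ : a ⟶ ⦋m + 1⦌),
      v a ha θ ≫ (UObj B).map β.op = v b hb (β ≫ θ))
    (hs : ∀ j : SphJ m, (v ⦋j.1.val⦌ (Nat.le_of_lt_succ j.1.isLt) j.2).f PUnit.unit = (s.1 j).1) :
    ∃ g : U ⟶ sphW s, ∀ (a : SimplexCategory) (ha : a.len ≤ m) (θ : a ⟶ ⦋m + 1⦌),
      (FormalCoproduct.incl D).map g ≫ sphv s a ha θ = v a ha θ := by
  let c : ∀ j : SphJ m, U ⟶ utop (s.1 j).1 := fun j =>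
    (v ⦋j.1.val⦌ (Nat.le_of_lt_succ j.1.isLt) j.2).φ PUnit.unit ≫ eqToHom (congrArg utop (hs j))
  refine ⟨equalizer.lift (Pi.lift c) (Pi.hom_ext _ _ fun r => ?_), fun a ha θ => ?_⟩
  · simp only [Category.assoc, sphL, sphR, Pi.lift_π, Pi.lift_π_assoc]
    obtain ⟨⟨j, θ⟩, b, β⟩ := r
    obtain ⟨hf, hφ⟩ := (FormalCoproduct.hom_ext_iff' _ _).1
      (hv ⦋j.val⦌ ⦋b.val⦌ (Nat.le_of_lt_succ j.isLt) (Nat.le_of_lt_succ b.isLt) β θ) PUnit.unit
    have hφ' : ((v ⦋j.val⦌ (Nat.le_of_lt_succ j.isLt) θ).φ PUnit.unit ≫ uφ β _) ≫ eqToHom (congrArg utop hf) =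
        (v ⦋b.val⦌ (Nat.le_of_lt_succ b.isLt) (β ≫ θ)).φ PUnit.unit := hφ
    show ((v _ _ θ).φ PUnit.unit ≫ eqToHom _) ≫ uφ β _ ≫ eqToHom _ = (v _ _ (β ≫ θ)).φ PUnit.unit ≫ eqToHom _
    rw [← hφ']
    have key : ∀ {d d' : UIdx B ⦋j.val⦌} (e : d = d') (f : U ⟶ utop d) {x : D} (h1 : utop (upull β d') = x)
        (h2 : utop (upull β d) = x), (f ≫ eqToHom (congrArg utop e)) ≫ uφ β d' ≫ eqToHom h1 = f ≫ uφ β d ≫ eqToHom h2 := by
      rintro d d' rfl f x h1 h2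
      simp
    rw [key (hs ⟨j, θ⟩) _ _ (congrArg utop ((congrArg (upull β) (hs ⟨j, θ⟩)).trans (s.2 ⟨j, θ⟩ b β)))]
    simp
  · refine FormalCoproduct.hom_ext (funext fun _ => (hs ⟨⟨a.len, Nat.lt_succ_of_le ha⟩, θ⟩).symm) fun _ => ?_
    show (equalizer.lift (Pi.lift c) _ ≫ equalizer.ι _ _ ≫ Pi.π _ _) ≫ eqToHom _ = _
    rw [equalizer.lift_ι_assoc, Pi.lift_π]
    simp [c]
    rfl

variable (J : GrothendieckTopology D)
  (hB : ∀ U : D, ∃ (ι : Type u) (_ : Finite ι) (Y : ι → D) (f : ∀ i, Y i ⟶ U), Sieve.ofArrows Y f ∈ J U ∧ ∀ i, Y i ∈ B)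

include hB in
theorem exists_step (S : FinSub B) (m : ℕ) : ∃ S' : FinSub B, (∀ A, S.T A ⊆ S'.T A) ∧
    (∀ A : SimplexCategory, A.len ≤ m → S'.T A ⊆ S.T A) ∧
    ∀ (U : D) (v : ∀ a : SimplexCategory, a.len ≤ m → (a ⟶ ⦋m + 1⦌) → ((FormalCoproduct.incl D).obj U ⟶ (UObj B).obj (op a))),
      (∀ (a b : SimplexCategory) (ha : a.len ≤ m) (hb : b.len ≤ m) (β : b ⟶ a) (θ : a ⟶ ⦋m + 1⦌),
        v a ha θ ≫ (UObj B).map β.op = v b hb (β ≫ θ)) →
      (∀ (a : SimplexCategory) (ha : a.len ≤ m) (θ : a ⟶ ⦋m + 1⦌), (v a ha θ).f PUnit.unit ∈ S.T a) →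
      ∃ R ∈ J U, ∀ (V : D) (g : V ⟶ U), R g → ∃ e : (FormalCoproduct.incl D).obj V ⟶ (UObj B).obj (op ⦋m + 1⦌),
        e.f PUnit.unit ∈ S'.T ⦋m + 1⦌ ∧ ∀ (a : SimplexCategory) (ha : a.len ≤ m) (θ : a ⟶ ⦋m + 1⦌),
          e ≫ (UObj B).map θ.op = (FormalCoproduct.incl D).map g ≫ v a ha θ := by
  classical
  choose ι hι Y f hcov hY using fun s : Sph S m => hB (sphW s)
  have he := fun (s : Sph S m) (i : ι s) => exists_fill (hY s i) (f s i) (sphv s) (sphv_map s)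
  choose e he using he
  haveI : ∀ s, Finite (ι s) := hι
  let G : Set (UIdx B ⦋m + 1⦌) := Set.range fun p : Σ s : Sph S m, ι s => (e p.1 p.2).f PUnit.unit
  have hG : G.Finite := Set.finite_range _
  refine ⟨S.union (FinSub.gen G hG), fun A => Set.subset_union_left, fun A hA d hd => ?_, fun U v hv hin => ?_⟩
  · refine hd.elim id fun hd => ?_
    obtain ⟨θ, g, ⟨⟨s, i⟩, rfl⟩, rfl⟩ := Set.mem_iUnion.1 hd
    have h : upull θ ((e s i).f PUnit.unit) = (s.1 ⟨⟨A.len, Nat.lt_succ_of_le hA⟩, θ⟩).1 :=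
      congrArg (fun t => t.f PUnit.unit) (he s i A hA θ)
    rw [h]
    exact (s.1 ⟨⟨A.len, Nat.lt_succ_of_le hA⟩, θ⟩).2
  · let s : Sph S m := ⟨fun j => ⟨(v ⦋j.1.val⦌ (Nat.le_of_lt_succ j.1.isLt) j.2).f PUnit.unit, hin _ _ _⟩,
      fun j b β => congrArg (fun t => t.f PUnit.unit)
        (hv ⦋j.1.val⦌ ⦋b.val⦌ (Nat.le_of_lt_succ j.1.isLt) (Nat.le_of_lt_succ b.isLt) β j.2)⟩
    obtain ⟨g, hg⟩ := exists_sph_lift s v hv fun j => rfl
    refine ⟨(Sieve.ofArrows (Y s) (f s)).pullback g, J.pullback_stable g (hcov s), fun V r hr => ?_⟩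
    obtain ⟨i, γ, hγ⟩ := Sieve.ofArrows.exists hr
    refine ⟨(FormalCoproduct.incl D).map γ ≫ e s i,
      Or.inr (Set.mem_iUnion.2 ⟨𝟙 _, _, ⟨⟨s, i⟩, rfl⟩, upull_id _⟩), fun a ha θ => ?_⟩
    rw [Category.assoc, he s i a ha θ, ← Category.assoc, ← Functor.map_comp, ← hγ, Functor.map_comp, Category.assoc,
      hg a ha θ]

section Object

variable (T : ∀ A : SimplexCategory, Set (UIdx B A))
  (hT : ∀ {A A' : SimplexCategory} (θ : A' ⟶ A) (d : UIdx B A), d ∈ T A → upull θ d ∈ T A')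

/-- The objects of a part. -/
abbrev partObj (A : SimplexCategoryᵒᵖ) : FormalCoproduct.{u} D :=
  ⟨↥(T A.unop), fun d => utop d.1⟩

/-- The inclusion of a part. -/
abbrev partIncl (A : SimplexCategoryᵒᵖ) : partObj T A ⟶ (UObj B).obj A :=
  { f := fun d => d.1, φ := fun _ => 𝟙 _ }

omit [HasFiniteLimits D] in
theorem partIncl_injective {A : SimplexCategoryᵒᵖ} {Z : FormalCoproduct.{u} D} {x y : Z ⟶ partObj T A}
    (h : x ≫ partIncl T A = y ≫ partIncl T A) : x = y := by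
  refine (FormalCoproduct.hom_ext_iff' _ _).2 fun i => ?_
  obtain ⟨hf, hφ⟩ := (FormalCoproduct.hom_ext_iff' _ _).1 h i
  refine ⟨Subtype.ext hf, ?_⟩
  have hφ' : (x.φ i ≫ 𝟙 _) ≫ eqToHom (congrArg ((UObj B).obj A).obj hf) = y.φ i ≫ 𝟙 _ := hφ
  rw [Category.comp_id, Category.comp_id] at hφ'
  exact hφ'

/-- The operators of a part. -/
abbrev partMap {A A' : SimplexCategoryᵒᵖ} (θ : A ⟶ A') : partObj T A ⟶ partObj T A' :=
  { f := fun d => ⟨upull θ.unop d.1, hT θ.unop d.1 d.2⟩, φ := fun d => uφ θ.unop d.1 }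

omit [HasFiniteLimits D] in
theorem partMap_incl {A A' : SimplexCategoryᵒᵖ} (θ : A ⟶ A') :
    partMap T hT θ ≫ partIncl T A' = partIncl T A ≫ (UObj B).map θ := by
  refine FormalCoproduct.hom_ext rfl fun d => ?_
  show (uφ θ.unop d.1 ≫ 𝟙 _) ≫ eqToHom _ = 𝟙 _ ≫ uφ θ.unop d.1
  simp

/-- The simplicial part. -/
def part : SimplicialObject (FormalCoproduct.{u} D) where
  obj := partObj T
  map θ := partMap T hT θ
  map_id A := partIncl_injective T (by rw [partMap_incl, (UObj B).map_id]; simp)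
  map_comp {A A' A''} θ θ' := partIncl_injective T (by
    rw [partMap_incl, (UObj B).map_comp, Category.assoc, partMap_incl, ← Category.assoc, ← Category.assoc,
      partMap_incl])

end Object

include hB in
/-- **A degreewise finite part of the universal object fills spheres.** -/
theorem exists_finite_part (G₀ : Set (UIdx B ⦋0⦌)) (hG₀ : G₀.Finite) :
    ∃ (T : ∀ A : SimplexCategory, Set (UIdx B A))
      (hT : ∀ {A A' : SimplexCategory} (θ : A' ⟶ A) (d : UIdx B A), d ∈ T A → upull θ d ∈ T A'),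
      (∀ A, (T A).Finite) ∧ G₀ ⊆ T ⦋0⦌ ∧ ∀ (m : ℕ) (U : D)
        (v : ∀ a : SimplexCategory, a.len ≤ m → (a ⟶ ⦋m + 1⦌) → ((FormalCoproduct.incl D).obj U ⟶ (part T hT).obj (op a))),
        (∀ (a b : SimplexCategory) (ha : a.len ≤ m) (hb : b.len ≤ m) (β : b ⟶ a) (θ : a ⟶ ⦋m + 1⦌),
          v a ha θ ≫ (part T hT).map β.op = v b hb (β ≫ θ)) →
        ∃ R ∈ J U, ∀ (V : D) (g : V ⟶ U), R g → ∃ e : (FormalCoproduct.incl D).obj V ⟶ (part T hT).obj (op ⦋m + 1⦌),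
          ∀ (a : SimplexCategory) (ha : a.len ≤ m) (θ : a ⟶ ⦋m + 1⦌),
            e ≫ (part T hT).map θ.op = (FormalCoproduct.incl D).map g ≫ v a ha θ := by
  classical
  choose step h1 h2 h3 using fun (S : FinSub B) (m : ℕ) => exists_step J hB S m
  let stage : ℕ → FinSub B := fun n => Nat.rec (FinSub.gen G₀ hG₀) (fun m S => step S m) n
  have hmono : ∀ (A : SimplexCategory) (M N : ℕ), M ≤ N → (stage M).T A ⊆ (stage N).T A := fun A M N h => by
    induction N, h using Nat.le_induction with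
    | base => exact subset_rfl
    | succ N _ ih => exact ih.trans (h1 (stage N) N A)
  have hstab : ∀ (A : SimplexCategory) (M : ℕ), A.len ≤ M → (stage M).T A ⊆ (stage A.len).T A := fun A M h => by
    induction M, h using Nat.le_induction with
    | base => exact subset_rfl
    | succ M hM ih => exact (h2 (stage M) M A hM).trans ih
  let T : ∀ A : SimplexCategory, Set (UIdx B A) := fun A => (stage A.len).T A
  have hT : ∀ {A A' : SimplexCategory} (θ : A' ⟶ A) (d : UIdx B A), d ∈ T A → upull θ d ∈ T A' := fun {A A'} θ d hd => by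
    have h := (stage A.len).closed θ d hd
    rcases le_total A'.len A.len with hle | hle
    · exact hstab A' _ hle h
    · exact hmono A' _ _ hle h
  refine ⟨T, hT, fun A => (stage A.len).finite A,
    fun d hd => Set.mem_iUnion.2 ⟨𝟙 _, d, hd, upull_id d⟩, fun m U v hv => ?_⟩
  obtain ⟨R, hR, h⟩ := h3 (stage m) m U (fun a ha θ => v a ha θ ≫ partIncl T (op a))
    (fun a b ha hb β θ => by
      rw [Category.assoc, ← partMap_incl T hT β.op, ← Category.assoc]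
      exact congrArg (· ≫ partIncl T (op b)) (hv a b ha hb β θ))
    (fun a ha θ => hmono a _ _ ha ((v a ha θ).f PUnit.unit).2)
  refine ⟨R, hR, fun V g hg => ?_⟩
  obtain ⟨e, hem, he⟩ := h V g hg
  let e' : (FormalCoproduct.incl D).obj V ⟶ (part T hT).obj (op ⦋m + 1⦌) :=
    { f := fun _ => ⟨e.f PUnit.unit, hem⟩, φ := fun _ => e.φ PUnit.unit }
  have hee : e' ≫ partIncl T (op ⦋m + 1⦌) = e :=
    FormalCoproduct.hom_ext rfl fun _ => by simp [e']; exact Category.comp_id _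
  refine ⟨e', fun a ha θ => partIncl_injective T ?_⟩
  show (e' ≫ partMap T hT θ.op) ≫ partIncl T (op a) = _
  rw [Category.assoc, partMap_incl, reassoc_of% hee, he a ha θ]
  exact (Category.assoc _ _ _).symm

end HypercovLib

namespace HypercovLib

variable {C : Type u} [SmallCategory C] (J : GrothendieckTopology C) (X : C) {B : Set C}

/-- Every object over `X` has a finite covering by objects of the class. -/
theorem classOver_finite_cover
    (h : ∀ U : C, ∃ (ι : Type u) (_ : Finite ι) (V : ι → C) (f : ∀ i, V i ⟶ U), Sieve.ofArrows V f ∈ J U ∧ ∀ i, V i ∈ B)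
    (U : Over X) : ∃ (ι : Type u) (_ : Finite ι) (Y : ι → Over X) (f : ∀ i, Y i ⟶ U),
      Sieve.ofArrows Y f ∈ (J.over X) U ∧ ∀ i, Y i ∈ classOver X B := by
  obtain ⟨ι, hfin, V, f, hcov, hV⟩ := h U.left
  refine ⟨ι, hfin, fun i => Over.mk (f i ≫ U.hom), fun i => Over.homMk (f i), ?_, hV⟩
  rw [GrothendieckTopology.mem_over_iff]
  refine J.superset_covering (fun Z g hg => ?_) hcov
  obtain ⟨i, γ, rfl⟩ := Sieve.ofArrows.exists hg
  rw [Sieve.overEquiv_iff]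
  refine (Sieve.mem_ofArrows_iff _ _ _).2 ⟨i, Over.homMk γ (Category.assoc _ _ _).symm, ?_⟩
  exact Over.OverMorphism.ext rfl

variable [HasPullbacks C]
  [∀ (n : ℕ) (F : (SimplexCategory.Truncated n)ᵒᵖ ⥤ Limits.FormalCoproduct.{u} (Over X)),
    (SimplexCategory.Truncated.inclusion n).op.HasRightKanExtension F]

/-- **Hypercoverings with finitely many terms in each degree, all in the class, exist.** -/
theorem exists_finite_hypercovering_in_class
    (h : ∀ U : C, ∃ (ι : Type u) (_ : Finite ι) (V : ι → C) (f : ∀ i, V i ⟶ U), Sieve.ofArrows V f ∈ J U ∧ ∀ i, V i ∈ B) :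
    ∃ K : SimplicialObject (FormalCoproduct.{u} (Over X)), Hyper.IsHypercovering J X K ∧
      ∀ n : ℕ, Finite (K.obj (op (SimplexCategory.mk n))).I ∧
        ∀ i, ((K.obj (op (SimplexCategory.mk n))).obj i).left ∈ B := by
  classical
  haveI : HasFiniteLimits (Over X) := hasFiniteLimits_of_hasTerminal_and_pullbacks
  obtain ⟨ι, hι, V, f, hcov, hV⟩ := h X
  choose d hd using fun i : ι => exists_univ_vertex (B := classOver X B) (W := Over.mk (f i)) (hV i)
  haveI : Finite ι := hι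
  obtain ⟨T, hT, hfin, hG, hfill⟩ := exists_finite_part (J.over X) (classOver_finite_cover J X h) (Set.range d)
    (Set.finite_range d)
  refine ⟨part T hT, ⟨?_, fun n => (locLift_iff _ _).1 (locLift_unit_of_fills (J.over X) _ n (hfill n))⟩,
    fun n => ⟨(hfin _).to_subtype, fun i => UObj_mem _ i.1⟩⟩
  refine J.superset_covering ((Sieve.generate_le_iff _ _).2 ?_) hcov
  rintro Z g ⟨i⟩
  refine (Sieve.mem_ofArrows_iff _ _ _).2 ⟨⟨d i, hG ⟨i, rfl⟩⟩, (eqToHom (hd i).symm).left, ?_⟩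
  exact (Over.w (eqToHom (hd i).symm)).symm

end HypercovLib
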