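import Groth.Prelude.Def_Hyper
import Mathlib

/-! # The universal simplicial semi-representable object with terms in a class of objects -/

set_option autoImplicit false
universe u

open CategoryTheory CategoryTheory.Limits Opposite Simplicial

noncomputable section

namespace HypercovLib

variable {D : Type u} [SmallCategory D] (B : Set D)

/-- Decorations of a simplex by objects of the class. -/
abbrev UIdx (A : SimplexCategory) : Type u :=
  {d : (Over A)ᵒᵖ ⥤ D // ∀ j, d.obj j ∈ B}

variable {B}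

/-- Pulling back decorations. -/
def upull {A A' : SimplexCategory} (θ : A' ⟶ A) (d : UIdx B A) : UIdx B A' :=
  ⟨(Over.map θ).op ⋙ d.1, fun _ => d.2 _⟩

/-- The top object of a decoration. -/
abbrev utop {A : SimplexCategory} (d : UIdx B A) : D :=
  d.1.obj (op (Over.mk (𝟙 A)))

/-- The transition map of tops. -/
def uφ {A A' : SimplexCategory} (θ : A' ⟶ A) (d : UIdx B A) : utop d ⟶ utop (upull θ d) :=
  d.1.map (Quiver.Hom.op (Over.homMk θ))

theorem upull_id {A : SimplexCategory} (d : UIdx B A) : upull (𝟙 A) d = d := by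
  refine Subtype.ext ?_
  show (Over.map (𝟙 A)).op ⋙ d.1 = d.1
  rw [Over.mapId_eq]
  rfl

theorem upull_comp {A A' A'' : SimplexCategory} (θ : A' ⟶ A) (θ' : A'' ⟶ A') (d : UIdx B A) :
    upull (θ' ≫ θ) d = upull θ' (upull θ d) := by
  refine Subtype.ext ?_
  show (Over.map (θ' ≫ θ)).op ⋙ d.1 = (Over.map θ').op ⋙ (Over.map θ).op ⋙ d.1
  rw [Over.mapComp_eq]
  rfl

theorem eqToHom_utop {A : SimplexCategory} (d d' : UIdx B A) (h : d = d') (j : (Over A)ᵒᵖ) :
    d.1.obj j = d'.1.obj j := by
  rw [h]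

variable (B) in
/-- The universal simplicial object with terms in the class. -/
def UObj : SimplicialObject (FormalCoproduct.{u} D) where
  obj A := ⟨UIdx B A.unop, utop⟩
  map θ := { f := fun d => upull θ.unop d, φ := fun d => uφ θ.unop d }
  map_id A := by
    refine (FormalCoproduct.hom_ext_iff' _ _).2 fun d => ⟨upull_id d, ?_⟩
    show d.1.map _ ≫ eqToHom _ = 𝟙 _
    have h : (Over.map (𝟙 A.unop)).obj (Over.mk (𝟙 A.unop)) = Over.mk (𝟙 A.unop) := by
      rw [Over.mapId_eq]; rfl
    rw [show eqToHom _ = d.1.map (eqToHom (congrArg op h)) from (eqToHom_map d.1 (congrArg op h)).symm,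
      ← d.1.map_comp, ← d.1.map_id]
    exact congrArg d.1.map (Quiver.Hom.unop_inj (Over.OverMorphism.ext (by simp)))
  map_comp {A A' A''} θ θ' := by
    refine (FormalCoproduct.hom_ext_iff' _ _).2 fun d => ⟨upull_comp θ.unop θ'.unop d, ?_⟩
    show d.1.map _ ≫ eqToHom _ = d.1.map _ ≫ d.1.map ((Over.map θ.unop).op.map _)
    have h : (Over.map (θ'.unop ≫ θ.unop)).obj (Over.mk (𝟙 A''.unop)) =
        (Over.map θ.unop).obj ((Over.map θ'.unop).obj (Over.mk (𝟙 A''.unop))) := by
      rw [Over.mapComp_eq]; rfl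
    rw [show eqToHom _ = d.1.map (eqToHom (congrArg op h)) from (eqToHom_map d.1 (congrArg op h)).symm,
      ← d.1.map_comp, ← d.1.map_comp]
    exact congrArg d.1.map (Quiver.Hom.unop_inj (Over.OverMorphism.ext (by simp)))

theorem UObj_mem (A : SimplexCategoryᵒᵖ) (d : ((UObj B).obj A).I) : ((UObj B).obj A).obj d ∈ B :=
  d.2 _

end HypercovLib
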